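import Mathlib
import Cfsg.Prelude.Def_PLocal
import Cfsg.Agent.Lib.Helper16.ZJ2

/-!
# The elementary abelian family: `Ω₁(Z(J_e(D)))` as an intersection

Copies (for stability of imports) of auxiliary lemmas proved by helper16 in the files of
S0654, S0655 and S3079.
-/

set_option autoImplicit false
open Cfsg

namespace Cfsg.Agent.Lib.Helper57.ElemWW

theorem exists_max {S : Type*} [Group S] [Finite S] (p : ℕ) :
    (Cfsg.maxElementaryAbelianSubgroups p S).Nonempty := by
  classical
  have hfin : (Set.univ : Set (Subgroup S)).Finite := Set.finite_univ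
  have hne : ({A : Subgroup S | Cfsg.IsElementaryAbelian p A}).Nonempty := by
    refine ⟨⊥, ?_, ?_⟩
    · exact ⟨⟨fun a b => by
        have ha : a = 1 := Subsingleton.elim _ _
        have hb : b = 1 := Subsingleton.elim _ _
        rw [ha, hb]⟩⟩
    · intro a ha
      rw [Subgroup.mem_bot] at ha
      rw [ha, one_pow]
  obtain ⟨A, hA, hmax⟩ := Set.exists_max_image _ (fun A : Subgroup S => Nat.card A)
    (Set.toFinite _) hne
  exact ⟨A, hA, fun B hB => hmax B hB⟩

theorem mem_of_max {S : Type*} [Group S] [Finite S] {p : ℕ} {A : Subgroup S}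
    (hA : A ∈ Cfsg.maxElementaryAbelianSubgroups p S) {x : S} (hx : x ^ p = 1)
    (hc : ∀ a ∈ A, a * x = x * a) : x ∈ A := by
  classical
  obtain ⟨⟨hAc, hAp⟩, hmax⟩ := hA
  set B : Subgroup S := A ⊔ Subgroup.zpowers x with hB
  have hcomm : ∀ y ∈ B, ∀ z ∈ B, y * z = z * y := by
    have hgen : B = Subgroup.closure ((A : Set S) ∪ {x}) := by
      rw [hB, Subgroup.closure_union, Subgroup.closure_eq, Subgroup.zpowers_eq_closure]
    intro y hy z hz
    rw [hgen] at hy hz
    have hS : ∀ u ∈ ((A : Set S) ∪ {x}), ∀ v ∈ ((A : Set S) ∪ {x}), u * v = v * u := by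
      intro u hu v hv
      rcases hu with hu | hu <;> rcases hv with hv | hv
      · have := hAc.is_comm.comm ⟨u, hu⟩ ⟨v, hv⟩
        exact congrArg Subtype.val this
      · rw [Set.mem_singleton_iff] at hv; subst hv; exact hc u hu
      · rw [Set.mem_singleton_iff] at hu; subst hu; exact (hc v hv).symm
      · rw [Set.mem_singleton_iff] at hu hv; rw [hu, hv]
    exact Subgroup.closure_induction₂ (p := fun y z _ _ => y * z = z * y)
      (fun u v hu hv => hS u hu v hv) (fun u _ => by simp) (fun u _ => by simp)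
      (fun u v w _ _ _ h1 h2 => by rw [mul_assoc, h2, ← mul_assoc, h1, mul_assoc])
      (fun u v w _ _ _ h1 h2 => by rw [← mul_assoc, h1, mul_assoc, h2, ← mul_assoc])
      (fun u v _ _ h => by
        have : u⁻¹ * v = u⁻¹ * (v * u) * u⁻¹ := by group
        rw [this, ← h]; group)
      (fun u v _ _ h => by
        have : u * v⁻¹ = v⁻¹ * (v * u) * v⁻¹ := by group
        rw [this, ← h]; group) hy hz
  have hBel : Cfsg.IsElementaryAbelian p B := by
    refine ⟨⟨⟨fun a b => Subtype.ext (hcomm a a.2 b b.2)⟩⟩, ?_⟩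
    have hgen : B = Subgroup.closure ((A : Set S) ∪ {x}) := by
      rw [hB, Subgroup.closure_union, Subgroup.closure_eq, Subgroup.zpowers_eq_closure]
    intro y hy
    have hy' := hy
    rw [hgen] at hy'
    refine Subgroup.closure_induction (p := fun y _ => y ∈ B → y ^ p = 1) ?_ ?_ ?_ ?_ hy' hy
    · intro u hu _
      rcases hu with hu | hu
      · exact hAp u hu
      · rw [Set.mem_singleton_iff] at hu; rw [hu]; exact hx
    · intro _; exact one_pow p
    · intro u v hu hv h1 h2 _
      have huB : u ∈ B := by rw [hgen]; exact hu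
      have hvB : v ∈ B := by rw [hgen]; exact hv
      rw [(show Commute u v from hcomm u huB v hvB).mul_pow, h1 huB, h2 hvB, one_mul]
    · intro u hu h1 _
      have huB : u ∈ B := by rw [hgen]; exact hu
      rw [inv_pow, h1 huB, inv_one]
  have hle : A ≤ B := le_sup_left
  have hcard : Nat.card B ≤ Nat.card A := hmax B hBel
  have hEq : A = B := by
    apply Subgroup.eq_of_le_of_card_ge hle
    exact hcard
  rw [hEq]
  exact (le_sup_right : Subgroup.zpowers x ≤ B) (Subgroup.mem_zpowers x)

open Cfsg.Agent.Lib.Helper16 in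
theorem goodPred_elem {G : Type*} [Group G] (p : ℕ) :
    ZJ.GoodPred (fun U : Subgroup G => Cfsg.IsElementaryAbelian p U) where
  bot := by
    refine ⟨⟨⟨fun a b => ?_⟩⟩, ?_⟩
    · have ha : a = 1 := Subsingleton.elim _ _
      have hb : b = 1 := Subsingleton.elim _ _
      rw [ha, hb]
    · intro a ha
      rw [Subgroup.mem_bot] at ha
      rw [ha, one_pow]
  comm := fun _ h => h.1
  map := fun φ U h => by
    refine ⟨?_, ?_⟩
    · have := h.1
      exact Subgroup.map_isMulCommutative U φ.toMonoidHom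
    · rintro _ ⟨u, hu, rfl⟩
      rw [← map_pow, h.2 u hu, map_one]
  repl := fun A A' hA hc hexp => by
    refine ⟨hc, ?_⟩
    have h1 : Monoid.exponent ↥A ∣ p := by
      apply Monoid.exponent_dvd_of_forall_pow_eq_one
      intro a
      apply Subtype.ext
      simpa using hA.2 a.1 a.2
    have h2 : Monoid.exponent ↥A' ∣ p := hexp.trans h1
    intro a ha
    have := (Monoid.exponent_dvd_iff_forall_pow_eq_one.mp h2) ⟨a, ha⟩
    simpa using congrArg Subtype.val this

theorem isElem_map_iff {G : Type*} [Group G] (p : ℕ) (P : Subgroup G) (A' : Subgroup ↥P) :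
    Cfsg.IsElementaryAbelian p A' ↔ Cfsg.IsElementaryAbelian p (A'.map P.subtype) := by
  constructor
  · rintro ⟨h1, h2⟩
    refine ⟨(Cfsg.Agent.Lib.Helper16.GR.isMulCommutative_map_subtype_iff P A').mp h1, ?_⟩
    rintro _ ⟨a, ha, rfl⟩
    rw [← map_pow, h2 a ha, map_one]
  · rintro ⟨h1, h2⟩
    refine ⟨(Cfsg.Agent.Lib.Helper16.GR.isMulCommutative_map_subtype_iff P A').mpr h1, ?_⟩
    intro a ha
    have := h2 (P.subtype a) (Subgroup.mem_map_of_mem _ ha)
    apply Subtype.ext
    simpa using this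

open Cfsg.Agent.Lib.Helper16 in
theorem omegaOne_center_eq_WW {G : Type*} [Group G] [Finite G] {p : ℕ} (D : Subgroup G) :
    Cfsg.omegaOne p (Cfsg.centerThompsonOf p D) =
      ZJ.WW (fun U : Subgroup G => Cfsg.IsElementaryAbelian p U) D := by
  have hiff : ∀ U : Subgroup G,
      U ∈ Set.image (fun A : Subgroup ↥D => A.map D.subtype)
        (Cfsg.maxElementaryAbelianSubgroups p ↥D) ↔
      U ∈ ZJ.Fam (fun U : Subgroup G => Cfsg.IsElementaryAbelian p U) D := fun U =>
    GR.mem_image_max_iff D (fun A' => Cfsg.IsElementaryAbelian p A')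
      (fun U => Cfsg.IsElementaryAbelian p U) (isElem_map_iff p D) U
  have hJD : Cfsg.thompsonSubgroupOf p D ≤ D := Subgroup.map_subtype_le _
  have hle : ∀ A' ∈ Cfsg.maxElementaryAbelianSubgroups p ↥D,
      A'.map D.subtype ≤ Cfsg.thompsonSubgroupOf p D := fun A' hA' =>
    Subgroup.map_mono (le_sSup hA')
  apply le_antisymm
  · unfold Cfsg.omegaOne
    rw [Subgroup.closure_le]
    rintro x ⟨hx, hxp⟩
    change x ∈ (sInf (ZJ.Fam (fun U : Subgroup G => Cfsg.IsElementaryAbelian p U) D) : Subgroup G)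
    rw [Subgroup.mem_sInf]
    intro A hA
    obtain ⟨A', hA', rfl⟩ := (hiff A).mpr hA
    have hxD : x ∈ D := hJD hx.1
    have hmem : (⟨x, hxD⟩ : ↥D) ∈ A' := by
      apply mem_of_max hA'
      · apply Subtype.ext
        simpa using hxp
      · intro a ha
        apply Subtype.ext
        have haJ : (a : G) ∈ Cfsg.thompsonSubgroupOf p D :=
          hle A' hA' (Subgroup.mem_map_of_mem D.subtype ha)
        exact Subgroup.mem_centralizer_iff.mp hx.2 a haJ
    exact ⟨⟨x, hxD⟩, hmem, rfl⟩
  · intro x hx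
    obtain ⟨A₀, hA₀⟩ := exists_max (S := ↥D) p
    have hx' : ∀ A' ∈ Cfsg.maxElementaryAbelianSubgroups p ↥D, x ∈ A'.map D.subtype :=
      fun A' hA' => ZJ.WW_le_of_mem ((hiff _).mp ⟨A', hA', rfl⟩) hx
    unfold Cfsg.omegaOne
    apply Subgroup.subset_closure
    refine ⟨⟨hle A₀ hA₀ (hx' A₀ hA₀), ?_⟩, ?_⟩
    · have hJ : Cfsg.thompsonSubgroupOf p D ≤ Subgroup.centralizer ({x} : Set G) := by
        unfold Cfsg.thompsonSubgroupOf Cfsg.thompsonSubgroup
        rw [Subgroup.map_le_iff_le_comap]
        apply sSup_le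
        intro A' hA' a ha
        rw [Subgroup.mem_comap, Subgroup.mem_centralizer_iff]
        intro y hy
        rw [Set.mem_singleton_iff] at hy
        subst hy
        have hAF := (hiff (A'.map D.subtype)).mp ⟨A', hA', rfl⟩
        have hxA := hx' _ hA'
        have haA : D.subtype a ∈ A'.map D.subtype := Subgroup.mem_map_of_mem _ ha
        have := hAF.2.1.1.is_comm.comm ⟨y, hxA⟩ ⟨D.subtype a, haA⟩
        exact congrArg Subtype.val this
      change x ∈ Subgroup.centralizer (Cfsg.thompsonSubgroupOf p D : Set G)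
      rw [Subgroup.mem_centralizer_iff]
      intro y hy
      have h1 := hJ hy
      rw [Subgroup.mem_centralizer_iff] at h1
      exact (h1 x rfl).symm
    · have hAF := (hiff (A₀.map D.subtype)).mp ⟨A₀, hA₀, rfl⟩
      exact hAF.2.1.2 x (hx' A₀ hA₀)


end Cfsg.Agent.Lib.Helper57.ElemWW
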