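import Mathlib
import Cfsg.Agent.Lib.Helper16.ZJ3
import Cfsg.Agent.Lib.Helper57.ElemWW

/-!
# Families of predicates for Glauberman-type functors

`GoodFam p Q`: a predicate `Q X` on the subgroups of every group `X` (of a fixed universe) which is a
`ZJ.GoodPred` in each group, is transported by homomorphisms injective on the subgroup, and whose
intersection functor `ZJ.WW (Q X)` is nontrivial on nontrivial `p`-subgroups.
Instances: "abelian" and "elementary abelian".
-/

set_option autoImplicit false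
open Cfsg
open Cfsg.Agent.Lib.Helper16

universe u

namespace Cfsg.Agent.Lib.Helper57.GT

/-- a uniform family of predicates on subgroups, one for each group -/
structure GoodFam (p : ℕ) (Q : ∀ (X : Type u) [Group X], Subgroup X → Prop) : Prop where
  good : ∀ (X : Type u) [Group X], ZJ.GoodPred (Q X)
  map_iff : ∀ {X Y : Type u} [Group X] [Group Y] (f : X →* Y) (U : Subgroup X),
    U ⊓ f.ker = ⊥ → (Q Y (U.map f) ↔ Q X U)
  ne_bot : ∀ (X : Type u) [Group X] [Finite X] (R : Subgroup X), IsPGroup p R → R ≠ ⊥ →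
    ZJ.WW (Q X) R ≠ ⊥

section transport

variable {p : ℕ} {Q : ∀ (X : Type u) [Group X], Subgroup X → Prop}
variable {X Y : Type u} [Group X] [Group Y]

theorem inf_ker_eq_bot_of_le (f : X →* Y) {R U : Subgroup X} (hinj : R ⊓ f.ker = ⊥) (hU : U ≤ R) :
    U ⊓ f.ker = ⊥ :=
  le_bot_iff.mp (hinj ▸ inf_le_inf_right _ hU)

theorem Fam_map_iff (hQ : GoodFam p Q) [Finite X] (f : X →* Y) {R : Subgroup X}
    (hinj : R ⊓ f.ker = ⊥) (U : Subgroup Y) :
    U ∈ ZJ.Fam (Q Y) (R.map f) ↔ ∃ U₀ ∈ ZJ.Fam (Q X) R, U₀.map f = U := by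
  constructor
  · rintro ⟨hUR, hUc, hmax⟩
    have hmap := ZJ.map_comap_inf_of_le f hUR
    refine ⟨U.comap f ⊓ R, ⟨inf_le_right, ?_, ?_⟩, hmap⟩
    · apply (hQ.map_iff f _ (inf_ker_eq_bot_of_le f hinj inf_le_right)).mp
      rw [hmap]; exact hUc
    · intro V₀ hV₀ hV₀c
      have h1 := hmax (V₀.map f) (Subgroup.map_mono hV₀)
        ((hQ.map_iff f _ (inf_ker_eq_bot_of_le f hinj hV₀)).mpr hV₀c)
      rw [ZJ.card_map_of_inf_ker f hinj hV₀] at h1
      rw [← ZJ.card_map_of_inf_ker f hinj (inf_le_right : U.comap f ⊓ R ≤ R), hmap]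
      exact h1
  · rintro ⟨U₀, ⟨hU₀R, hU₀c, hmax⟩, rfl⟩
    refine ⟨Subgroup.map_mono hU₀R, ?_, ?_⟩
    · exact (hQ.map_iff f _ (inf_ker_eq_bot_of_le f hinj hU₀R)).mpr hU₀c
    · intro V hV hVc
      have hmap := ZJ.map_comap_inf_of_le f hV
      have hc : Q X (V.comap f ⊓ R) := by
        apply (hQ.map_iff f _ (inf_ker_eq_bot_of_le f hinj inf_le_right)).mp
        rw [hmap]; exact hVc
      have h1 := hmax _ inf_le_right hc
      rw [← ZJ.card_map_of_inf_ker f hinj (inf_le_right : V.comap f ⊓ R ≤ R), hmap] at h1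
      rw [ZJ.card_map_of_inf_ker f hinj hU₀R]
      exact h1

/-- transport of the intersection functor along a homomorphism injective on `R` -/
theorem WW_map (hQ : GoodFam p Q) [Finite X] (f : X →* Y) {R : Subgroup X}
    (hinj : R ⊓ f.ker = ⊥) :
    (ZJ.WW (Q X) R).map f = ZJ.WW (Q Y) (R.map f) := by
  apply le_antisymm
  · apply ZJ.le_WW
    intro U hU
    obtain ⟨U₀, hU₀, rfl⟩ := (Fam_map_iff hQ f hinj U).mp hU
    exact Subgroup.map_mono (ZJ.WW_le_of_mem hU₀)
  · intro x hx
    obtain ⟨A₀, hA₀⟩ := ZJ.Fam_nonempty (Q := Q X) (hQ.good X).bot R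
    have hx' : ∀ U₀ ∈ ZJ.Fam (Q X) R, x ∈ U₀.map f :=
      fun U₀ hU₀ => ZJ.WW_le_of_mem ((Fam_map_iff hQ f hinj _).mpr ⟨U₀, hU₀, rfl⟩) hx
    obtain ⟨r, hr, rfl⟩ := hx' A₀ hA₀
    have hrR : r ∈ R := hA₀.1 hr
    refine ⟨r, ?_, rfl⟩
    change r ∈ (sInf (ZJ.Fam (Q X) R) : Subgroup X)
    rw [Subgroup.mem_sInf]
    intro U₀ hU₀
    obtain ⟨u, hu, hur⟩ := hx' U₀ hU₀
    have : u = r := ZJ.injOn_of_inf_ker f hinj (hU₀.1 hu) hrR hur
    rw [← this]; exact hu

/-- transport along an injective homomorphism -/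
theorem WW_map_of_injective (hQ : GoodFam p Q) [Finite X] (f : X →* Y)
    (hf : Function.Injective f) (R : Subgroup X) :
    (ZJ.WW (Q X) R).map f = ZJ.WW (Q Y) (R.map f) := by
  apply WW_map hQ f
  rw [(MonoidHom.ker_eq_bot_iff f).mpr hf, inf_bot_eq]

end transport

section instances

variable {p : ℕ} [Fact p.Prime]

/-- a nontrivial `p`-subgroup has a nontrivial element central in it -/
theorem exists_central_of_ne_bot {X : Type u} [Group X] [Finite X] (R : Subgroup X)
    (hR : IsPGroup p R) (hne : R ≠ ⊥) :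
    ∃ z ∈ R, z ≠ 1 ∧ z ^ p = 1 ∧ ∀ r ∈ R, r * z = z * r := by
  have hp : p.Prime := Fact.out
  have : Nontrivial ↥R := (Subgroup.nontrivial_iff_ne_bot R).mpr hne
  have : Nontrivial (Subgroup.center ↥R) := hR.center_nontrivial
  have hZp : IsPGroup p (Subgroup.center ↥R) := hR.to_subgroup _
  have hcard : p ∣ Nat.card (Subgroup.center ↥R) := by
    obtain ⟨n, hn⟩ := IsPGroup.iff_card.mp hZp
    have h1 : 1 < Nat.card (Subgroup.center ↥R) := Finite.one_lt_card
    rw [hn] at h1 ⊢
    rcases Nat.eq_zero_or_pos n with h0 | h0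
    · rw [h0, pow_zero] at h1; omega
    · exact dvd_pow_self p h0.ne'
  obtain ⟨z, hz⟩ := exists_prime_orderOf_dvd_card' (G := Subgroup.center ↥R) p hcard
  refine ⟨((z : ↥R) : X), (z : ↥R).2, ?_, ?_, ?_⟩
  · intro h1
    have : z = 1 := Subtype.ext (Subtype.ext h1)
    rw [this, orderOf_one] at hz
    exact hp.one_lt.ne hz
  · have h1 : z ^ p = 1 := by rw [← hz]; exact pow_orderOf_eq_one z
    have := congrArg (fun w : Subgroup.center ↥R => ((w : ↥R) : X)) h1
    simpa using this
  · intro r hr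
    have := Subgroup.mem_center_iff.mp z.2 ⟨r, hr⟩
    exact congrArg Subtype.val this

/-- the family "abelian" -/
theorem goodFam_comm :
    GoodFam p (fun (X : Type u) [Group X] (U : Subgroup X) => IsMulCommutative ↥U) where
  good := fun X _ => ZJ.goodPred_comm
  map_iff := by
    intro X Y _ _ f U hinj
    constructor
    · intro h
      exact ZJ.comm_of_map_comm f hinj le_rfl h
    · intro h
      have := h
      exact Subgroup.map_isMulCommutative U f
  ne_bot := by
    intro X _ _ R hR hne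
    obtain ⟨z, hzR, hz1, -, hzc⟩ := exists_central_of_ne_bot R hR hne
    intro hbot
    apply hz1
    have hz : z ∈ ZJ.WW (fun U : Subgroup X => IsMulCommutative ↥U) R := by
      apply ZJ.le_WW (B := Subgroup.zpowers z)
      · intro A hA
        rw [Subgroup.zpowers_le]
        exact ZJ.mem_of_max_comm hA hzR (fun a ha => hzc a (hA.1 ha))
      · exact Subgroup.mem_zpowers z
    rw [hbot, Subgroup.mem_bot] at hz
    exact hz

omit [Fact p.Prime] in
/-- adjoining a commuting element of order dividing `p` to an elementary abelian subgroup -/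
theorem isElem_sup_zpowers {X : Type u} [Group X] {A : Subgroup X}
    (hA : Cfsg.IsElementaryAbelian p A) {z : X} (hzp : z ^ p = 1)
    (hc : ∀ a ∈ A, a * z = z * a) : Cfsg.IsElementaryAbelian p (A ⊔ Subgroup.zpowers z) := by
  have hcomm : IsMulCommutative ↥(A ⊔ Subgroup.zpowers z) := ZJ.comm_sup_zpowers hA.1 hc
  refine ⟨hcomm, ?_⟩
  let K : Subgroup X :=
    { carrier := {x | x ∈ A ⊔ Subgroup.zpowers z ∧ x ^ p = 1}
      one_mem' := ⟨Subgroup.one_mem _, one_pow p⟩
      mul_mem' := by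
        rintro x y ⟨hx, hxp⟩ ⟨hy, hyp⟩
        refine ⟨Subgroup.mul_mem _ hx hy, ?_⟩
        have hxy : Commute x y := by
          have := hcomm.is_comm.comm ⟨x, hx⟩ ⟨y, hy⟩
          exact congrArg Subtype.val this
        rw [hxy.mul_pow, hxp, hyp, one_mul]
      inv_mem' := by
        rintro x ⟨hx, hxp⟩
        exact ⟨Subgroup.inv_mem _ hx, by rw [inv_pow, hxp, inv_one]⟩ }
  have hK : A ⊔ Subgroup.zpowers z ≤ K := by
    apply sup_le
    · intro a ha
      exact ⟨(le_sup_left : A ≤ A ⊔ Subgroup.zpowers z) ha, hA.2 a ha⟩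
    · rw [Subgroup.zpowers_le]
      exact ⟨(le_sup_right : Subgroup.zpowers z ≤ A ⊔ Subgroup.zpowers z)
        (Subgroup.mem_zpowers z), hzp⟩
  intro x hx
  exact (hK hx).2

/-- the family "elementary abelian" -/
theorem goodFam_elem :
    GoodFam p (fun (X : Type u) [Group X] (U : Subgroup X) => Cfsg.IsElementaryAbelian p U) where
  good := fun X _ => ElemWW.goodPred_elem p
  map_iff := by
    intro X Y _ _ f U hinj
    constructor
    · rintro ⟨h1, h2⟩
      refine ⟨ZJ.comm_of_map_comm f hinj le_rfl h1, ?_⟩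
      intro a ha
      have h3 := h2 (f a) (Subgroup.mem_map_of_mem f ha)
      rw [← map_pow] at h3
      have h4 : f (a ^ p) = f 1 := by rw [h3, map_one]
      exact ZJ.injOn_of_inf_ker f hinj (U.pow_mem ha p) U.one_mem h4
    · rintro ⟨h1, h2⟩
      refine ⟨?_, ?_⟩
      · have := h1
        exact Subgroup.map_isMulCommutative U f
      · rintro _ ⟨a, ha, rfl⟩
        rw [← map_pow, h2 a ha, map_one]
  ne_bot := by
    intro X _ _ R hR hne
    obtain ⟨z, hzR, hz1, hzp, hzc⟩ := exists_central_of_ne_bot R hR hne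
    intro hbot
    apply hz1
    have hz : z ∈ ZJ.WW (fun U : Subgroup X => Cfsg.IsElementaryAbelian p U) R := by
      apply ZJ.le_WW (B := Subgroup.zpowers z)
      · intro A hA
        rw [Subgroup.zpowers_le]
        obtain ⟨hAR, hAQ, hmax⟩ := hA
        have hB := isElem_sup_zpowers hAQ hzp (fun a ha => hzc a (hAR ha))
        have hBR : A ⊔ Subgroup.zpowers z ≤ R :=
          sup_le hAR ((Subgroup.zpowers_le).mpr hzR)
        have hcard := hmax _ hBR hB
        have hEq : A = A ⊔ Subgroup.zpowers z :=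
          Subgroup.eq_of_le_of_card_ge le_sup_left hcard
        rw [hEq]
        exact (le_sup_right : Subgroup.zpowers z ≤ A ⊔ Subgroup.zpowers z)
          (Subgroup.mem_zpowers z)
      · exact Subgroup.mem_zpowers z
    rw [hbot, Subgroup.mem_bot] at hz
    exact hz

end instances

end Cfsg.Agent.Lib.Helper57.GT
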