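import Mathlib

set_option autoImplicit false

namespace Cfsg.Agent.Lib.Helper57.QuadPair

open Polynomial Module

theorem exists_eigenvector {K : Type*} [Field K] [Fintype K] {p : ℕ} [Fact p.Prime] [CharP K p]
    {W : Type*} [AddCommGroup W] [Module K W] [FiniteDimensional K W] [Nontrivial W]
    (f : Module.End K W) (e k : ℕ) (hk : k ∣ Fintype.card K - 1) (hf : f ^ (p ^ e * k) = 1) :
    ∃ (μ : K) (v : W), v ≠ 0 ∧ f v = μ • v := by
  classical
  have hq1 : 1 < Fintype.card K := Fintype.one_lt_card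
  have hsplit : Splits (X ^ Fintype.card K - X : K[X]) := by
    rw [splits_iff_card_roots, FiniteField.roots_X_pow_card_sub_X,
      FiniteField.X_pow_card_sub_X_natDegree_eq K hq1]
    simp
  have hne : (X ^ Fintype.card K - X : K[X]) ≠ 0 := FiniteField.X_pow_card_sub_X_ne_zero K hq1
  have h1 : (X ^ k - 1 : K[X]) ∣ X ^ Fintype.card K - X := by
    obtain ⟨m, hm⟩ := hk
    have e1 : (X ^ Fintype.card K - X : K[X]) = X * (X ^ (k * m) - 1) := by
      rw [← hm, mul_sub, mul_one, ← pow_succ']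
      congr 2
      omega
    rw [e1]
    exact Dvd.dvd.mul_left (pow_one_sub_dvd_pow_mul_sub_one X k m) X
  have h2 : Splits ((X ^ k - 1 : K[X]) ^ (p ^ e)) := (hsplit.of_dvd hne h1).pow _
  have h3 : ((X ^ k - 1 : K[X])) ^ (p ^ e) = X ^ (p ^ e * k) - 1 := by
    rw [sub_pow_char_pow, one_pow, ← pow_mul, mul_comm]
  have hk0 : k ≠ 0 := by
    rintro rfl
    rw [zero_dvd_iff] at hk
    omega
  have hne2 : (X ^ (p ^ e * k) - 1 : K[X]) ≠ 0 := by
    apply X_pow_sub_C_ne_zero (R := K) _ 1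
    have := (Fact.out : p.Prime).pos
    positivity
  have h4 : minpoly K f ∣ X ^ (p ^ e * k) - 1 := by
    apply minpoly.dvd
    simp [hf]
  rw [h3] at h2
  have h5 : Splits (minpoly K f) := h2.of_dvd hne2 h4
  have hint : IsIntegral K f := Algebra.IsIntegral.isIntegral f
  have h6 : degree (minpoly K f) ≠ 0 := (minpoly.degree_pos hint).ne'
  obtain ⟨μ, hμ⟩ := h5.exists_eval_eq_zero h6
  have h7 := Module.End.hasEigenvalue_of_isRoot (f := f) hμ
  obtain ⟨v, hv⟩ := h7.exists_hasEigenvector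
  exact ⟨μ, v, hv.2, hv.apply_eq_smul⟩


section
variable {K : Type*} [Field K] {Γ : Type*} [Group Γ] {W : Type*} [AddCommGroup W] [Module K W]

/-- restriction of a representation to an invariant submodule -/
def resHom (ρ : Γ →* (W ≃ₗ[K] W)) (W₁ : Submodule K W)
    (hinv : ∀ γ w, w ∈ W₁ → ρ γ w ∈ W₁) : Γ →* (W₁ ≃ₗ[K] W₁) where
  toFun γ :=
    { toFun := fun w => ⟨ρ γ w, hinv γ w w.2⟩
      invFun := fun w => ⟨ρ γ⁻¹ w, hinv γ⁻¹ w w.2⟩
      map_add' := fun x y => by ext; simp
      map_smul' := fun c x => by ext; simp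
      left_inv := fun x => by
        ext
        show ρ γ⁻¹ (ρ γ x) = x
        rw [← LinearEquiv.mul_apply, ← map_mul, inv_mul_cancel, map_one]; rfl
      right_inv := fun x => by
        ext
        show ρ γ (ρ γ⁻¹ x) = x
        rw [← LinearEquiv.mul_apply, ← map_mul, mul_inv_cancel, map_one]; rfl }
  map_one' := by
    ext x
    show ρ 1 x = x
    rw [map_one]; rfl
  map_mul' := fun γ δ => by
    ext x
    show ρ (γ * δ) x = ρ γ (ρ δ x)
    rw [map_mul]; rfl

@[simp] theorem resHom_apply (ρ : Γ →* (W ≃ₗ[K] W)) (W₁ : Submodule K W)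
    (hinv : ∀ γ w, w ∈ W₁ → ρ γ w ∈ W₁) (γ : Γ) (w : W₁) :
    ((resHom ρ W₁ hinv γ w : W₁) : W) = ρ γ w := rfl

/-- the map induced on the quotient by an invariant submodule -/
def qmap (ρ : Γ →* (W ≃ₗ[K] W)) (W₁ : Submodule K W)
    (hinv : ∀ γ w, w ∈ W₁ → ρ γ w ∈ W₁) (γ : Γ) : (W ⧸ W₁) →ₗ[K] (W ⧸ W₁) :=
  W₁.mapQ W₁ (ρ γ : W →ₗ[K] W) (fun w hw => hinv γ w hw)

theorem qmap_mk (ρ : Γ →* (W ≃ₗ[K] W)) (W₁ : Submodule K W)
    (hinv : ∀ γ w, w ∈ W₁ → ρ γ w ∈ W₁) (γ : Γ) (w : W) :
    qmap ρ W₁ hinv γ (Submodule.Quotient.mk w) = Submodule.Quotient.mk (ρ γ w) := rfl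

theorem qmap_qmap (ρ : Γ →* (W ≃ₗ[K] W)) (W₁ : Submodule K W)
    (hinv : ∀ γ w, w ∈ W₁ → ρ γ w ∈ W₁) (γ δ : Γ) (x : W ⧸ W₁) :
    qmap ρ W₁ hinv γ (qmap ρ W₁ hinv δ x) = qmap ρ W₁ hinv (γ * δ) x := by
  induction x using Submodule.Quotient.induction_on with
  | H x =>
    rw [qmap_mk, qmap_mk, qmap_mk, map_mul]; rfl

theorem qmap_one (ρ : Γ →* (W ≃ₗ[K] W)) (W₁ : Submodule K W)
    (hinv : ∀ γ w, w ∈ W₁ → ρ γ w ∈ W₁) (x : W ⧸ W₁) :
    qmap ρ W₁ hinv 1 x = x := by
  induction x using Submodule.Quotient.induction_on with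
  | H x =>
    rw [qmap_mk, map_one]; rfl

/-- the induced representation on the quotient by an invariant submodule -/
def quotHom (ρ : Γ →* (W ≃ₗ[K] W)) (W₁ : Submodule K W)
    (hinv : ∀ γ w, w ∈ W₁ → ρ γ w ∈ W₁) : Γ →* ((W ⧸ W₁) ≃ₗ[K] (W ⧸ W₁)) where
  toFun γ :=
    { toFun := qmap ρ W₁ hinv γ
      invFun := qmap ρ W₁ hinv γ⁻¹
      map_add' := fun x y => map_add _ x y
      map_smul' := fun c x => map_smul _ c x
      left_inv := fun x => by
        rw [qmap_qmap, inv_mul_cancel, qmap_one]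
      right_inv := fun x => by
        rw [qmap_qmap, mul_inv_cancel, qmap_one] }
  map_one' := by
    ext x
    exact qmap_one ρ W₁ hinv x
  map_mul' := fun γ δ => by
    ext x
    exact (qmap_qmap ρ W₁ hinv γ δ x).symm

@[simp] theorem quotHom_apply (ρ : Γ →* (W ≃ₗ[K] W)) (W₁ : Submodule K W)
    (hinv : ∀ γ w, w ∈ W₁ → ρ γ w ∈ W₁) (γ : Γ) (w : W) :
    quotHom ρ W₁ hinv γ (Submodule.Quotient.mk w) = Submodule.Quotient.mk (ρ γ w) := rfl


end

section
variable {K : Type*} [Field K] {W : Type*} [AddCommGroup W] [Module K W]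

/-- an automorphism acting trivially on a submodule and on the quotient has `p`-th power one
in characteristic `p`. -/
theorem pow_char_eq_one {p : ℕ} [CharP K p] (g : W ≃ₗ[K] W) (W₁ : Submodule K W)
    (h1 : ∀ w ∈ W₁, g w = w) (h2 : ∀ w, g w - w ∈ W₁) : g ^ p = 1 := by
  have key : ∀ (j : ℕ) (w : W), (g ^ j) w = w + j • (g w - w) := by
    intro j
    induction j with
    | zero => intro w; simp
    | succ j ih =>
      intro w
      rw [pow_succ', LinearEquiv.mul_apply, ih, map_add, map_nsmul, h1 _ (h2 w), succ_nsmul]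
      abel
  ext w
  rw [key p w]
  have : (p : K) • (g w - w) = 0 := by rw [CharP.cast_eq_zero, zero_smul]
  rw [Nat.cast_smul_eq_nsmul] at this
  rw [this, add_zero]; rfl


end

section
variable {K : Type*} [Field K] {Γ : Type*} [Group Γ] {W : Type*} [AddCommGroup W] [Module K W]

theorem mem_of_apply_mem [FiniteDimensional K W] (g : W ≃ₗ[K] W) (S : Submodule K W)
    (h : ∀ s ∈ S, g s ∈ S) {s : W} (hs : g s ∈ S) : s ∈ S := by
  have hle : S.map (g : W →ₗ[K] W) ≤ S := by
    rintro _ ⟨t, ht, rfl⟩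
    exact h t ht
  have heq : S.map (g : W →ₗ[K] W) = S :=
    Submodule.eq_of_le_of_finrank_eq hle (LinearEquiv.finrank_map_eq g S)
  rw [← heq] at hs
  obtain ⟨t, ht, hts⟩ := hs
  have : t = s := g.injective hts
  exact this ▸ ht

theorem invariant_of_gens [FiniteDimensional K W] (ρ : Γ →* (W ≃ₗ[K] W)) (α β : Γ)
    (hgen : Subgroup.closure {α, β} = ⊤) (S : Submodule K W)
    (hα : ∀ s ∈ S, ρ α s ∈ S) (hβ : ∀ s ∈ S, ρ β s ∈ S) : ∀ γ s, s ∈ S → ρ γ s ∈ S := by
  let T : Subgroup Γ :=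
    { carrier := {γ | ∀ s, s ∈ S ↔ ρ γ s ∈ S}
      one_mem' := fun s => by rw [map_one]; rfl
      mul_mem' := fun {γ δ} hγ hδ s => by
        rw [map_mul, LinearEquiv.mul_apply, ← hγ, ← hδ]
      inv_mem' := fun {γ} hγ s => by
        rw [hγ (ρ γ⁻¹ s), ← LinearEquiv.mul_apply, ← map_mul, mul_inv_cancel, map_one]; rfl }
  have hT : Subgroup.closure {α, β} ≤ T := by
    rw [Subgroup.closure_le]
    intro γ hγ
    rcases hγ with rfl | rfl
    · intro s
      exact ⟨hα s, fun h => mem_of_apply_mem _ S hα h⟩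
    · intro s
      exact ⟨hβ s, fun h => mem_of_apply_mem _ S hβ h⟩
  rw [hgen] at hT
  intro γ s hs
  exact (hT (Subgroup.mem_top γ) s).mp hs

theorem eq_one_of_gens (ρ : Γ →* (W ≃ₗ[K] W)) (α β : Γ)
    (hgen : Subgroup.closure {α, β} = ⊤) (hα : ρ α = 1) (hβ : ρ β = 1) (γ : Γ) : ρ γ = 1 := by
  have hT : Subgroup.closure {α, β} ≤ ρ.ker := by
    rw [Subgroup.closure_le]
    intro γ hγ
    rcases hγ with rfl | rfl
    · exact hα
    · exact hβ
  rw [hgen] at hT
  exact hT (Subgroup.mem_top γ)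


end

section
variable {K : Type*} [Field K] {W : Type*} [AddCommGroup W] [Module K W]

theorem quad_sq (g : W ≃ₗ[K] W) (hq : ∀ w, g (g w - w) = g w - w) (w : W) :
    g (g w) = (2 : K) • g w - w := by
  have := hq w
  rw [map_sub] at this
  rw [two_smul]
  rw [sub_eq_iff_eq_add] at this
  rw [this]; abel

theorem det_quad (g : W ≃ₗ[K] W) (hq : ∀ w, g (g w - w) = g w - w)
    (B : Basis (Fin 2) K W) (h1 : B 1 = g (B 0)) : LinearMap.det (g : W →ₗ[K] W) = 1 := by
  have e0 : g (B 0) = B 1 := h1.symm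
  have e1 : g (B 1) = (2 : K) • B 1 - B 0 := by
    rw [h1, quad_sq g hq]
  rw [← LinearMap.det_toMatrix B, Matrix.det_fin_two]
  simp only [LinearMap.toMatrix_apply, LinearEquiv.coe_coe, e0, e1, map_sub, map_smul,
    Basis.repr_self]
  simp


end


section

variable {K : Type*} [Field K] {Γ : Type*} [Group Γ] {W : Type*} [AddCommGroup W] [Module K W]

theorem scalar_eq_one {K : Type*} [Field K] {W : Type*} [AddCommGroup W] [Module K W]
    (g : W ≃ₗ[K] W) (hq : ∀ w, g (g w - w) = g w - w) (v : W) (hv0 : v ≠ 0) (c : K)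
    (hgv : g v = c • v) : c = 1 := by
  have h1 := hq v
  rw [hgv, map_sub, map_smul, hgv, smul_smul] at h1
  have h2 : ((c - 1) * c - (c - 1)) • v = 0 := by
    have e : ((c - 1) * c - (c - 1)) • v = ((c * c) • v - c • v) - (c • v - v) := by
      simp only [sub_smul, mul_smul, one_smul, sub_mul, one_mul]
    rw [e, h1, sub_self]
  rw [smul_eq_zero] at h2
  have h3 : (c - 1) * (c - 1) = 0 := by
    rw [← h2.resolve_right hv0]; ring
  have h4 : c - 1 = 0 := by
    rcases mul_eq_zero.mp h3 with h | h <;> exact h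
  exact sub_eq_zero.mp h4

theorem no_fixed [FiniteDimensional K W] {p : ℕ} (ρ : Γ →* (W ≃ₗ[K] W)) (α β : Γ)
    (hgen : Subgroup.closure {α, β} = ⊤)
    (hnp : ∃ γ, ∀ m : ℕ, (ρ γ) ^ (p ^ m) ≠ 1)
    (hirr : ∀ W₁ : Submodule K W, (∀ γ w, w ∈ W₁ → ρ γ w ∈ W₁) → W₁ = ⊥ ∨ W₁ = ⊤)
    (v : W) (hv : v ≠ 0) (ha : ρ α v = v) (hb : ρ β v = v) : False := by
  have hS : ∀ γ s, s ∈ Submodule.span K {v} → ρ γ s ∈ Submodule.span K {v} := by
    apply invariant_of_gens ρ α β hgen
    · intro s hs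
      obtain ⟨c, rfl⟩ := Submodule.mem_span_singleton.mp hs
      rw [map_smul, ha]
      exact Submodule.mem_span_singleton.mpr ⟨c, rfl⟩
    · intro s hs
      obtain ⟨c, rfl⟩ := Submodule.mem_span_singleton.mp hs
      rw [map_smul, hb]
      exact Submodule.mem_span_singleton.mpr ⟨c, rfl⟩
  have htop : Submodule.span K {v} = ⊤ := by
    rcases hirr _ hS with h | h
    · exfalso
      rw [Submodule.span_singleton_eq_bot] at h
      exact hv h
    · exact h
  have hα : ρ α = 1 := by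
    ext w
    have hw : w ∈ Submodule.span K {v} := htop ▸ Submodule.mem_top
    obtain ⟨c, rfl⟩ := Submodule.mem_span_singleton.mp hw
    rw [map_smul, ha]; rfl
  have hβ : ρ β = 1 := by
    ext w
    have hw : w ∈ Submodule.span K {v} := htop ▸ Submodule.mem_top
    obtain ⟨c, rfl⟩ := Submodule.mem_span_singleton.mp hw
    rw [map_smul, hb]; rfl
  obtain ⟨γ, hγ⟩ := hnp
  apply hγ 0
  rw [pow_zero, pow_one]
  exact eq_one_of_gens ρ α β hgen hα hβ γ

end


section

variable {K : Type*} [Field K] [Fintype K] {p : ℕ} [Fact p.Prime] [CharP K p]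
  {Γ : Type*} [Group Γ] {W : Type*} [AddCommGroup W] [Module K W]

theorem irreducible_case [FiniteDimensional K W] (ρ : Γ →* (W ≃ₗ[K] W)) (α β : Γ)
    (hgen : Subgroup.closure {α, β} = ⊤)
    (ha : ∀ w, ρ α (ρ α w - w) = ρ α w - w) (hb : ∀ w, ρ β (ρ β w - w) = ρ β w - w)
    (hk : ∃ e k : ℕ, (ρ (α * β)) ^ (p ^ e * k) = 1 ∧ k ∣ Fintype.card K - 1)
    (hnp : ∃ γ, ∀ m : ℕ, (ρ γ) ^ (p ^ m) ≠ 1)
    (hirr : ∀ W₁ : Submodule K W, (∀ γ w, w ∈ W₁ → ρ γ w ∈ W₁) → W₁ = ⊥ ∨ W₁ = ⊤) :
    ∃ φ : Γ →* Matrix.SpecialLinearGroup (Fin 2) K, ¬ IsPGroup p φ.range := by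
  -- W is nontrivial
  have hnt : Nontrivial W := by
    rw [← not_subsingleton_iff_nontrivial]
    intro hsub
    obtain ⟨γ, hγ⟩ := hnp
    apply hγ 0
    ext w
    exact Subsingleton.elim _ _
  obtain ⟨e, k, hpow, hkq⟩ := hk
  -- eigenvector of a * b
  have hf : ((ρ (α * β) : W ≃ₗ[K] W) : Module.End K W) ^ (p ^ e * k) = 1 := by
    have := congrArg (LinearEquiv.automorphismGroup.toLinearMapMonoidHom (R := K) (M := W)) hpow
    rw [map_pow, map_one] at this
    exact this
  obtain ⟨μ, v, hv0, hfv⟩ := exists_eigenvector (p := p) _ e k hkq hf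
  set a := ρ α with ha_def
  set b := ρ β with hb_def
  have hab : a (b v) = μ • v := by
    have : ((ρ (α * β) : W ≃ₗ[K] W) : Module.End K W) v = a (b v) := by
      rw [map_mul]; rfl
    rw [← this]; exact hfv
  have hμ : μ ≠ 0 := by
    rintro rfl
    rw [zero_smul] at hab
    have h1 : b v = 0 := by
      have := a.injective (hab.trans (map_zero a).symm)
      exact this
    exact hv0 (b.injective (h1.trans (map_zero b).symm))
  have A1 : a (a v) = (2 : K) • a v - v := quad_sq a ha v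
  have A2 : b v = μ • ((2 : K) • v - a v) := by
    apply a.injective
    rw [hab, map_smul, map_sub, map_smul, A1]
    congr 1
    abel
  have A3 : a v = (2 : K) • v - μ⁻¹ • b v := by
    rw [A2, smul_smul, inv_mul_cancel₀ hμ, one_smul]; abel
  have A4 : b (b v) = (2 : K) • b v - v := quad_sq b hb v
  have A5 : b (a v) = (2 : K) • b v - μ⁻¹ • ((2 : K) • b v - v) := by
    conv_lhs => rw [A3]
    rw [map_sub, map_smul, map_smul, A4]
  -- the invariant plane
  set S := Submodule.span K (Set.range ![v, a v]) with hS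
  have hvS : v ∈ S := Submodule.subset_span ⟨0, rfl⟩
  have havS : a v ∈ S := Submodule.subset_span ⟨1, rfl⟩
  have hbvS : b v ∈ S := by
    rw [A2]
    exact S.smul_mem _ (S.sub_mem (S.smul_mem _ hvS) havS)
  have hSa : ∀ s ∈ S, a s ∈ S := by
    have : S ≤ S.comap (a : W →ₗ[K] W) := by
      rw [hS, Submodule.span_le]
      rintro _ ⟨i, rfl⟩
      fin_cases i
      · exact havS
      · show a (a v) ∈ S
        rw [A1]
        exact S.sub_mem (S.smul_mem _ havS) hvS
    exact fun s hs => this hs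
  have hSb : ∀ s ∈ S, b s ∈ S := by
    have : S ≤ S.comap (b : W →ₗ[K] W) := by
      rw [hS, Submodule.span_le]
      rintro _ ⟨i, rfl⟩
      fin_cases i
      · exact hbvS
      · show b (a v) ∈ S
        rw [A5]
        exact S.sub_mem (S.smul_mem _ hbvS) (S.smul_mem _ (S.sub_mem (S.smul_mem _ hbvS) hvS))
    exact fun s hs => this hs
  have hSinv := invariant_of_gens ρ α β hgen S hSa hSb
  have hStop : S = ⊤ := by
    rcases hirr S hSinv with h | h
    · exfalso
      rw [h, Submodule.mem_bot] at hvS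
      exact hv0 hvS
    · exact h
  -- linear independence of v, a v
  have hli : LinearIndependent K ![v, a v] := by
    rw [LinearIndependent.pair_iff]
    intro s t hst
    by_cases ht : t = 0
    · subst ht
      rw [zero_smul, add_zero, smul_eq_zero] at hst
      exact ⟨hst.resolve_right hv0, rfl⟩
    · exfalso
      -- a v = c • v
      have hav : a v = (-(s / t)) • v := by
        have h1 : t • a v = -(s • v) := by
          rw [eq_neg_iff_add_eq_zero, add_comm]; exact hst
        have h2 : a v = t⁻¹ • (t • a v) := by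
          rw [smul_smul, inv_mul_cancel₀ ht, one_smul]
        rw [h2, h1, smul_neg, smul_smul, neg_smul]
        congr 2
        field_simp
      set c := -(s / t) with hc
      have hc1 : c = 1 := scalar_eq_one a ha v hv0 c hav
      rw [hc1, one_smul] at hav
      have hbv : b v = μ • v := by
        apply a.injective
        rw [hab, map_smul, hav]
      have hμ1 : μ = 1 := scalar_eq_one b hb v hv0 μ hbv
      rw [hμ1, one_smul] at hbv
      exact no_fixed ρ α β hgen hnp hirr v hv0 hav hbv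
  -- the basis (v, a v)
  let B : Basis (Fin 2) K W := Basis.mk hli (by rw [← hS, hStop])
  have hB0 : B 0 = v := by simp [B]
  have hB1 : B 1 = a v := by simp [B]
  have hfr : finrank K W = 2 := by
    rw [Module.finrank_eq_card_basis B]; simp
  -- the second basis (v, b v)
  have hli' : LinearIndependent K ![v, b v] := by
    rw [LinearIndependent.pair_iff]
    intro s t hst
    rw [A2] at hst
    have h1 : (s + t * μ * 2) • v + (-(t * μ)) • a v = 0 := by
      rw [← hst]
      simp only [add_smul, neg_smul, mul_smul, smul_sub]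
      abel
    have h2 := (LinearIndependent.pair_iff.mp hli) _ _ h1
    have ht : t = 0 := by
      have := neg_eq_zero.mp h2.2
      exact (mul_eq_zero.mp this).resolve_right hμ
    refine ⟨?_, ht⟩
    have := h2.1
    rw [ht] at this
    simpa using this
  let B' : Basis (Fin 2) K W := basisOfLinearIndependentOfCardEqFinrank hli' (by simp [hfr])
  have hB'0 : B' 0 = v := by simp [B']
  have hB'1 : B' 1 = b v := by simp [B']
  have hdeta : LinearMap.det (a : W →ₗ[K] W) = 1 := det_quad a ha B (by rw [hB1, hB0])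
  have hdetb : LinearMap.det (b : W →ₗ[K] W) = 1 := det_quad b hb B' (by rw [hB'1, hB'0])
  have hdet : ∀ γ, LinearMap.det ((ρ γ : W ≃ₗ[K] W) : W →ₗ[K] W) = 1 := by
    intro γ
    have hT : Subgroup.closure {α, β} ≤ ((LinearEquiv.det (R := K) (M := W)).comp ρ).ker := by
      rw [Subgroup.closure_le]
      intro δ hδ
      rcases hδ with rfl | rfl
      · rw [SetLike.mem_coe, MonoidHom.mem_ker, MonoidHom.comp_apply]
        ext
        rw [LinearEquiv.coe_det]; exact hdeta
      · rw [SetLike.mem_coe, MonoidHom.mem_ker, MonoidHom.comp_apply]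
        ext
        rw [LinearEquiv.coe_det]; exact hdetb
    rw [hgen] at hT
    have := hT (Subgroup.mem_top γ)
    rw [MonoidHom.mem_ker, MonoidHom.comp_apply] at this
    rw [← LinearEquiv.coe_det, this]; rfl
  -- the homomorphism
  let φ : Γ →* Matrix.SpecialLinearGroup (Fin 2) K :=
    { toFun := fun γ => ⟨LinearMap.toMatrix B B ((ρ γ : W ≃ₗ[K] W) : W →ₗ[K] W), by
        rw [LinearMap.det_toMatrix]; exact hdet γ⟩
      map_one' := by
        apply Subtype.ext
        show LinearMap.toMatrix B B ((ρ 1 : W ≃ₗ[K] W) : W →ₗ[K] W) = 1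
        rw [map_one]
        exact LinearMap.toMatrix_id B
      map_mul' := fun γ δ => by
        apply Subtype.ext
        show LinearMap.toMatrix B B ((ρ (γ * δ) : W ≃ₗ[K] W) : W →ₗ[K] W) =
          LinearMap.toMatrix B B ((ρ γ : W ≃ₗ[K] W) : W →ₗ[K] W) *
            LinearMap.toMatrix B B ((ρ δ : W ≃ₗ[K] W) : W →ₗ[K] W)
        rw [map_mul, ← LinearMap.toMatrix_comp]
        rfl }
  refine ⟨φ, ?_⟩
  intro hP
  obtain ⟨γ, hγ⟩ := hnp
  obtain ⟨m, hm⟩ := hP ⟨φ γ, γ, rfl⟩
  apply hγ m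
  have h1 : (φ γ) ^ (p ^ m) = 1 := by
    have := congrArg Subtype.val hm
    simpa using this
  rw [← map_pow] at h1
  have h2 : LinearMap.toMatrix B B ((ρ (γ ^ p ^ m) : W ≃ₗ[K] W) : W →ₗ[K] W) = 1 :=
    congrArg Subtype.val h1
  rw [← LinearMap.toMatrix_id B] at h2
  have h3 := (LinearMap.toMatrix B B).injective h2
  rw [← map_pow]
  ext w
  have := congrArg (fun f : W →ₗ[K] W => f w) h3
  simpa using this

end


section

universe u v w

variable {K : Type u} [Field K] {Γ : Type w} [Group Γ]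

theorem res_eq_one {W : Type v} [AddCommGroup W] [Module K W] (ρ : Γ →* (W ≃ₗ[K] W))
    (W₁ : Submodule K W) (hinv : ∀ γ w, w ∈ W₁ → ρ γ w ∈ W₁) (δ : Γ) (h : ρ δ = 1) :
    resHom ρ W₁ hinv δ = 1 := by
  ext w
  rw [resHom_apply, h]; rfl

theorem quot_eq_one {W : Type v} [AddCommGroup W] [Module K W] (ρ : Γ →* (W ≃ₗ[K] W))
    (W₁ : Submodule K W) (hinv : ∀ γ w, w ∈ W₁ → ρ γ w ∈ W₁) (δ : Γ) (h : ρ δ = 1) :
    quotHom ρ W₁ hinv δ = 1 := by
  ext x
  induction x using Submodule.Quotient.induction_on with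
  | H x => rw [quotHom_apply, h]; rfl

variable [Fintype K] {p : ℕ} [Fact p.Prime] [CharP K p]

theorem main (α β : Γ) (hgen : Subgroup.closure {α, β} = ⊤) :
    ∀ (n : ℕ) (W : Type v) [AddCommGroup W] [Module K W] [FiniteDimensional K W]
      (ρ : Γ →* (W ≃ₗ[K] W)), finrank K W = n →
      (∀ w, ρ α (ρ α w - w) = ρ α w - w) → (∀ w, ρ β (ρ β w - w) = ρ β w - w) →
      (∃ e k : ℕ, (ρ (α * β)) ^ (p ^ e * k) = 1 ∧ k ∣ Fintype.card K - 1) →
      (∃ γ, ∀ m : ℕ, (ρ γ) ^ (p ^ m) ≠ 1) →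
      ∃ φ : Γ →* Matrix.SpecialLinearGroup (Fin 2) K, ¬ IsPGroup p φ.range := by
  intro n
  induction n using Nat.strong_induction_on with
  | _ n ih =>
    intro W _ _ _ ρ hn ha hb hk hnp
    by_cases hirr : ∀ W₁ : Submodule K W, (∀ γ w, w ∈ W₁ → ρ γ w ∈ W₁) → W₁ = ⊥ ∨ W₁ = ⊤
    · exact irreducible_case ρ α β hgen ha hb hk hnp hirr
    · push Not at hirr
      obtain ⟨W₁, hinv, hbot, htop⟩ := hirr
      have hlt1 : finrank K W₁ < n := hn ▸ Submodule.finrank_lt htop
      have hlt2 : finrank K (W ⧸ W₁) < n := by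
        have h1 := Submodule.finrank_quotient_add_finrank W₁
        have h2 : 1 ≤ finrank K W₁ := Submodule.one_le_finrank_iff.mpr hbot
        omega
      obtain ⟨e, k, hpow, hkq⟩ := hk
      have hpow' : ρ ((α * β) ^ (p ^ e * k)) = 1 := by rw [map_pow]; exact hpow
      obtain ⟨γ, hγ⟩ := hnp
      have hor : (∀ m : ℕ, (resHom ρ W₁ hinv γ) ^ (p ^ m) ≠ 1) ∨
          (∀ m : ℕ, (quotHom ρ W₁ hinv γ) ^ (p ^ m) ≠ 1) := by
        by_contra hcon
        push Not at hcon
        obtain ⟨⟨m₁, h1⟩, ⟨m₂, h2⟩⟩ := hcon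
        have h1' : resHom ρ W₁ hinv (γ ^ (p ^ (m₁ + m₂))) = 1 := by
          rw [map_pow, pow_add, pow_mul, h1, one_pow]
        have h2' : quotHom ρ W₁ hinv (γ ^ (p ^ (m₁ + m₂))) = 1 := by
          rw [map_pow, pow_add, mul_comm, pow_mul, h2, one_pow]
        have h3 : (ρ (γ ^ (p ^ (m₁ + m₂)))) ^ p = 1 := by
          apply pow_char_eq_one (p := p) _ W₁
          · intro w hw
            exact congrArg Subtype.val (LinearEquiv.congr_fun h1' ⟨w, hw⟩)
          · intro w
            have := LinearEquiv.congr_fun h2' (Submodule.Quotient.mk w)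
            rw [quotHom_apply] at this
            exact (Submodule.Quotient.eq W₁).mp this
        apply hγ (m₁ + m₂ + 1)
        rw [pow_succ, pow_mul, ← map_pow]
        exact h3
      rcases hor with h | h
      · refine ih _ hlt1 W₁ (resHom ρ W₁ hinv) rfl ?_ ?_ ?_ ⟨γ, h⟩
        · intro w
          apply Subtype.ext
          simp only [resHom_apply, Submodule.coe_sub]
          exact ha w
        · intro w
          apply Subtype.ext
          simp only [resHom_apply, Submodule.coe_sub]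
          exact hb w
        · refine ⟨e, k, ?_, hkq⟩
          rw [← map_pow]
          exact res_eq_one ρ W₁ hinv _ hpow'
      · refine ih _ hlt2 (W ⧸ W₁) (quotHom ρ W₁ hinv) rfl ?_ ?_ ?_ ⟨γ, h⟩
        · intro x
          induction x using Submodule.Quotient.induction_on with
          | H x =>
            rw [quotHom_apply, ← Submodule.Quotient.mk_sub, quotHom_apply, ha x]
        · intro x
          induction x using Submodule.Quotient.induction_on with
          | H x =>
            rw [quotHom_apply, ← Submodule.Quotient.mk_sub, quotHom_apply, hb x]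
        · refine ⟨e, k, ?_, hkq⟩
          rw [← map_pow]
          exact quot_eq_one ρ W₁ hinv _ hpow'

end

end Cfsg.Agent.Lib.Helper57.QuadPair
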