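import Mathlib
import Cfsg.Prelude.Def_PLocal
import Cfsg.Agent.Lib.Helper02.PStab2
import Cfsg.Agent.Lib.Helper52.QuadAction
import Cfsg.Agent.Lib.Helper16.ZJ2

/-!
# `p`-stability on every normal `p`-subgroup for groups with abelian Sylow 2-subgroups

For odd `p`, a finite group `G` with abelian Sylow 2-subgroups acts `p`-stably on every normal
`p`-subgroup `V` (not only the elementary abelian ones): an element `a` with `[V, a, a] = 1` maps into
`O_p(G / C_G(V))`.  This is `Helper02.PStab.exists_normal_pGroup_of_quadG` applied to the faithful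
action of `G / C_G(V)` on `V`.
-/

set_option autoImplicit false
open Cfsg
open Cfsg.Agent.Lib.Helper16

namespace Cfsg.Agent.Lib.Helper57.PStableAll

variable {G : Type*} [Group G]

/-- the action of `G / C_G(V)` on the normal subgroup `V` -/
noncomputable def quotAct (V : Subgroup G) [V.Normal] :
    G ⧸ Subgroup.centralizer (V : Set G) →* MulAut V :=
  QuotientGroup.lift _ (MulAut.conjNormal (H := V)) (by
    intro g hg
    rw [MonoidHom.mem_ker]
    ext v
    rw [MulAut.conjNormal_apply]
    have := Subgroup.mem_centralizer_iff.mp hg v v.2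
    show g * v * g⁻¹ = v
    rw [← this]; simp)

theorem quotAct_mk (V : Subgroup G) [V.Normal] (g : G) (v : V) :
    ((quotAct V (QuotientGroup.mk g) v : V) : G) = g * v * g⁻¹ := by
  unfold quotAct
  rw [QuotientGroup.lift_mk, MulAut.conjNormal_apply]

theorem quotAct_injective (V : Subgroup G) [V.Normal] : Function.Injective (quotAct V) := by
  rw [injective_iff_map_eq_one]
  intro x hx
  induction x using QuotientGroup.induction_on with
  | H g =>
    rw [QuotientGroup.eq_one_iff, Subgroup.mem_centralizer_iff]
    intro v hv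
    have h1 : g * v * g⁻¹ = v := by
      rw [← quotAct_mk V g ⟨v, hv⟩, hx]; rfl
    calc v * g = (g * v * g⁻¹) * g := by rw [h1]
      _ = g * v := by simp

/-- For odd `p`, a finite group with abelian Sylow 2-subgroups is `p`-stable on every normal
`p`-subgroup. -/
theorem isPStableOn_of_sylow_two_comm [Finite G] {p : ℕ} [Fact p.Prime] (hp : p ≠ 2)
    (hab : ∀ T : Sylow 2 G, IsMulCommutative T) (V : Subgroup G) [V.Normal]
    (hV : IsPGroup p ↥V) : Cfsg.IsPStableOn p V := by
  intro a hq
  have : Fact (Nat.Prime 2) := ⟨Nat.prime_two⟩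
  have hT : ∀ T : Sylow 2 (G ⧸ Subgroup.centralizer (V : Set G)), IsMulCommutative T := by
    intro T
    obtain ⟨T₀⟩ : Nonempty (Sylow 2 G) := inferInstance
    exact Cfsg.Agent.Lib.Helper52.sylow_two_comm_of_surjective
      (QuotientGroup.mk' (Subgroup.centralizer (V : Set G)))
      (QuotientGroup.mk'_surjective _) T₀ (hab T₀) T
  have hquad : Cfsg.Agent.Lib.Helper02.PStab.QuadG (quotAct V)
      (QuotientGroup.mk a : G ⧸ Subgroup.centralizer (V : Set G)) := by
    intro v
    apply Subtype.ext
    rw [quotAct_mk, Subgroup.coe_mul, Subgroup.coe_inv, quotAct_mk]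
    exact Cfsg.Agent.Lib.Helper52.conj_comm_of_quadratic V a hq v v.2
  obtain ⟨N, hN, hNp, haN⟩ := Cfsg.Agent.Lib.Helper02.PStab.exists_normal_pGroup_of_quadG hp hV
    (quotAct V) (quotAct_injective V) (QuotientGroup.mk a) hquad hT
  exact ZJ.le_pCore hN hNp haN

/-- the `StableFor` form used by the strongly closed `ZJ`-theorem -/
theorem stableFor_of_sylow_two_comm [Finite G] {p : ℕ} [Fact p.Prime] (hp : p ≠ 2)
    (hab : ∀ T : Sylow 2 G, IsMulCommutative T) (P : Subgroup G) : ZJ.StableFor p P :=
  ZJ.stableFor_of_isPStableOn (fun V _ hV => isPStableOn_of_sylow_two_comm hp hab V hV) P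

end Cfsg.Agent.Lib.Helper57.PStableAll
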