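import Mathlib
import Cfsg.Agent.Lib.Lead.ThompsonE
import Cfsg.Agent.Lib.Helper03.PGroupNormal
import Cfsg.Agent.Lib.Helper57.GTFam

/-!
# Glauberman–Thompson normal `p`-complement theorem for strongly closed subgroups: reduction, part A

For a family `Q` of predicates (`GoodFam`), `W(D) = ZJ.WW (Q G) D` is the intersection of the
`Q`-subgroups of `D` of largest order.  We study a minimal counterexample to
"`D` strongly closed in the Sylow `p`-subgroup `P` and `N_G(W(D))` has a normal `p`-complement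
`⟹` `G` has a normal `p`-complement", following the steps of `Lib.Lead.ThompsonA`.
-/

set_option autoImplicit false
open Cfsg
open Cfsg.Agent.Lib.Helper16 Cfsg.Agent.Lib.Helper97

universe u

namespace Cfsg.Agent.Lib.Helper57.GT

/-- hypothesis of the theorem for the triple `(G, P, D)` -/
def Hyp (p : ℕ) (Q : ∀ (X : Type u) [Group X], Subgroup X → Prop) (G : Type u) [Group G]
    (P D : Subgroup G) : Prop :=
  Cfsg.IsStronglyClosed D P ∧
    HasNormalPComplement p ↥(Subgroup.normalizer (ZJ.WW (Q G) D : Set G))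

/-- the induction hypothesis -/
def IHyp (p : ℕ) (Q : ∀ (X : Type u) [Group X], Subgroup X → Prop) (G : Type u) [Group G] :
    Prop :=
  ∀ (G' : Type u) [Group G'] [Finite G'], Nat.card G' < Nat.card G →
    ∀ (P' : Sylow p G') (D' : Subgroup G'), Hyp p Q G' (P' : Subgroup G') D' →
      HasNormalPComplement p G'

section conj

variable {p : ℕ} [Fact p.Prime] {Q : ∀ (X : Type u) [Group X], Subgroup X → Prop}
variable {G : Type u} [Group G] [Finite G]

omit [Finite G] in
theorem stronglyClosed_conj {D P : Subgroup G} (h : Cfsg.IsStronglyClosed D P) (g : G) :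
    Cfsg.IsStronglyClosed (D.map (MulAut.conj g).toMonoidHom) (P.map (MulAut.conj g).toMonoidHom) := by
  refine ⟨Subgroup.map_mono h.1, ?_⟩
  rintro _ ⟨d, hd, rfl⟩ k ⟨y, hy, hyk⟩
  simp only [MulEquiv.coe_toMonoidHom, MulAut.conj_apply] at hyk ⊢
  have h1 : (g⁻¹ * k * g) * d * (g⁻¹ * k * g)⁻¹ = y := by
    have : y = g⁻¹ * (g * y * g⁻¹) * g := by group
    rw [this, hyk]; group
  have h2 := h.2 d hd (g⁻¹ * k * g) (h1 ▸ hy)
  refine ⟨(g⁻¹ * k * g) * d * (g⁻¹ * k * g)⁻¹, h2, ?_⟩
  simp only [MulEquiv.coe_toMonoidHom, MulAut.conj_apply]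
  group

theorem hyp_conj (hQ : GoodFam p Q) {P D : Subgroup G} (h : Hyp p Q G P D) (g : G) :
    Hyp p Q G (P.map (MulAut.conj g).toMonoidHom) (D.map (MulAut.conj g).toMonoidHom) := by
  refine ⟨stronglyClosed_conj h.1 g, ?_⟩
  rw [← ZJ.WW_map (hQ.good G) (MulAut.conj g) D, ← Subgroup.map_equiv_normalizer_eq]
  exact pn_map _ _ h.2

theorem hyp_all (hQ : GoodFam p Q) (P : Sylow p G) {D : Subgroup G}
    (h : Hyp p Q G (P : Subgroup G) D) (P' : Sylow p G) :
    ∃ D' : Subgroup G, Hyp p Q G (P' : Subgroup G) D' := by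
  obtain ⟨g, rfl⟩ := MulAction.exists_smul_eq G P P'
  refine ⟨D.map (MulAut.conj g).toMonoidHom, ?_⟩
  have := hyp_conj hQ h g
  rw [Sylow.coe_subgroup_smul, Subgroup.pointwise_smul_def]
  exact this

end conj

section A

variable {p : ℕ} [Fact p.Prime] {Q : ∀ (X : Type u) [Group X], Subgroup X → Prop}
variable {G : Type u} [Group G] [Finite G]

/-- the hypothesis passes to a subgroup `M` containing `D`, for the Sylow subgroup `R` of `M` -/
theorem hyp_subgroup (hQ : GoodFam p Q) (M : Subgroup G) {R D : Subgroup G} (hRM : R ≤ M)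
    (hsc : Cfsg.IsStronglyClosed D R)
    (hN : HasNormalPComplement p ↥(Subgroup.normalizer (ZJ.WW (Q G) D : Set G))) :
    Hyp p Q ↥M (R.subgroupOf M) (D.subgroupOf M) := by
  have hDM : D ≤ M := hsc.1.trans hRM
  constructor
  · refine ⟨?_, ?_⟩
    · intro x hx
      rw [Subgroup.mem_subgroupOf] at hx ⊢
      exact hsc.1 hx
    · intro x hx g hg
      rw [Subgroup.mem_subgroupOf] at hx hg ⊢
      exact hsc.2 x hx g hg
  · refine pn_of_map_le M.subtype M.subtype_injective _ _ ?_ hN
    have h1 := WW_map_of_injective hQ M.subtype M.subtype_injective (D.subgroupOf M)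
    rw [Subgroup.subgroupOf_map_subtype, inf_of_le_left hDM] at h1
    rw [← h1]
    exact Subgroup.le_normalizer_map M.subtype

/-- (A) proper subgroups containing a Sylow `p`-subgroup have a normal `p`-complement -/
theorem stepA (hQ : GoodFam p Q) (IH : IHyp p Q G)
    (hall : ∀ P' : Sylow p G, ∃ D' : Subgroup G, Hyp p Q G (P' : Subgroup G) D')
    (M : Subgroup G) (hM : M ≠ ⊤) (P' : Sylow p G) (hPM : (P' : Subgroup G) ≤ M) :
    HasNormalPComplement p ↥M := by
  obtain ⟨D', hD', hN⟩ := hall P'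
  apply IH ↥M (Cfsg.Agent.Lib.Lead.card_lt_of_ne_top hM) (P'.subtype hPM) (D'.subgroupOf M)
  rw [Sylow.coe_subtype]
  exact hyp_subgroup hQ M hPM hD' hN

end A

end Cfsg.Agent.Lib.Helper57.GT
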