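import Mathlib
import Cfsg.Agent.Lib.Helper57.GTReductionA

/-!
# Glauberman–Thompson reduction, part B: `O_p(G) ≠ 1` in a minimal counterexample
-/

set_option autoImplicit false
open Cfsg
open Cfsg.Agent.Lib.Helper16 Cfsg.Agent.Lib.Helper97

universe u

namespace Cfsg.Agent.Lib.Helper57.GT

section B

variable {p : ℕ} [Fact p.Prime] {Q : ∀ (X : Type u) [Group X], Subgroup X → Prop}
variable {G : Type u} [Group G] [Finite G]

/-- a strongly closed subgroup `D ≠ 1` of the `p`-group `P` contains a nontrivial element central in `P` -/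
theorem exists_central_of_stronglyClosed {P D : Subgroup G} (hP : IsPGroup p P)
    (hD : Cfsg.IsStronglyClosed D P) (hne : D ≠ ⊥) :
    ∃ z ∈ D, z ≠ 1 ∧ ∀ x ∈ P, x * z = z * x := by
  have hnorm : P ≤ Subgroup.normalizer (D : Set G) := ZJ.stronglyClosed_le_normalizer hD
  have hn : (D.subgroupOf P).Normal := by
    refine ⟨fun x hx g => ?_⟩
    rw [Subgroup.mem_subgroupOf] at hx ⊢
    exact (Subgroup.mem_normalizer_iff.mp (hnorm g.2) x).mp hx
  have hne' : D.subgroupOf P ≠ ⊥ := by
    intro h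
    apply hne
    rw [eq_bot_iff]
    intro d hd
    have : (⟨d, hD.1 hd⟩ : ↥P) ∈ D.subgroupOf P := by
      rw [Subgroup.mem_subgroupOf]; exact hd
    rw [h, Subgroup.mem_bot] at this
    rw [Subgroup.mem_bot]
    exact congrArg Subtype.val this
  obtain ⟨z, hz, hzc, hz1⟩ :=
    Cfsg.Agent.Lib.Helper03.exists_mem_center_of_normal_ne_bot hP (D.subgroupOf P) hne'
  refine ⟨(z : G), Subgroup.mem_subgroupOf.mp hz, ?_, ?_⟩
  · intro h
    exact hz1 (Subtype.ext h)
  · intro x hx
    have := Subgroup.mem_center_iff.mp hzc ⟨x, hx⟩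
    exact congrArg Subtype.val this

/-- (B) in a minimal counterexample `O_p(G) ≠ 1` -/
theorem stepB (hQ : GoodFam p Q) (IH : IHyp p Q G)
    (hall : ∀ P' : Sylow p G, ∃ D' : Subgroup G, Hyp p Q G (P' : Subgroup G) D')
    (hG : ¬ HasNormalPComplement p G) : pCore p G ≠ ⊥ := by
  classical
  have hp : p.Prime := Fact.out
  intro hbot
  have hex : ∃ U : Subgroup G, IsPGroup p U ∧ U ≠ ⊥ ∧
      ¬ HasNormalPComplement p ↥(Subgroup.normalizer (U : Set G)) := by
    by_contra hne
    push Not at hne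
    exact hG (Cfsg.Agent.Lib.Helper41.hasNormalPComplement_of_local hne)
  let 𝒰 := {U : Subgroup G // IsPGroup p U ∧ U ≠ ⊥ ∧
      ¬ HasNormalPComplement p ↥(Subgroup.normalizer (U : Set G))}
  have : Nonempty 𝒰 := let ⟨U, hU⟩ := hex; ⟨⟨U, hU⟩⟩
  obtain ⟨⟨U, hUp, hUne, hUbad⟩, hmax⟩ := Finite.exists_max
    (fun U : 𝒰 => (Nat.card (Subgroup.normalizer (U.1 : Set G))).factorization p)
  set N := Subgroup.normalizer (U : Set G) with hN
  have hNtop : N ≠ ⊤ := by
    intro h
    have hUn : U.Normal := Subgroup.normalizer_eq_top_iff.mp h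
    have := Cfsg.Agent.Lib.Helper81.le_pCore hUn hUp
    rw [hbot] at this
    exact hUne (le_bot_iff.mp this)
  obtain ⟨S'⟩ : Nonempty (Sylow p ↥N) := inferInstance
  set S := (S' : Subgroup ↥N).map N.subtype with hS
  have hSN : S ≤ N := Subgroup.map_subtype_le _
  have hSp : IsPGroup p S := S'.2.map _
  have hScard : Nat.card S = p ^ (Nat.card N).factorization p := by
    rw [hS, Subgroup.card_map_of_injective N.subtype_injective]
    exact S'.card_eq_multiplicity
  have hS'eq : S.subgroupOf N = (S' : Subgroup ↥N) := by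
    rw [hS]
    ext x
    rw [Subgroup.mem_subgroupOf]
    constructor
    · rintro ⟨y, hy, hyx⟩
      have : y = x := Subtype.ext hyx
      rw [← this]; exact hy
    · intro hx
      exact ⟨x, hx, rfl⟩
  have hUS : U ≤ S := by
    have : (U.subgroupOf N).Normal := Subgroup.normal_in_normalizer
    have hUp' : IsPGroup p (U.subgroupOf N) := hUp.comap_subtype
    have h1 : U.subgroupOf N ≤ S' := IsPGroup.le_sylow_of_normal hUp' S'
    intro x hx
    refine ⟨⟨x, Subgroup.le_normalizer hx⟩, h1 ?_, rfl⟩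
    rw [Subgroup.mem_subgroupOf]
    exact hx
  have hSne : S ≠ ⊥ := fun h => hUne (le_bot_iff.mp (h ▸ hUS))
  obtain ⟨P', hSP'⟩ := hSp.exists_le_sylow
  obtain ⟨D', hD', hN'⟩ := hall P'
  -- `D' ≠ 1`
  have hD'ne : D' ≠ ⊥ := by
    intro h
    apply hG
    have h1 : ZJ.WW (Q G) D' = ⊥ := by
      rw [eq_bot_iff, ← h]
      exact ZJ.WW_le (hQ.good G).bot D'
    have h2 : Subgroup.normalizer ((ZJ.WW (Q G) D' : Subgroup G) : Set G) = ⊤ := by
      rw [h1]
      exact Subgroup.normalizer_eq_top_iff.mpr inferInstance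
    rw [h2] at hN'
    exact pn_top_iff.mp hN'
  -- `D' ∩ S ≠ 1`
  have hDSne : D' ⊓ S ≠ ⊥ := by
    obtain ⟨z, hzD, hz1, hzc⟩ := exists_central_of_stronglyClosed P'.2 hD' hD'ne
    have hzN : z ∈ N := by
      rw [hN, Subgroup.mem_normalizer_iff]
      intro u
      have key : ∀ v ∈ U, z * v * z⁻¹ = v := by
        intro v hv
        have := hzc v (hSP' (hUS hv))
        rw [← this]; group
      constructor
      · intro hu
        rw [key u hu]; exact hu
      · intro hu
        have h3 : z⁻¹ * (z * u * z⁻¹) * z = u := by group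
        have h4 : z * (z * u * z⁻¹) * z⁻¹ = z * u * z⁻¹ := key _ hu
        have h5 : z * u * z⁻¹ = u := by
          have : z * u * z⁻¹ = z⁻¹ * (z * (z * u * z⁻¹) * z⁻¹) * z := by group
          rw [this, h4]; group
        rw [← h5]; exact hu
    have hzS : z ∈ S := by
      set B := S ⊔ Subgroup.zpowers z with hB
      have hBP : B ≤ P' := sup_le hSP' ((Subgroup.zpowers_le).mpr (hD'.1 hzD))
      have hBN : B ≤ N := sup_le hSN ((Subgroup.zpowers_le).mpr hzN)
      have hBp : IsPGroup p (B.subgroupOf N) := (P'.2.to_le hBP).comap_subtype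
      have hle : (S' : Subgroup ↥N) ≤ B.subgroupOf N := by
        rw [← hS'eq]
        intro x hx
        rw [Subgroup.mem_subgroupOf] at hx ⊢
        exact (le_sup_left : S ≤ B) hx
      have hEq := S'.is_maximal' hBp hle
      have hzB : (⟨z, hzN⟩ : ↥N) ∈ B.subgroupOf N := by
        rw [Subgroup.mem_subgroupOf]
        exact (le_sup_right : Subgroup.zpowers z ≤ B) (Subgroup.mem_zpowers z)
      rw [hEq, ← hS'eq, Subgroup.mem_subgroupOf] at hzB
      exact hzB
    intro h
    have : z ∈ D' ⊓ S := ⟨hzD, hzS⟩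
    rw [h, Subgroup.mem_bot] at this
    exact hz1 this
  -- the functor value on `D' ∩ S`
  set X := ZJ.WW (Q G) (D' ⊓ S) with hX
  have hDSp : IsPGroup p ↥(D' ⊓ S) := hSp.to_le inf_le_right
  have hXne : X ≠ ⊥ := hQ.ne_bot G (D' ⊓ S) hDSp hDSne
  have hXp : IsPGroup p X := hDSp.to_le (ZJ.WW_le (hQ.good G).bot _)
  have hsc : Cfsg.IsStronglyClosed (D' ⊓ S) S := by
    refine ⟨inf_le_right, ?_⟩
    rintro x ⟨hxD, _⟩ g hg
    exact ⟨hD'.2 x hxD g (hSP' hg), hg⟩
  have hXbad : ¬ HasNormalPComplement p ↥(Subgroup.normalizer (X : Set G)) := by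
    intro h
    apply hUbad
    have h1 := hyp_subgroup hQ N hSN hsc h
    rw [hS'eq] at h1
    exact IH ↥N (Cfsg.Agent.Lib.Lead.card_lt_of_ne_top hNtop) S' _ h1
  have hSX : Subgroup.normalizer (S : Set G) ≤ Subgroup.normalizer (X : Set G) :=
    (ZJ.stronglyClosed_inf_normalizer hD' hSP').trans
      (ZJ.normalizer_le_normalizer_WW (hQ.good G) (D' ⊓ S))
  have hle : (Nat.card (Subgroup.normalizer (X : Set G))).factorization p ≤
      (Nat.card N).factorization p := hmax ⟨X, hXp, hXne, hXbad⟩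
  by_cases hEq : S = (P' : Subgroup G)
  · apply hUbad
    apply stepA hQ IH hall N hNtop P'
    rw [← hEq]
    exact hSN
  · have hlt : S < (P' : Subgroup G) := lt_of_le_of_ne hSP' hEq
    obtain ⟨x, hxP, hxS, hxN⟩ :=
      Cfsg.Agent.Lib.Helper69.exists_mem_normalizer_notMem (P' : Subgroup G) S P'.2 hlt
    set T := (P' : Subgroup G) ⊓ Subgroup.normalizer (S : Set G) with hT
    have hTp : IsPGroup p T := P'.2.to_le inf_le_left
    have hST : S < T := by
      refine lt_of_le_of_ne (le_inf hSP' Subgroup.le_normalizer) ?_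
      intro h
      apply hxS
      rw [h]
      exact ⟨hxP, hxN⟩
    have hTX : T ≤ Subgroup.normalizer (X : Set G) := inf_le_right.trans hSX
    obtain ⟨t, ht⟩ := IsPGroup.iff_card.mp hTp
    have h1 : Nat.card S < Nat.card T := Cfsg.Agent.Lib.Lead.card_lt_of_lt' hST
    rw [hScard, ht] at h1
    have h2 : (Nat.card N).factorization p < t := (Nat.pow_lt_pow_iff_right hp.one_lt).mp h1
    have h3 : p ^ t ∣ Nat.card (Subgroup.normalizer (X : Set G)) := by
      rw [← ht]
      exact Subgroup.card_dvd_of_le hTX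
    have h4 : t ≤ (Nat.card (Subgroup.normalizer (X : Set G))).factorization p :=
      (hp.pow_dvd_iff_le_factorization Nat.card_pos.ne').mp h3
    omega

end B

end Cfsg.Agent.Lib.Helper57.GT
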