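import Mathlib
import Cfsg.Agent.Lib.Helper57.GTReductionB

/-!
# Glauberman–Thompson reduction, parts C and D: the quotients by `O_p(G)` and by `O_{p'}(G)`
-/

set_option autoImplicit false
open Cfsg
open Cfsg.Agent.Lib.Helper16 Cfsg.Agent.Lib.Helper97

universe u

namespace Cfsg.Agent.Lib.Helper57.GT

section C

variable {p : ℕ} [Fact p.Prime] {Q : ∀ (X : Type u) [Group X], Subgroup X → Prop}
variable {G : Type u} [Group G] [Finite G]

omit [Finite G] in
/-- strong closure passes to the quotient by a normal subgroup of `P` -/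
theorem stronglyClosed_map_mk (H₀ : Subgroup G) [H₀.Normal] {P D : Subgroup G} (hHP : H₀ ≤ P)
    (hD : Cfsg.IsStronglyClosed D P) :
    Cfsg.IsStronglyClosed (D.map (QuotientGroup.mk' H₀)) (P.map (QuotientGroup.mk' H₀)) := by
  refine ⟨Subgroup.map_mono hD.1, ?_⟩
  rintro _ ⟨d, hd, rfl⟩ gb hgb
  obtain ⟨g, rfl⟩ := QuotientGroup.mk'_surjective H₀ gb
  obtain ⟨y, hy, hyg⟩ := hgb
  have h1 : y⁻¹ * (g * d * g⁻¹) ∈ H₀ := by
    rw [← QuotientGroup.eq_one_iff]
    have : (QuotientGroup.mk' H₀) (y⁻¹ * (g * d * g⁻¹)) = 1 := by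
      rw [map_mul, map_inv, hyg, map_mul, map_mul, map_inv]; group
    exact this
  have h2 : g * d * g⁻¹ ∈ P := by
    have : g * d * g⁻¹ = y * (y⁻¹ * (g * d * g⁻¹)) := by group
    rw [this]
    exact P.mul_mem hy (hHP h1)
  refine ⟨g * d * g⁻¹, hD.2 d hd g h2, ?_⟩
  simp

/-- (C) the quotient by `O_p(G)` has a normal `p`-complement -/
theorem stepC (hQ : GoodFam p Q) (IH : IHyp p Q G)
    (hall : ∀ P' : Sylow p G, ∃ D' : Subgroup G, Hyp p Q G (P' : Subgroup G) D')
    (hG : ¬ HasNormalPComplement p G)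
    (H₀ : Subgroup G) [H₀.Normal] (hHp : IsPGroup p H₀)
    (hHmax : ∀ X : Subgroup G, X.Normal → IsPGroup p X → X ≤ H₀) (hHne : H₀ ≠ ⊥) :
    HasNormalPComplement p (G ⧸ H₀) := by
  classical
  have hp : p.Prime := Fact.out
  obtain ⟨P⟩ : Nonempty (Sylow p G) := inferInstance
  obtain ⟨D, hD, hND⟩ := hall P
  set f := QuotientGroup.mk' H₀ with hf
  have hfs : Function.Surjective f := QuotientGroup.mk'_surjective H₀
  have hlt := Cfsg.Agent.Lib.Lead.card_quotient_lt' H₀ hHne
  have hHP : H₀ ≤ P := hHp.le_sylow_of_normal P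
  have hPbp : IsPGroup p ((P : Subgroup G).map f) := P.2.map f
  have key : ∀ Y' : Subgroup (G ⧸ H₀), Y' ≤ (P : Subgroup G).map f → Y' ≠ ⊥ →
      (P : Subgroup G).map f ≤ Subgroup.normalizer (Y' : Set (G ⧸ H₀)) →
      HasNormalPComplement p ↥(Subgroup.normalizer (Y' : Set (G ⧸ H₀))) := by
    intro Y' hY'P hY'ne hnorm
    set Y := Y'.comap f with hY
    have hYP : Y ≤ P := by
      intro y hy
      obtain ⟨x, hx, hxy⟩ := hY'P (Subgroup.mem_comap.mp hy)
      have h1 : x⁻¹ * y ∈ H₀ := by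
        rw [← QuotientGroup.eq_one_iff, ← QuotientGroup.mk'_apply, ← hf, map_mul, map_inv, hxy]
        simp
      have : y = x * (x⁻¹ * y) := by group
      rw [this]
      exact (P : Subgroup G).mul_mem hx (hHP h1)
    have hYp : IsPGroup p Y := P.2.to_le hYP
    have hNY : Subgroup.normalizer (Y : Set G) =
        (Subgroup.normalizer (Y' : Set (G ⧸ H₀))).comap f :=
      (Subgroup.comap_normalizer_eq_of_surjective Y' hfs).symm
    have hPN : (P : Subgroup G) ≤ Subgroup.normalizer (Y : Set G) := by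
      intro x hx
      rw [hNY, Subgroup.mem_comap]
      exact hnorm (Subgroup.mem_map_of_mem f hx)
    have hne : Subgroup.normalizer (Y : Set G) ≠ ⊤ := by
      intro h
      have hYn : Y.Normal := Subgroup.normalizer_eq_top_iff.mp h
      have hYH := hHmax Y hYn hYp
      apply hY'ne
      rw [← Subgroup.map_comap_eq_self_of_surjective hfs Y', ← hY, Subgroup.map_eq_bot_iff,
        hf, QuotientGroup.ker_mk']
      exact hYH
    have h1 := stepA hQ IH hall _ hne P hPN
    have h2 := pn_map f _ h1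
    rwa [hNY, Subgroup.map_comap_eq_self_of_surjective hfs] at h2
  have hsc := stronglyClosed_map_mk H₀ hHP hD
  apply IH (G ⧸ H₀) hlt (P.mapSurjective hfs) (D.map f)
  rw [Sylow.coe_mapSurjective]
  refine ⟨hsc, ?_⟩
  by_cases hDb : D.map f = ⊥
  · -- `D ≤ O_p(G)`, so `D` and `W(D)` are normal in `G`
    exfalso
    apply hG
    have hDH : D ≤ H₀ := by
      rw [Subgroup.map_eq_bot_iff, hf, QuotientGroup.ker_mk'] at hDb
      exact hDb
    have hDn : D.Normal := by
      refine ⟨fun d hd g => ?_⟩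
      exact hD.2 d hd g (hHP (‹H₀.Normal›.conj_mem d (hDH hd) g))
    have h1 : Subgroup.normalizer ((ZJ.WW (Q G) D : Subgroup G) : Set G) = ⊤ := by
      rw [eq_top_iff]
      refine le_trans ?_ (ZJ.normalizer_le_normalizer_WW (hQ.good G) D)
      rw [Subgroup.normalizer_eq_top_iff.mpr hDn]
    rw [h1] at hND
    exact pn_top_iff.mp hND
  · have hDbp : IsPGroup p ↥(D.map f) := hPbp.to_le hsc.1
    apply key
    · exact (ZJ.WW_le (hQ.good _).bot _).trans hsc.1
    · exact hQ.ne_bot _ _ hDbp hDb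
    · exact (ZJ.stronglyClosed_le_normalizer hsc).trans
        (ZJ.normalizer_le_normalizer_WW (hQ.good _) _)

end C

section D

variable {p : ℕ} [Fact p.Prime] {Q : ∀ (X : Type u) [Group X], Subgroup X → Prop}
variable {G : Type u} [Group G] [Finite G]

/-- strong closure in a Sylow subgroup passes to the quotient by any normal subgroup -/
theorem stronglyClosed_map_mk_sylow (O : Subgroup G) [O.Normal]
    (P : Sylow p G) {D : Subgroup G} (hD : Cfsg.IsStronglyClosed D (P : Subgroup G)) :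
    Cfsg.IsStronglyClosed (D.map (QuotientGroup.mk' O))
      ((P : Subgroup G).map (QuotientGroup.mk' O)) := by
  refine ⟨Subgroup.map_mono hD.1, ?_⟩
  rintro _ ⟨d, hd, rfl⟩ gb hgb
  obtain ⟨g, rfl⟩ := QuotientGroup.mk'_surjective O gb
  obtain ⟨y, hy, hyg⟩ := hgb
  set w := g * d * g⁻¹ with hw
  have h1 : y⁻¹ * w ∈ O := by
    rw [← QuotientGroup.eq_one_iff]
    have : (QuotientGroup.mk' O) (y⁻¹ * w) = 1 := by
      rw [hw, map_mul, map_inv, hyg, map_mul, map_mul, map_inv]; group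
    exact this
  set M := (P : Subgroup G) ⊔ O with hM
  have hwM : w ∈ M := by
    have : w = y * (y⁻¹ * w) := by group
    rw [this]
    exact M.mul_mem ((le_sup_left : (P : Subgroup G) ≤ M) hy) ((le_sup_right : O ≤ M) h1)
  -- `⟨w⟩` is a `p`-subgroup of `M`
  have hdp : IsPGroup p (Subgroup.zpowers d) :=
    P.2.to_le ((Subgroup.zpowers_le).mpr (hD.1 hd))
  have hwp : IsPGroup p (Subgroup.zpowers w) := by
    have : Subgroup.zpowers w = (Subgroup.zpowers d).map (MulAut.conj g).toMonoidHom := by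
      rw [MonoidHom.map_zpowers]
      simp [hw]
    rw [this]
    exact hdp.map _
  have hwM' : Subgroup.zpowers w ≤ M := (Subgroup.zpowers_le).mpr hwM
  have hwp' : IsPGroup p ((Subgroup.zpowers w).subgroupOf M) := hwp.comap_subtype
  obtain ⟨R, hR⟩ := hwp'.exists_le_sylow
  obtain ⟨m, hm⟩ := MulAction.exists_smul_eq ↥M R (P.subtype (le_sup_left : (P : Subgroup G) ≤ M))
  have hwR : (⟨w, hwM⟩ : ↥M) ∈ R := by
    apply hR
    rw [Subgroup.mem_subgroupOf]
    exact Subgroup.mem_zpowers w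
  have h2 : (MulAut.conj m • (⟨w, hwM⟩ : ↥M) : ↥M) ∈
      ((m • R : Sylow p ↥M) : Subgroup ↥M) := by
    rw [Sylow.coe_subgroup_smul]
    exact Subgroup.smul_mem_pointwise_smul _ _ _ hwR
  rw [hm, Sylow.coe_subtype, Subgroup.mem_subgroupOf, MulAut.smul_def, MulAut.conj_apply] at h2
  have h3 : (m : G) * w * (m : G)⁻¹ ∈ (P : Subgroup G) := by simpa using h2
  obtain ⟨u, hu, o, ho, huo⟩ := Subgroup.mem_sup_of_normal_right.mp m.2
  have h4 : o * w * o⁻¹ ∈ (P : Subgroup G) := by
    have : o * w * o⁻¹ = u⁻¹ * ((m : G) * w * (m : G)⁻¹) * u := by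
      rw [← huo]; group
    rw [this]
    exact (P : Subgroup G).mul_mem ((P : Subgroup G).mul_mem ((P : Subgroup G).inv_mem hu) h3) hu
  have h5 : (o * g) * d * (o * g)⁻¹ ∈ (P : Subgroup G) := by
    have : (o * g) * d * (o * g)⁻¹ = o * w * o⁻¹ := by rw [hw]; group
    rw [this]; exact h4
  refine ⟨(o * g) * d * (o * g)⁻¹, hD.2 d hd (o * g) h5, ?_⟩
  have ho1 : (QuotientGroup.mk' O) o = 1 := (QuotientGroup.eq_one_iff o).mpr ho
  rw [map_mul, map_mul, map_inv, map_mul, ho1]
  group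

/-- (D) in a minimal counterexample `O_{p'}(G) = 1` -/
theorem stepD (hQ : GoodFam p Q) (IH : IHyp p Q G) (hG : ¬ HasNormalPComplement p G)
    (P : Sylow p G) (D : Subgroup G) (hP : Hyp p Q G (P : Subgroup G) D) :
    pPrimeCore p G = ⊥ := by
  by_contra hne
  have := Cfsg.Agent.Lib.Helper81.pPrimeCore_normal (G := G) p
  have hOc : (Nat.card (pPrimeCore p G)).Coprime p :=
    Cfsg.Agent.Lib.Helper81.card_pPrimeCore_coprime p
  set f := QuotientGroup.mk' (pPrimeCore p G) with hf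
  have hfs : Function.Surjective f := QuotientGroup.mk'_surjective _
  have hlt := Cfsg.Agent.Lib.Lead.card_quotient_lt' (pPrimeCore p G) hne
  have hDp : IsPGroup p ↥D := P.2.to_le hP.1.1
  have hinj : D ⊓ f.ker = ⊥ := by
    rw [hf, QuotientGroup.ker_mk']
    exact Cfsg.Agent.Lib.Helper15.isPGroup_inf_coprime_eq_bot hDp hOc
  apply hG
  apply pn_of_quotient_coprime (pPrimeCore p G) hOc
  apply IH (G ⧸ pPrimeCore p G) hlt (P.mapSurjective hfs) (D.map f)
  rw [Sylow.coe_mapSurjective]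
  refine ⟨stronglyClosed_map_mk_sylow (pPrimeCore p G) P hP.1, ?_⟩
  rw [← WW_map hQ f hinj, Cfsg.Agent.Lib.Helper15.normalizer_map_mk_of_coprime (pPrimeCore p G) hOc _
    (hDp.to_le (ZJ.WW_le (hQ.good G).bot D))]
  exact pn_map f _ hP.2

end D

end Cfsg.Agent.Lib.Helper57.GT
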