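import Mathlib
import Cfsg.Agent.Lib.Helper16.ZJ4
import Cfsg.Agent.Lib.Helper57.GTFam
import Cfsg.Agent.Lib.Helper57.GTReductionC

/-!
# Factorisation `G = O_{p'}(G) N_G(W(D))` for a strongly closed subgroup `D`

For `p` odd, `G` finite `p`-constrained and `p`-stable in the normalizer form, `P` a Sylow
`p`-subgroup and `D` strongly closed in `P`, the characteristic subgroup `W(D) = ZJ.WW (Q G) D`
satisfies `G = O_{p'}(G) N_G(W(D))`.  Also: the normalizer form of `p`-stability passes to subgroups.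
-/

set_option autoImplicit false
open Cfsg
open Cfsg.Agent.Lib.Helper16

universe u

namespace Cfsg.Agent.Lib.Helper57.GT

open scoped commutatorElement

section stab

variable {G : Type*} [Group G]

/-- transport of the normalizer form of stability to `G / O_{p'}(G)` -/
theorem stableFor_quot_of_normalizerPStable [Finite G] {p : ℕ} [Fact p.Prime]
    (hs : Cfsg.IsNormalizerPStable p G) (P : Sylow p G) :
    ZJ.StableFor p ((P : Subgroup G).map (QuotientGroup.mk' (Cfsg.pPrimeCore p G))) := by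
  intro V hVn hV ab hab hquad
  obtain ⟨a, haP, rfl⟩ := hab
  have hMn : (V.comap (QuotientGroup.mk' (Cfsg.pPrimeCore p G))).Normal := hVn.comap _
  have hPK : (P : Subgroup G) ⊓ Cfsg.pPrimeCore p G = ⊥ := ZJ.pgroup_inf_pPrimeCore P.2
  have hP₁ : IsPGroup p ↥((P : Subgroup G) ⊓ V.comap (QuotientGroup.mk' (Cfsg.pPrimeCore p G))) :=
    P.2.to_le inf_le_left
  have hnorm : ∀ a' ∈ Subgroup.zpowers a,
      ∀ x ∈ (P : Subgroup G) ⊓ V.comap (QuotientGroup.mk' (Cfsg.pPrimeCore p G)),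
      a' * x * a'⁻¹ ∈ (P : Subgroup G) ⊓ V.comap (QuotientGroup.mk' (Cfsg.pPrimeCore p G)) := by
    intro a' ha' x hx
    have ha'P : a' ∈ (P : Subgroup G) := ((Subgroup.zpowers_le).mpr haP) ha'
    exact ⟨Subgroup.mul_mem _ (Subgroup.mul_mem _ ha'P hx.1) (Subgroup.inv_mem _ ha'P),
      hMn.conj_mem x hx.2 a'⟩
  have hPV : ((P : Subgroup G) ⊓ V.comap (QuotientGroup.mk' (Cfsg.pPrimeCore p G))).map
      (QuotientGroup.mk' (Cfsg.pPrimeCore p G)) = V := by
    apply le_antisymm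
    · rintro _ ⟨x, hx, rfl⟩
      exact hx.2
    · intro v hv
      obtain ⟨m, rfl⟩ := QuotientGroup.mk'_surjective (Cfsg.pPrimeCore p G) v
      obtain ⟨y, hy, c, hc, rfl⟩ := ZJ.exists_mul_of_mem_comap P (Cfsg.pPrimeCore p G) V hV hv
      refine ⟨y, hy, ?_⟩
      have hcc : (QuotientGroup.mk' (Cfsg.pPrimeCore p G) c) = 1 :=
        (QuotientGroup.eq_one_iff c).mpr hc
      rw [map_mul, hcc, mul_one]
  have hquad' : ⁅⁅(P : Subgroup G) ⊓ V.comap (QuotientGroup.mk' (Cfsg.pPrimeCore p G)),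
      Subgroup.zpowers a⁆, Subgroup.zpowers a⁆ = ⊥ := by
    rw [eq_bot_iff, ← hPK]
    apply le_inf
    · exact ZJ.commutator_le_of_le
        (ZJ.commutator_le_of_le inf_le_left ((Subgroup.zpowers_le).mpr haP))
        ((Subgroup.zpowers_le).mpr haP)
    · have h1 : (⁅⁅(P : Subgroup G) ⊓ V.comap (QuotientGroup.mk' (Cfsg.pPrimeCore p G)),
          Subgroup.zpowers a⁆, Subgroup.zpowers a⁆).map
          (QuotientGroup.mk' (Cfsg.pPrimeCore p G)) = ⊥ := by
        rw [Subgroup.map_commutator, Subgroup.map_commutator, MonoidHom.map_zpowers, hPV]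
        exact hquad
      rw [Subgroup.map_eq_bot_iff, QuotientGroup.ker_mk'] at h1
      exact h1
  have haN : a ∈ Subgroup.normalizer
      (((P : Subgroup G) ⊓ V.comap (QuotientGroup.mk' (Cfsg.pPrimeCore p G)) : Subgroup G) :
        Set G) := by
    rw [Subgroup.mem_normalizer_iff]
    intro x
    constructor
    · intro hx
      exact hnorm a (Subgroup.mem_zpowers a) x hx
    · intro hx
      have := hnorm a⁻¹ (Subgroup.inv_mem _ (Subgroup.mem_zpowers a)) _ hx
      have e : a⁻¹ * (a * x * a⁻¹) * a⁻¹⁻¹ = x := by group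
      rwa [e] at this
  have hconc := hs _ hP₁ a haN hquad'
  have hsurj : ∀ g : G ⧸ Cfsg.pPrimeCore p G, ∃ n ∈ Subgroup.normalizer
      (((P : Subgroup G) ⊓ V.comap (QuotientGroup.mk' (Cfsg.pPrimeCore p G)) : Subgroup G) :
        Set G), (QuotientGroup.mk' (Cfsg.pPrimeCore p G)) n = g := by
    intro g
    obtain ⟨g₀, rfl⟩ := QuotientGroup.mk'_surjective (Cfsg.pPrimeCore p G) g
    obtain ⟨n, hn, c, hc, rfl⟩ := ZJ.factor_of_normal_pgroup P (Cfsg.pPrimeCore p G) V hV g₀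
    refine ⟨n, hn, ?_⟩
    have hcc : (QuotientGroup.mk' (Cfsg.pPrimeCore p G) c) = 1 :=
      (QuotientGroup.eq_one_iff c).mpr hc
    rw [map_mul, hcc, mul_one]
  exact ZJ.mem_pCore_quot_of_section (QuotientGroup.mk' (Cfsg.pPrimeCore p G)) _ V hPV hsurj
    ⟨a, haN⟩ hconc

/-- the normalizer form of `p`-stability passes to subgroups -/
theorem normalizerPStable_subgroup {p : ℕ} (hs : Cfsg.IsNormalizerPStable p G) (H : Subgroup G) :
    Cfsg.IsNormalizerPStable p ↥H := by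
  intro P hP g hg hquad
  have hPm : IsPGroup p ↥(P.map H.subtype) := hP.map _
  have hquad' : ⁅⁅P.map H.subtype, Subgroup.zpowers (g : G)⁆, Subgroup.zpowers (g : G)⁆ = ⊥ := by
    have h1 : Subgroup.zpowers (g : G) = (Subgroup.zpowers g).map H.subtype := by
      rw [MonoidHom.map_zpowers]; rfl
    rw [h1, ← Subgroup.map_commutator, ← Subgroup.map_commutator, hquad, Subgroup.map_bot]
  have hgN : (g : G) ∈ Subgroup.normalizer ((P.map H.subtype : Subgroup G) : Set G) :=
    Subgroup.le_normalizer_map H.subtype ⟨g, hg, rfl⟩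
  have h2 := hs _ hPm (g : G) hgN hquad'
  apply ZJ.mem_pCore_of_inj H.subtype P (x := ⟨g, hg⟩)
  · intro x hx hxc
    rw [Subgroup.mem_centralizer_iff] at hxc ⊢
    intro y hy
    have := hxc (H.subtype y) ⟨y, hy, rfl⟩
    exact Subtype.ext (by simpa using this)
  · exact h2

end stab

section factor

variable {p : ℕ} [Fact p.Prime] {Q : ∀ (X : Type u) [Group X], Subgroup X → Prop}
variable {G : Type u} [Group G] [Finite G]

/-- `G = O_{p'}(G) N_G(W(D))` for `D` strongly closed in the Sylow subgroup `P`, when `G` is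
`p`-constrained and `p`-stable in the normalizer form -/
theorem sc_factorization (hp : p ≠ 2) (hQ : GoodFam p Q) (hc : Cfsg.IsPConstrained p G)
    (hs : Cfsg.IsNormalizerPStable p G) (P : Sylow p G) (D : Subgroup G)
    (hD : Cfsg.IsStronglyClosed D (P : Subgroup G)) :
    Cfsg.pPrimeCore p G ⊔ Subgroup.normalizer (ZJ.WW (Q G) D : Set G) = ⊤ := by
  have hPK : (P : Subgroup G) ⊓ Cfsg.pPrimeCore p G = ⊥ := ZJ.pgroup_inf_pPrimeCore P.2
  have hinj : (P : Subgroup G) ⊓ (QuotientGroup.mk' (Cfsg.pPrimeCore p G)).ker = ⊥ := by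
    rw [QuotientGroup.ker_mk']; exact hPK
  have hinjD : D ⊓ (QuotientGroup.mk' (Cfsg.pPrimeCore p G)).ker = ⊥ :=
    inf_ker_eq_bot_of_le _ hinj hD.1
  have hcb := ZJ.centralizer_pCore_quot_le hc
  have hstb := stableFor_quot_of_normalizerPStable hs P
  have hcoe : ((P.mapSurjective (QuotientGroup.mk'_surjective (Cfsg.pPrimeCore p G)) :
      Sylow p (G ⧸ Cfsg.pPrimeCore p G)) : Subgroup (G ⧸ Cfsg.pPrimeCore p G)) =
      (P : Subgroup G).map (QuotientGroup.mk' (Cfsg.pPrimeCore p G)) :=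
    Sylow.coe_mapSurjective _ _
  have hDb := stronglyClosed_map_mk_sylow (Cfsg.pPrimeCore p G) P hD
  rw [← hcoe] at hstb hDb
  have hZn := ZJ.WW_normal_sc hp (hQ.good (G ⧸ Cfsg.pPrimeCore p G)) hcb
    (P.mapSurjective (QuotientGroup.mk'_surjective (Cfsg.pPrimeCore p G))) hstb _ hDb
  rw [← WW_map hQ (QuotientGroup.mk' (Cfsg.pPrimeCore p G)) hinjD] at hZn
  have hMn : (((ZJ.WW (Q G) D).map
      (QuotientGroup.mk' (Cfsg.pPrimeCore p G))).comap
      (QuotientGroup.mk' (Cfsg.pPrimeCore p G))).Normal := hZn.comap _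
  have hZP : ZJ.WW (Q G) D ≤ P := (ZJ.WW_le (hQ.good G).bot _).trans hD.1
  have hPM : (P : Subgroup G) ⊓ ((ZJ.WW (Q G) D).map
      (QuotientGroup.mk' (Cfsg.pPrimeCore p G))).comap
      (QuotientGroup.mk' (Cfsg.pPrimeCore p G)) = ZJ.WW (Q G) D := by
    apply le_antisymm
    · rintro x ⟨hxP, hxM⟩
      obtain ⟨z, hz, hzx⟩ := hxM
      have : z = x := ZJ.injOn_of_inf_ker _ hinj (hZP hz) hxP hzx
      rw [← this]; exact hz
    · exact le_inf hZP (fun z hz => Subgroup.mem_map_of_mem _ hz)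
  rw [eq_top_iff]
  intro g _
  obtain ⟨n, hn, m, hm, rfl⟩ := ZJ.frattini_inf_normal P
    (((ZJ.WW (Q G) D).map
      (QuotientGroup.mk' (Cfsg.pPrimeCore p G))).comap
      (QuotientGroup.mk' (Cfsg.pPrimeCore p G))) g
  rw [hPM] at hn
  obtain ⟨z, hz, hzm⟩ := hm
  have hk : z⁻¹ * m ∈ Cfsg.pPrimeCore p G := QuotientGroup.eq.mp hzm
  have h1 : n * z ∈ Subgroup.normalizer (ZJ.WW (Q G) D : Set G) :=
    Subgroup.mul_mem _ hn (Subgroup.le_normalizer hz)
  have e2 : n * m = (n * z) * (z⁻¹ * m) := by group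
  rw [e2, sup_comm]
  exact Subgroup.mul_mem_sup h1 hk

end factor

end Cfsg.Agent.Lib.Helper57.GT
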