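import Mathlib
import Cfsg.Agent.Lib.Helper41.Control
import Cfsg.Agent.Lib.Helper57.SCFactor

/-!
# Control of strong fusion from a factorisation `N = K M`

If `K` is a normal subgroup of `N` meeting the Sylow `p`-subgroup `R` trivially, `R ≤ M` and
`N = K M`, then `M` controls strong fusion in `R`.
-/

set_option autoImplicit false
open Cfsg
open Cfsg.Agent.Lib.Helper16
open Cfsg.Agent.Lib.Helper41

universe u

namespace Cfsg.Agent.Lib.Helper57.GT

section ctrl

variable {N : Type*} [Group N] [Finite N] {p : ℕ} [Fact p.Prime]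

theorem ctrl_of_factor (R : Sylow p N) (K : Subgroup N) [hKn : K.Normal]
    (hRK : (R : Subgroup N) ⊓ K = ⊥) (M : Subgroup N) (hRM : (R : Subgroup N) ≤ M)
    (hKM : K ⊔ M = ⊤) (A : Set N) (hA : A ⊆ (R : Subgroup N)) (h : N)
    (hhA : ∀ a ∈ A, h * a * h⁻¹ ∈ (R : Subgroup N)) :
    ∃ x ∈ M, ∀ a ∈ A, x * a * x⁻¹ = h * a * h⁻¹ := by
  have hh : h ∈ K ⊔ M := by rw [hKM]; trivial
  obtain ⟨c, hc, x, hx, rfl⟩ := Subgroup.mem_sup_of_normal_left.mp hh
  set B := Subgroup.closure A with hB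
  have hBR : B ≤ (R : Subgroup N) := (Subgroup.closure_le _).mpr hA
  have hBp : IsPGroup p B := R.2.to_le hBR
  have hB'p : IsPGroup p (lc x B) := isPGroup_lc hBp
  -- conjugation by `c * x` maps `B` into `R`
  have hBh : ∀ b ∈ B, (c * x) * b * (c * x)⁻¹ ∈ (R : Subgroup N) := by
    have : B ≤ (R : Subgroup N).comap (MulAut.conj (c * x)).toMonoidHom := by
      rw [hB, Subgroup.closure_le]
      intro a ha
      show (MulAut.conj (c * x)) a ∈ (R : Subgroup N)
      rw [MulAut.conj_apply]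
      exact hhA a ha
    intro b hb
    have h1 : (MulAut.conj (c * x)) b ∈ (R : Subgroup N) := this hb
    rwa [MulAut.conj_apply] at h1
  set L := (K ⊔ (R : Subgroup N)) ⊓ M with hL
  have hRL : (R : Subgroup N) ≤ L := le_inf le_sup_right hRM
  have hB'L : lc x B ≤ L := by
    intro y hy
    rw [mem_lc] at hy
    have hyM : y ∈ M := by
      have : y = x * (x⁻¹ * y * x) * x⁻¹ := by group
      rw [this]
      exact M.mul_mem (M.mul_mem hx (hRM (hBR hy))) (M.inv_mem hx)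
    refine ⟨?_, hyM⟩
    have h1 := hBh _ hy
    have e : y = c⁻¹ * ((c * x) * (x⁻¹ * y * x) * (c * x)⁻¹) * c := by group
    rw [e]
    exact Subgroup.mul_mem _ (Subgroup.mul_mem _ (Subgroup.mem_sup_left (K.inv_mem hc))
      (Subgroup.mem_sup_right h1)) (Subgroup.mem_sup_left hc)
  have hidx : ¬ p ∣ (R : Subgroup N).relIndex L := by
    intro hdvd
    have h1 : (R : Subgroup N).relIndex L ∣ (R : Subgroup N).index :=
      Subgroup.relIndex_dvd_index_of_le hRL
    exact R.not_dvd_index (hdvd.trans h1)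
  obtain ⟨l, hlL, hl⟩ := exists_lc_le_of_relIndex hRL R.2 hidx hB'p hB'L
  obtain ⟨k, hk, r, hr, hkr⟩ := Subgroup.mem_sup_of_normal_left.mp hlL.1
  refine ⟨r⁻¹ * l * x, M.mul_mem (M.mul_mem (M.inv_mem (hRM hr)) hlL.2) hx, ?_⟩
  intro a ha
  have haB : a ∈ B := Subgroup.subset_closure ha
  have h1 : l * (x * a * x⁻¹) * l⁻¹ ∈ (R : Subgroup N) := hl (conj_mem_lc (conj_mem_lc haB))
  have h2 : r⁻¹ * l * x * a * (r⁻¹ * l * x)⁻¹ ∈ (R : Subgroup N) := by
    have e : r⁻¹ * l * x * a * (r⁻¹ * l * x)⁻¹ = r⁻¹ * (l * (x * a * x⁻¹) * l⁻¹) * r := by group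
    rw [e]
    exact Subgroup.mul_mem _ (Subgroup.mul_mem _ (Subgroup.inv_mem _ hr) h1) hr
  have h3 := hhA a ha
  have hinj : (R : Subgroup N) ⊓ (QuotientGroup.mk' K).ker = ⊥ := by
    rw [QuotientGroup.ker_mk']; exact hRK
  apply ZJ.injOn_of_inf_ker (QuotientGroup.mk' K) hinj h2 h3
  have hk1 : (QuotientGroup.mk' K) k = 1 := (QuotientGroup.eq_one_iff k).mpr hk
  have hc1 : (QuotientGroup.mk' K) c = 1 := (QuotientGroup.eq_one_iff c).mpr hc
  rw [← hkr]
  simp only [map_mul, map_inv, hk1, hc1]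
  group

end ctrl

end Cfsg.Agent.Lib.Helper57.GT
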