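import Mathlib
import Cfsg.Agent.Lib.Helper41.Control
import Cfsg.Agent.Lib.Helper57.SCControl
import Cfsg.Agent.Lib.Helper57.GTReductionB

/-!
# The conjugacy functor attached to a strongly closed subgroup

For `D` strongly closed in the Sylow `p`-subgroup `P` of `G`, the functor
`R ↦ W(⟨r ∈ R : r conjugate into D⟩)` is a conjugacy functor with value `W(D)` at `P`; under
`p`-stability in the normalizer form and `p`-constraint of the `p`-locals, its normalizer at `P`
controls strong fusion in `P`.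
-/

set_option autoImplicit false
open Cfsg
open Cfsg.Agent.Lib.Helper16
open Cfsg.Agent.Lib.Helper41

universe u

namespace Cfsg.Agent.Lib.Helper57.GT

section functor

variable {G : Type u} [Group G]

/-- the subgroup of `R` generated by its elements conjugate into `D` -/
def scCl (D R : Subgroup G) : Subgroup G :=
  Subgroup.closure {r | r ∈ R ∧ ∃ g : G, g * r * g⁻¹ ∈ D}

theorem scCl_le (D R : Subgroup G) : scCl D R ≤ R :=
  (Subgroup.closure_le _).mpr (fun _ hr => hr.1)

theorem scCl_lc (D R : Subgroup G) (g : G) : scCl D (lc g R) = lc g (scCl D R) := by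
  unfold scCl
  change Subgroup.closure _ = (Subgroup.closure _).map (MulAut.conj g).toMonoidHom
  rw [MonoidHom.map_closure]
  congr 1
  ext y
  constructor
  · rintro ⟨hy, k, hk⟩
    rw [mem_lc] at hy
    refine ⟨g⁻¹ * y * g, ⟨hy, k * g, ?_⟩, ?_⟩
    · have : k * g * (g⁻¹ * y * g) * (k * g)⁻¹ = k * y * k⁻¹ := by group
      rw [this]; exact hk
    · show (MulAut.conj g) (g⁻¹ * y * g) = y
      rw [MulAut.conj_apply]; group
  · rintro ⟨r, ⟨hr, k, hk⟩, rfl⟩
    refine ⟨?_, k * g⁻¹, ?_⟩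
    · show (MulAut.conj g) r ∈ lc g R
      rw [MulAut.conj_apply]
      exact conj_mem_lc hr
    · show k * g⁻¹ * ((MulAut.conj g) r) * (k * g⁻¹)⁻¹ ∈ D
      rw [MulAut.conj_apply]
      have : k * g⁻¹ * (g * r * g⁻¹) * (k * g⁻¹)⁻¹ = k * r * k⁻¹ := by group
      rw [this]; exact hk

theorem scCl_eq_inf {D P R : Subgroup G} (hD : Cfsg.IsStronglyClosed D P) (hRP : R ≤ P) :
    scCl D R = D ⊓ R := by
  apply le_antisymm
  · unfold scCl
    rw [Subgroup.closure_le]
    rintro r ⟨hr, g, hg⟩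
    refine ⟨?_, hr⟩
    have h1 := hD.2 _ hg g⁻¹ (by
      have : g⁻¹ * (g * r * g⁻¹) * g⁻¹⁻¹ = r := by group
      rw [this]; exact hRP hr)
    have : g⁻¹ * (g * r * g⁻¹) * g⁻¹⁻¹ = r := by group
    rwa [this] at h1
  · rintro d ⟨hdD, hdR⟩
    apply Subgroup.subset_closure
    exact ⟨hdR, 1, by simpa using hdD⟩

open Classical in
/-- the conjugacy functor of `D` -/
noncomputable def scW (Q : ∀ (X : Type u) [Group X], Subgroup X → Prop) (D R : Subgroup G) :
    Subgroup G :=
  if scCl D R = ⊥ then R else ZJ.WW (Q G) (scCl D R)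

theorem scW_of_ne_bot (Q : ∀ (X : Type u) [Group X], Subgroup X → Prop) {D R : Subgroup G}
    (h : scCl D R ≠ ⊥) : scW Q D R = ZJ.WW (Q G) (scCl D R) := by
  unfold scW
  rw [if_neg h]

theorem scW_of_eq_bot (Q : ∀ (X : Type u) [Group X], Subgroup X → Prop) {D R : Subgroup G}
    (h : scCl D R = ⊥) : scW Q D R = R := by
  unfold scW
  rw [if_pos h]

theorem isConjugacyFunctor_scW [Finite G] {p : ℕ} {Q : ∀ (X : Type u) [Group X], Subgroup X → Prop}
    (hQ : GoodFam p Q) (D : Subgroup G) : IsConjugacyFunctor p (scW Q D) := by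
  intro R hR
  refine ⟨?_, ?_, ?_⟩
  · by_cases h : scCl D R = ⊥
    · rw [scW_of_eq_bot Q h]
    · rw [scW_of_ne_bot Q h]
      exact (ZJ.WW_le (hQ.good G).bot _).trans (scCl_le D R)
  · intro hne
    by_cases h : scCl D R = ⊥
    · rw [scW_of_eq_bot Q h]; exact hne
    · rw [scW_of_ne_bot Q h]
      exact hQ.ne_bot G _ (hR.to_le (scCl_le D R)) h
  · intro g
    change scW Q D (lc g R) = lc g (scW Q D R)
    by_cases h : scCl D R = ⊥
    · have h' : scCl D (lc g R) = ⊥ := by rw [scCl_lc, h]; exact Subgroup.map_bot _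
      rw [scW_of_eq_bot Q h, scW_of_eq_bot Q h']
    · have h' : scCl D (lc g R) ≠ ⊥ := by
        rw [scCl_lc]
        intro hb
        exact h (lc_eq_bot_iff.mp hb)
      rw [scW_of_ne_bot Q h, scW_of_ne_bot Q h', scCl_lc]
      exact (ZJ.WW_map (hQ.good G) (MulAut.conj g) _).symm

end functor

section loc

variable {p : ℕ} [Fact p.Prime] {Q : ∀ (X : Type u) [Group X], Subgroup X → Prop}
variable {G : Type u} [Group G] [Finite G]

/-- control of strong fusion in the normalizer of a nontrivial subgroup `T` of `P` whose normalizer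
in `P` is a Sylow subgroup of `N_G(T)` -/
theorem local_ctrl (hp : p ≠ 2) (hQ : GoodFam p Q) (P : Sylow p G) (D : Subgroup G)
    (hD : Cfsg.IsStronglyClosed D (P : Subgroup G)) (hDne : D ≠ ⊥)
    (hst : Cfsg.IsNormalizerPStable p G)
    (hc : ∀ U : Subgroup G, U ≤ (P : Subgroup G) → U ≠ ⊥ →
      Cfsg.IsPConstrained p ↥(Subgroup.normalizer (U : Set G)))
    (T : Subgroup G) (hTP : T ≤ (P : Subgroup G)) (hTne : T ≠ ⊥)
    (hidx : ¬ p ∣ ((P : Subgroup G) ⊓ Subgroup.normalizer (T : Set G)).relIndex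
      (Subgroup.normalizer (T : Set G))) :
    ControlsStrongFusionIn p (scW Q D) (Subgroup.normalizer (T : Set G)) := by
  set H := Subgroup.normalizer (T : Set G) with hH
  set R := (P : Subgroup G) ⊓ H with hR
  have hRH : R ≤ H := inf_le_right
  have hRP : R ≤ (P : Subgroup G) := inf_le_left
  have hRp : IsPGroup p R := P.2.to_le hRP
  refine ⟨R, hRH, hRp, hidx, ?_⟩
  have hR' : IsPGroup p (R.subgroupOf H) := hRp.comap_subtype
  let RS : Sylow p ↥H := hR'.toSylow hidx
  have hRS : (RS : Subgroup ↥H) = R.subgroupOf H := rfl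
  have hD₁ : scCl D R = D ⊓ R := scCl_eq_inf hD hRP
  have hD₁ne : scCl D R ≠ ⊥ := by
    obtain ⟨z, hzD, hz1, hzc⟩ := exists_central_of_stronglyClosed P.2 hD hDne
    intro hb
    apply hz1
    have hzH : z ∈ H := by
      apply Subgroup.centralizer_le_normalizer
      rw [Subgroup.mem_centralizer_iff]
      intro t ht
      exact hzc t (hTP ht)
    have : z ∈ D ⊓ R := ⟨hzD, hD.1 hzD, hzH⟩
    rw [← hD₁, hb, Subgroup.mem_bot] at this
    exact this
  set D' := (D ⊓ R).subgroupOf H with hD'def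
  have hD' : Cfsg.IsStronglyClosed D' (RS : Subgroup ↥H) := by
    refine ⟨?_, ?_⟩
    · intro x hx
      rw [hRS, Subgroup.mem_subgroupOf]
      exact (Subgroup.mem_subgroupOf.mp hx).2
    · intro x hx g hg
      rw [hRS, Subgroup.mem_subgroupOf] at hg
      rw [hD'def, Subgroup.mem_subgroupOf] at hx ⊢
      refine ⟨?_, hg⟩
      have := hD.2 (x : G) hx.1 (g : G) (hRP (by simpa using hg))
      simpa using this
  have hfac := sc_factorization hp hQ (hc T hTP hTne) (normalizerPStable_subgroup hst H) RS D' hD'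
  have hRM : (RS : Subgroup ↥H) ≤ Subgroup.normalizer (ZJ.WW (Q ↥H) D' : Set ↥H) :=
    (ZJ.stronglyClosed_le_normalizer hD').trans (ZJ.normalizer_le_normalizer_WW (hQ.good ↥H) D')
  have hWeq : scW Q D R = (ZJ.WW (Q ↥H) D').map H.subtype := by
    rw [scW_of_ne_bot Q hD₁ne, hD₁, WW_map_of_injective hQ H.subtype H.subtype_injective D',
      hD'def, Subgroup.subgroupOf_map_subtype, inf_eq_left.mpr (inf_le_right.trans hRH)]
  intro A h hh hAR hhA
  obtain ⟨x, hxM, hxa⟩ := ctrl_of_factor RS (Cfsg.pPrimeCore p ↥H)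
    (ZJ.pgroup_inf_pPrimeCore RS.2) (Subgroup.normalizer (ZJ.WW (Q ↥H) D' : Set ↥H)) hRM hfac
    {a : ↥H | (a : G) ∈ A}
    (by
      intro a ha
      rw [SetLike.mem_coe, hRS, Subgroup.mem_subgroupOf]
      exact hAR ha)
    ⟨h, hh⟩
    (by
      intro a ha
      rw [hRS, Subgroup.mem_subgroupOf]
      have := hhA ⟨(a : G), ha, rfl⟩
      simpa using this)
  refine ⟨(x : G), ⟨x.2, ?_⟩, ?_⟩
  · rw [hWeq]
    exact Subgroup.le_normalizer_map H.subtype ⟨x, hxM, rfl⟩
  · intro a ha
    have haH : a ∈ H := hRH (hAR ha)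
    have := hxa ⟨a, haH⟩ ha
    have := congrArg Subtype.val this
    simpa using this

/-- the normalizer of `W(D)` controls strong fusion in `P` -/
theorem sc_control (hp : p ≠ 2) (hQ : GoodFam p Q) (P : Sylow p G) (D : Subgroup G)
    (hD : Cfsg.IsStronglyClosed D (P : Subgroup G))
    (hst : Cfsg.IsNormalizerPStable p G)
    (hc : ∀ U : Subgroup G, U ≤ (P : Subgroup G) → U ≠ ⊥ →
      Cfsg.IsPConstrained p ↥(Subgroup.normalizer (U : Set G)))
    (A : Set G) (hA : A ⊆ (P : Subgroup G)) :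
    Cfsg.ControlsStrongFusionOf (Subgroup.normalizer (ZJ.WW (Q G) D : Set G)) (P : Subgroup G) A := by
  refine ⟨hA, ?_⟩
  intro g hgA
  by_cases hDne : D = ⊥
  · have hW : ZJ.WW (Q G) D = ⊥ := by
      rw [eq_bot_iff, ← hDne]
      exact ZJ.WW_le (hQ.good G).bot _
    refine ⟨g, ?_, fun a _ => rfl⟩
    rw [hW, Subgroup.normalizer_eq_top]
    trivial
  · have hW := isConjugacyFunctor_scW hQ D
    have hctl := controls_of_local P hW (fun T hTne hwp =>
      local_ctrl hp hQ P D hD hDne hst hc T hwp.1 hTne (hwp.2 0))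
    obtain ⟨x, hx, hxa⟩ := hctl A g (Subgroup.mem_top g) hA hgA
    have hcl : scCl D (P : Subgroup G) = D := by
      rw [scCl_eq_inf hD le_rfl, inf_eq_left.mpr hD.1]
    have hWP : scW Q D (P : Subgroup G) = ZJ.WW (Q G) D := by
      rw [scW_of_ne_bot Q (by rw [hcl]; exact hDne), hcl]
    rw [hWP] at hx
    exact ⟨x, hx.2, fun a ha => (hxa a ha).symm⟩

end loc

end Cfsg.Agent.Lib.Helper57.GT
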