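import Mathlib.GroupTheory.Sylow
import Mathlib.GroupTheory.Transfer
import Mathlib.GroupTheory.SpecificGroups.Cyclic
import Mathlib.NumberTheory.Basic
import Mathlib.Data.Nat.Prime.Int
import Mathlib.RingTheory.PrincipalIdealDomain
import Mathlib.RingTheory.Int.Basic

set_option autoImplicit false

namespace Cfsg.Agent.Lib.Helper57

/-- conjugation by powers: if `n c n⁻¹ = c ^ r` then `n^m c n^(-m) = c ^ (r^m)`. -/
theorem conj_pow_eq_zpow_pow {G : Type*} [Group G] (n c : G) (r : ℤ)
    (h : n * c * n⁻¹ = c ^ r) (m : ℕ) : n ^ m * c * (n ^ m)⁻¹ = c ^ (r ^ m) := by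
  induction m with
  | zero => simp
  | succ m ih =>
    calc n ^ (m + 1) * c * (n ^ (m + 1))⁻¹ = n * (n ^ m * c * (n ^ m)⁻¹) * n⁻¹ := by
          rw [pow_succ']; group
      _ = n * (c ^ (r ^ m)) * n⁻¹ := by rw [ih]
      _ = (n * c * n⁻¹) ^ (r ^ m) := by rw [conj_zpow]
      _ = c ^ (r ^ (m + 1)) := by rw [h, ← zpow_mul, pow_succ']

/-- If `P` is a cyclic Sylow `p`-subgroup, `x ∈ P` is nontrivial and `N(P)` centralizes `x`,
then `N(P)` centralizes `P`. -/
theorem normalizer_le_centralizer_of_cyclic_of_fixed {G : Type*} [Group G] [Finite G] {p : ℕ}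
    [Fact p.Prime] (P : Sylow p G) (hcyc : IsCyclic ↥(P : Subgroup G)) (x : G)
    (hxP : x ∈ (P : Subgroup G)) (hx1 : x ≠ 1)
    (hN : Subgroup.normalizer ((P : Subgroup G) : Set G) ≤ Subgroup.centralizer ({x} : Set G)) :
    Subgroup.normalizer ((P : Subgroup G) : Set G) ≤
      Subgroup.centralizer ((P : Subgroup G) : Set G) := by
  have hp : p.Prime := Fact.out
  obtain ⟨c, hc⟩ := hcyc.exists_generator
  have hgen : ∀ y ∈ (P : Subgroup G), ∃ i : ℤ, (c : G) ^ i = y := by
    intro y hy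
    obtain ⟨i, hi⟩ := Subgroup.mem_zpowers_iff.mp (hc ⟨y, hy⟩)
    refine ⟨i, ?_⟩
    have := congrArg Subtype.val hi
    simpa using this
  obtain ⟨k, hk⟩ := IsPGroup.iff_card.mp P.2
  have hord : orderOf (c : G) = p ^ k := by
    rw [Subgroup.orderOf_coe, orderOf_eq_card_of_forall_mem_zpowers hc, hk]
  -- step 2
  have step2 : ∀ n ∈ Subgroup.normalizer ((P : Subgroup G) : Set G),
      n ^ (p ^ k) ∈ Subgroup.centralizer ((P : Subgroup G) : Set G) := by
    intro n hn
    have hcn : n * (c : G) * n⁻¹ ∈ (P : Subgroup G) := (hn (c : G)).mp c.2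
    obtain ⟨r, hr⟩ := hgen _ hcn
    obtain ⟨j, hj⟩ := hgen x hxP
    have hnx : n * x * n⁻¹ = x := by
      have := hN hn
      rw [Subgroup.mem_centralizer_iff] at this
      have h2 := this x rfl
      calc n * x * n⁻¹ = x * n * n⁻¹ := by rw [h2]
        _ = x := by group
    have h1 : (c : G) ^ (r * j) = (c : G) ^ j := by
      calc (c : G) ^ (r * j) = ((c : G) ^ r) ^ j := zpow_mul _ _ _
        _ = (n * (c : G) * n⁻¹) ^ j := by rw [hr]
        _ = n * (c : G) ^ j * n⁻¹ := by rw [conj_zpow]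
        _ = (c : G) ^ j := by rw [hj, hnx]
    have h2 : (c : G) ^ ((r - 1) * j) = 1 := by
      have : (r - 1) * j = r * j - j := by ring
      rw [this, zpow_sub, h1, mul_inv_cancel]
    have h3 : ((p ^ k : ℕ) : ℤ) ∣ (r - 1) * j := by
      rw [← hord]; exact orderOf_dvd_iff_zpow_eq_one.mpr h2
    have h4 : ¬ ((p ^ k : ℕ) : ℤ) ∣ j := by
      intro hd
      rw [← hord, orderOf_dvd_iff_zpow_eq_one, hj] at hd
      exact hx1 hd
    have h5 : (p : ℤ) ∣ r - 1 := by
      by_contra hnd
      have hcop : IsCoprime (p : ℤ) (r - 1) :=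
        (Prime.irreducible (Nat.prime_iff_prime_int.mp hp)).coprime_iff_not_dvd.mpr hnd
      have hcop' : IsCoprime (((p ^ k : ℕ) : ℤ)) (r - 1) := by
        push_cast
        exact hcop.pow_left
      exact h4 (hcop'.dvd_of_dvd_mul_left h3)
    have h6 : ((p : ℤ) ^ (k + 1)) ∣ r ^ p ^ k - 1 := by
      have := dvd_sub_pow_of_dvd_sub (R := ℤ) (p := p) (a := r) (b := 1) h5 k
      simpa using this
    have h7 : ((p ^ k : ℕ) : ℤ) ∣ r ^ p ^ k - 1 := by
      refine dvd_trans ?_ h6
      push_cast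
      exact pow_dvd_pow _ (Nat.le_succ k)
    have h8 : n ^ (p ^ k) * (c : G) * (n ^ (p ^ k))⁻¹ = (c : G) := by
      rw [conj_pow_eq_zpow_pow n (c : G) r hr.symm (p ^ k)]
      have : r ^ p ^ k = (r ^ p ^ k - 1) + 1 := by ring
      rw [this, zpow_add, zpow_one]
      have : (c : G) ^ (r ^ p ^ k - 1) = 1 := by
        rw [← orderOf_dvd_iff_zpow_eq_one, hord]; exact h7
      rw [this, one_mul]
    have h9 : Commute (n ^ (p ^ k)) (c : G) := by
      have : n ^ (p ^ k) * (c : G) = (c : G) * n ^ (p ^ k) := by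
        calc n ^ (p ^ k) * (c : G) = (n ^ (p ^ k) * (c : G) * (n ^ (p ^ k))⁻¹) * n ^ (p ^ k) := by
              group
          _ = (c : G) * n ^ (p ^ k) := by rw [h8]
      exact this
    rw [Subgroup.mem_centralizer_iff]
    intro y hy
    obtain ⟨i, rfl⟩ := hgen y hy
    exact (h9.zpow_right i).symm.eq
  -- step 3
  set N := Subgroup.normalizer ((P : Subgroup G) : Set G) with hNdef
  set C := Subgroup.centralizer ((P : Subgroup G) : Set G) with hCdef
  let φ := (P : Subgroup G).normalizerMonoidHom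
  have hker : φ.ker = C.subgroupOf N := Subgroup.normalizerMonoidHom_ker _
  have hrange : IsPGroup p φ.range := by
    rintro ⟨a, n, rfl⟩
    refine ⟨k, ?_⟩
    apply Subtype.ext
    simp only [Subgroup.coe_pow, Subgroup.coe_one]
    rw [← map_pow]
    have : n ^ (p ^ k) ∈ φ.ker := by
      rw [hker, Subgroup.mem_subgroupOf]
      simpa using step2 n n.2
    exact this
  obtain ⟨e, he⟩ := IsPGroup.iff_card.mp hrange
  have hidx : C.relIndex N = p ^ e := by
    rw [← he, ← Subgroup.index_ker, hker]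
    rfl
  have hcomm : IsMulCommutative ↥(P : Subgroup G) := by
    have := hcyc
    infer_instance
  have hPC : (P : Subgroup G) ≤ C := Subgroup.le_centralizer _
  have hdvd : C.relIndex N ∣ (P : Subgroup G).index :=
    (Subgroup.relIndex_dvd_of_le_left N hPC).trans (Subgroup.relIndex_dvd_index_of_le Subgroup.le_normalizer)
  have hnd : ¬ p ∣ (P : Subgroup G).index := P.not_dvd_index
  have he0 : e = 0 := by
    by_contra h0
    apply hnd
    refine dvd_trans ?_ hdvd
    rw [hidx]
    exact dvd_pow_self p h0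
  rw [he0, pow_zero] at hidx
  exact Subgroup.relIndex_eq_one.mp hidx

end Cfsg.Agent.Lib.Helper57
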