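import Mathlib.GroupTheory.Sylow
import Mathlib.GroupTheory.Nilpotent
import Cfsg.Prelude.Def_IsolatedElements

set_option autoImplicit false

namespace Cfsg.Agent.Lib.Helper57

open scoped Pointwise

/-- A subgroup of a finite `p`-group `R` which contains its normalizer in `R` is all of `R`. -/
theorem le_of_normalizer_inf_le {G : Type*} [Group G] [Finite G] {p : ℕ} [Fact p.Prime]
    {R D : Subgroup G} (hR : IsPGroup p R) (hDR : D ≤ R)
    (h : Subgroup.normalizer (D : Set G) ⊓ R ≤ D) : R ≤ D := by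
  have hnil : Group.IsNilpotent ↥R := hR.isNilpotent
  have hnc : NormalizerCondition ↥R := Group.normalizerCondition_of_isNilpotent
  rw [normalizerCondition_iff_only_full_group_self_normalizing] at hnc
  have h1 : Subgroup.normalizer ((D.subgroupOf R : Subgroup ↥R) : Set ↥R) = D.subgroupOf R := by
    rw [← Subgroup.subgroupOf_normalizer_eq hDR]
    apply le_antisymm
    · rw [← Subgroup.inf_subgroupOf_left]
      exact Subgroup.subgroupOf_mono R (by rwa [inf_comm])
    · exact Subgroup.subgroupOf_mono R Subgroup.le_normalizer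
  have h2 := hnc _ h1
  rwa [Subgroup.subgroupOf_eq_top] at h2

/-- An isolated element is centralized by every finite `p`-subgroup containing it. -/
theorem isolated_le_centralizer {G : Type*} [Group G] [Finite G] {p : ℕ} [Fact p.Prime]
    {x : G} (hiso : Cfsg.IsIsolated x) {R : Subgroup G} (hR : IsPGroup p R) (hxR : x ∈ R) :
    R ≤ Subgroup.centralizer ({x} : Set G) := by
  have key : R ≤ R ⊓ Subgroup.centralizer ({x} : Set G) := by
    apply le_of_normalizer_inf_le hR inf_le_left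
    intro n hn'
    obtain ⟨hn, hnR⟩ := Subgroup.mem_inf.mp hn'
    refine Subgroup.mem_inf.mpr ⟨hnR, ?_⟩
    have hxD : x ∈ R ⊓ Subgroup.centralizer ({x} : Set G) :=
      Subgroup.mem_inf.mpr ⟨hxR, by rw [Subgroup.mem_centralizer_iff]; simp⟩
    have h1 : n * x * n⁻¹ ∈ R ⊓ Subgroup.centralizer ({x} : Set G) := (hn x).mp hxD
    have h2 : Commute x (n * x * n⁻¹) := by
      have := (Subgroup.mem_inf.mp h1).2
      rw [Subgroup.mem_centralizer_iff] at this
      exact this x rfl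
    have h3 := hiso n h2
    rw [Subgroup.mem_centralizer_iff]
    intro y hy
    rw [Set.mem_singleton_iff] at hy
    subst hy
    calc y * n = (n * y * n⁻¹) * n := by rw [h3]
      _ = n * y := by group
  exact key.trans inf_le_right

theorem isolated_commute {G : Type*} [Group G] [Finite G] {p : ℕ} [Fact p.Prime]
    {x : G} (hiso : Cfsg.IsIsolated x) {R : Subgroup G} (hR : IsPGroup p R) (hxR : x ∈ R)
    {r : G} (hr : r ∈ R) : Commute x r := by
  have := isolated_le_centralizer hiso hR hxR hr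
  rw [Subgroup.mem_centralizer_iff] at this
  exact this x rfl

/-- Sylow: two `p`-elements of a finite subgroup `C` can be brought into a common `p`-subgroup
of `C` by conjugating the second by an element of `C`. -/
theorem exists_conj_mem_pgroup {G : Type*} [Group G] [Finite G] {p : ℕ} [Fact p.Prime]
    (C : Subgroup G) {a b : G} (ha : a ∈ C) (hb : b ∈ C)
    (hap : ∃ k : ℕ, orderOf a = p ^ k) (hbp : ∃ k : ℕ, orderOf b = p ^ k) :
    ∃ c ∈ C, ∃ Q : Subgroup G, IsPGroup p Q ∧ Q ≤ C ∧ a ∈ Q ∧ c * b * c⁻¹ ∈ Q := by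
  obtain ⟨ka, hka⟩ := hap
  obtain ⟨kb, hkb⟩ := hbp
  have hpa : IsPGroup p (Subgroup.zpowers (⟨a, ha⟩ : ↥C)) := by
    apply IsPGroup.of_card (n := ka)
    rw [Nat.card_zpowers, ← hka]
    exact Subgroup.orderOf_mk a ha
  have hpb : IsPGroup p (Subgroup.zpowers (⟨b, hb⟩ : ↥C)) := by
    apply IsPGroup.of_card (n := kb)
    rw [Nat.card_zpowers, ← hkb]
    exact Subgroup.orderOf_mk b hb
  obtain ⟨Qa, hQa⟩ := hpa.exists_le_sylow
  obtain ⟨Qb, hQb⟩ := hpb.exists_le_sylow
  obtain ⟨c, hc⟩ := MulAction.exists_smul_eq ↥C Qb Qa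
  refine ⟨c, c.2, (Qa : Subgroup ↥C).map C.subtype, Qa.2.map _, ?_, ?_, ?_⟩
  · rintro _ ⟨y, _, rfl⟩
    exact y.2
  · exact ⟨⟨a, ha⟩, hQa (Subgroup.mem_zpowers _), rfl⟩
  · refine ⟨c * ⟨b, hb⟩ * c⁻¹, ?_, by simp⟩
    rw [← hc, Sylow.smul_def]
    show c * ⟨b, hb⟩ * c⁻¹ ∈ MulAut.conj c • (Qb : Subgroup ↥C)
    rw [Subgroup.mem_pointwise_smul_iff_inv_smul_mem]
    have : (MulAut.conj c)⁻¹ • (c * ⟨b, hb⟩ * c⁻¹) = (⟨b, hb⟩ : ↥C) := by
      simp [MulAut.smul_def, mul_assoc]
    rw [this]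
    exact hQb (Subgroup.mem_zpowers _)

/-- For an isolated `p`-element `x`, any conjugate of `x` lying in a subgroup `C` containing `x`
is already conjugate to `x` under `C`. -/
theorem isolated_conj_eq {G : Type*} [Group G] [Finite G] {p : ℕ} [Fact p.Prime]
    {x : G} (hx : ∃ k : ℕ, orderOf x = p ^ k) (hiso : Cfsg.IsIsolated x)
    (C : Subgroup G) (hxC : x ∈ C) (g : G) (hg : g * x * g⁻¹ ∈ C) :
    ∃ c ∈ C, c * (g * x * g⁻¹) * c⁻¹ = x := by
  have hx' : ∃ k : ℕ, orderOf (g * x * g⁻¹) = p ^ k := by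
    obtain ⟨k, hk⟩ := hx
    refine ⟨k, ?_⟩
    rw [← hk]
    exact (SemiconjBy.orderOf_eq g (by simp [SemiconjBy])).symm
  obtain ⟨c, hc, Q, hQ, -, hxQ, hcQ⟩ := exists_conj_mem_pgroup C hxC hg hx hx'
  refine ⟨c, hc, ?_⟩
  have h1 : Commute x (c * (g * x * g⁻¹) * c⁻¹) := isolated_commute hiso hQ hxQ hcQ
  have e : c * (g * x * g⁻¹) * c⁻¹ = (c * g) * x * (c * g)⁻¹ := by group
  rw [e] at h1 ⊢
  exact hiso _ h1

end Cfsg.Agent.Lib.Helper57
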