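import Mathlib
import Cfsg.Agent.Lib.Helper15.BG142Defs2
import Cfsg.Agent.Lib.Helper31.BG12a
import Cfsg.Agent.Lib.Helper64.BG14K

/-!
# K-D4 (keystone 143030): elementary facts about `κ(M)`
-/

set_option autoImplicit false

namespace Cfsg.Agent.Lib.Helper57.BG142

open Cfsg Cfsg.Agent.Lib.Helper55 Cfsg.Agent.Lib.Helper31.BG134 Cfsg.Agent.Lib.Helper15.BG139
  Cfsg.Agent.Lib.Helper15.BG142

variable {G : Type*} [Group G] [Finite G]

/-- KEYSTONE 143030  K-D4  `kappa_facts`. -/
theorem kappa_facts {M : Subgroup G} (hM : IsCoatom M) {p : ℕ} (hp : p ∈ kappa M) :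
    (p ∈ tau1 M ∨ p ∈ tau3 M) ∧
    (∀ P : Subgroup G, P ≤ M → Nat.card P = p → CP M P ≠ ⊥) ∧
    (∀ E : Subgroup G, E ≤ M → ∀ [Fact p.Prime] (R : Sylow p E), IsCyclic (R : Subgroup E)) := by
  obtain ⟨hpp, hpM, hpσ, hall⟩ := hp
  have hFp : Fact p.Prime := ⟨hpp⟩
  refine ⟨?_, ?_, ?_⟩
  · -- (a)
    have hrank : PRankLE p 1 ↥M := by
      intro A _ hA
      by_cases hAb : A = ⊥
      · rw [hAb, Subgroup.card_bot, pow_one]
        exact hpp.one_lt.le
      · obtain ⟨⟨a, ha⟩, ha1⟩ := (Subgroup.ne_bot_iff_exists_ne_one).mp hAb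
        have ha1' : a ≠ 1 := fun h => ha1 (Subtype.ext h)
        have hAp : IsPGroup p A := by
          rintro ⟨z, hz⟩
          refine ⟨1, ?_⟩
          apply Subtype.ext
          rw [pow_one, Subgroup.coe_pow, Subgroup.coe_one]
          exact hA z hz
        obtain ⟨Q, hQ⟩ := hAp.exists_le_sylow
        obtain ⟨hcyc, -⟩ := hall Q
        have hle : A ≤ Subgroup.zpowers a := by
          intro z hz
          have hmem := Cfsg.Agent.Lib.Helper64.BG14.mem_zpowers_of_isCyclic_pGroup
            (C := ↥(Q : Subgroup M)) (p := p) Q.isPGroup' ⟨a, hQ ha⟩ ⟨z, hQ hz⟩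
            (by
              intro h
              exact ha1' (congrArg Subtype.val h))
            (by
              apply Subtype.ext
              rw [Subgroup.coe_pow, Subgroup.coe_one]
              exact hA z hz)
          obtain ⟨n, hn⟩ := Subgroup.mem_zpowers_iff.mp hmem
          refine Subgroup.mem_zpowers_iff.mpr ⟨n, ?_⟩
          have h1 := congrArg Subtype.val hn
          rw [Subgroup.coe_zpow] at h1
          exact h1
        calc Nat.card A ≤ Nat.card (Subgroup.zpowers a) := Subgroup.card_le_of_le hle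
          _ = orderOf a := Nat.card_zpowers a
          _ ≤ p := Nat.le_of_dvd hpp.pos (orderOf_dvd_of_pow_eq_one (hA a ha))
          _ = p ^ 1 := (pow_one p).symm
    by_cases hd : p ∣ Nat.card ↥⁅M, M⁆
    · exact Or.inr ⟨hpp, hpσ, hd, hrank⟩
    · exact Or.inl ⟨hpp, hpσ, hpM, hd, hrank⟩
  · -- (b)
    intro P hPM hPc
    have hPp : IsPGroup p P := IsPGroup.of_card (n := 1) (by rw [hPc, pow_one])
    have hP' : IsPGroup p (P.subgroupOf M) := hPp.comap_of_injective M.subtype M.subtype_injective
    obtain ⟨Q, hQ⟩ := hP'.exists_le_sylow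
    obtain ⟨hcyc, x, hxQ, hx1, y, hyσ, hy1, hxy⟩ := hall Q
    intro hbot
    apply hy1
    have hy : y ∈ sigmaCore M ⊓ Subgroup.centralizer (P : Set G) := by
      refine Subgroup.mem_inf.mpr ⟨hyσ, ?_⟩
      rw [Subgroup.mem_centralizer_iff]
      intro z hz
      have hzM : z ∈ M := hPM hz
      have hzQ : (⟨z, hzM⟩ : M) ∈ (Q : Subgroup M) := hQ (by
        rw [Subgroup.mem_subgroupOf]; exact hz)
      have hzp : z ^ p = 1 := by
        have h0 : (⟨z, hz⟩ : P) ^ Nat.card P = 1 := pow_card_eq_one'
        have h1 := congrArg Subtype.val h0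
        rw [Subgroup.coe_pow, Subgroup.coe_one, hPc] at h1
        exact h1
      have hmem := Cfsg.Agent.Lib.Helper64.BG14.mem_zpowers_of_isCyclic_pGroup
        (C := ↥(Q : Subgroup M)) (p := p) Q.isPGroup'
        ⟨x, hxQ⟩ ⟨⟨z, hzM⟩, hzQ⟩ (by
          intro h
          apply hx1
          exact congrArg Subtype.val h) (by
          apply Subtype.ext
          apply Subtype.ext
          simp only [Subgroup.coe_pow, Subgroup.coe_one]
          exact hzp)
      obtain ⟨n, hn⟩ := Subgroup.mem_zpowers_iff.mp hmem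
      have hzx : z = (x : G) ^ n := by
        have h1 := congrArg (fun t : ↥(Q : Subgroup M) => ((t : M) : G)) hn
        simp only [Subgroup.coe_zpow] at h1
        exact h1.symm
      rw [hzx]
      have hc : Commute ((x : G)) y := hxy
      exact (hc.zpow_left n).eq
    have hy' : y ∈ CP M P := hy
    rw [hbot, Subgroup.mem_bot] at hy'
    exact hy'
  · -- (c)
    intro E hEM hF R
    let f : ↥(R : Subgroup E) →* ↥M := (Subgroup.inclusion hEM).comp (R : Subgroup E).subtype
    have hfinj : Function.Injective f :=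
      (Subgroup.inclusion_injective hEM).comp (Subgroup.subtype_injective _)
    have hrange : IsPGroup p f.range := by
      have h1 : IsPGroup p ↥(⊤ : Subgroup ↥(R : Subgroup E)) := IsPGroup.of_surjective R.isPGroup'
        (Subgroup.topEquiv (G := ↥(R : Subgroup E))).symm.toMonoidHom
        (Subgroup.topEquiv (G := ↥(R : Subgroup E))).symm.surjective
      have := h1.map f
      rwa [← MonoidHom.range_eq_map] at this
    obtain ⟨Q, hQ⟩ := hrange.exists_le_sylow
    obtain ⟨hcyc, -⟩ := hall Q
    let g : ↥(R : Subgroup E) →* ↥(Q : Subgroup M) :=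
      f.codRestrict (Q : Subgroup M) (fun x => hQ ⟨x, rfl⟩)
    have hginj : Function.Injective g := by
      intro a b hab
      apply hfinj
      have := congrArg Subtype.val hab
      exact this
    exact isCyclic_of_injective g hginj

end Cfsg.Agent.Lib.Helper57.BG142
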