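import Mathlib
import Cfsg.Agent.Lib.Helper15.BG139Defs
import Cfsg.Agent.Lib.Helper31.BG12a
import Cfsg.Agent.Lib.Helper54.BG134A3a
import Cfsg.Agent.Lib.Helper13.BG12B
import Cfsg.Agent.Lib.Helper14.NilpHall
import Cfsg.Agent.Lib.Helper71.BG10Sub
import Cfsg.Agent.Lib.Helper71.BG11a
import Cfsg.Agent.Lib.Helper01.Coprime
import Cfsg.Agent.S1350
import Cfsg.Agent.S1415
import Cfsg.Agent.S1423

/-!
# K-S1378-K3c (keystone 137819): step 16(ii) of the proof of BG 13.9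
-/

set_option autoImplicit false

namespace Cfsg.Agent.Lib.Helper57.BG139

open Cfsg Cfsg.Agent.Lib.Helper55 Cfsg.Agent.Lib.Helper31.BG134 Cfsg.Agent.Lib.Helper15.BG139

variable {G : Type*} [Group G] [Finite G]

/-- the index of a complement is the order of the complemented subgroup -/
theorem relIndex_eq_card_of_complIn' {E S M : Subgroup G} (h : IsComplIn E S M) :
    E.relIndex M = Nat.card S := by
  have h1 := Cfsg.Agent.Lib.Helper31.IsComplIn.card_mul h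
  have h2 : Nat.card (E.subgroupOf M) * (E.subgroupOf M).index = Nat.card M :=
    Subgroup.card_mul_index _
  have h3 : Nat.card (E.subgroupOf M) = Nat.card E :=
    Nat.card_congr (Subgroup.subgroupOfEquivOfLe h.1).toEquiv
  rw [h3] at h2
  have h4 : 0 < Nat.card E := Nat.card_pos
  have h5 : Nat.card E * (E.subgroupOf M).index = Nat.card E * Nat.card S := by
    rw [h2, ← h1]
  exact Nat.eq_of_mul_eq_mul_left h4 h5

/-- an element of prime order in a nontrivial subgroup -/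
theorem exists_prime_order_mem {C : Subgroup G} (hC : C ≠ ⊥) :
    ∃ (t : ℕ) (x : G), t.Prime ∧ t ∣ Nat.card C ∧ x ∈ C ∧ orderOf x = t := by
  have h1 : Nat.card C ≠ 1 := fun h => hC (Subgroup.card_eq_one.mp h)
  obtain ⟨t, ht, htd⟩ := Nat.exists_prime_and_dvd h1
  have : Fact t.Prime := ⟨ht⟩
  obtain ⟨x, hx⟩ := exists_prime_orderOf_dvd_card' t htd
  refine ⟨t, (x : G), ht, htd, x.2, ?_⟩
  rw [Subgroup.orderOf_coe, hx]

/-- KEYSTONE 137819  K-S1378-K3c  (step 16(ii)). -/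
theorem sigma_final {M N P H : Subgroup G} {r : ℕ} (lM : Loc M P H r) (lN : Loc N P H r)
    (hnc : ∀ g : G, cj g M ≠ N) (hrσ : r ∈ sigma H)
    (hpa : ∀ EH E₁ : Subgroup G, IsComplIn EH (sigmaCore H) H → IsPiHallOf (tau1 H) E₁ EH →
      PrimeAct H E₁)
    (hM1 : ∀ t : ℕ, t.Prime → t ∣ Nat.card ↥(CP M P) → t ∈ tau1 H)
    (hN1 : ∀ t : ℕ, t.Prime → t ∣ Nat.card ↥(CP N P) → t ∈ tau1 H) : False := by
  classical
  have hG := lM.o.hG
  have hMc := lM.o.hM
  have hNc := lN.o.hM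
  have hHc := lM.hH
  have hHall : IsPiHallOf (sigma H) (sigmaCore H) H := (Cfsg.Agent.S1350.result hG H hHc).1
  -- elements of prime order
  obtain ⟨t, x, ht, htd, hxC, hxo⟩ := exists_prime_order_mem lM.o.hC1
  obtain ⟨t', x', ht', htd', hxC', hxo'⟩ := exists_prime_order_mem lN.o.hC1
  have hFt : Fact t.Prime := ⟨ht⟩
  have hFt' : Fact t'.Prime := ⟨ht'⟩
  have htτ : t ∈ tau1 H := hM1 t ht htd
  have htτ' : t' ∈ tau1 H := hN1 t' ht' htd'
  have hCMH : CP M P ≤ H := by rw [← lM.hC]; exact inf_le_right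
  have hCNH : CP N P ≤ H := by rw [← lN.hC]; exact inf_le_right
  have hx1 : x ≠ 1 := by
    intro h
    rw [h, orderOf_one] at hxo
    exact ht.one_lt.ne hxo
  -- `X = ⟨x⟩`
  have hXc : Nat.card (Subgroup.zpowers x) = t := by rw [Nat.card_zpowers, hxo]
  have hXC : Subgroup.zpowers x ≤ CP M P := (Subgroup.zpowers_le).mpr hxC
  have hXH : Subgroup.zpowers x ≤ H := hXC.trans hCMH
  have hXσ : ∀ q : ℕ, q.Prime → q ∣ Nat.card (Subgroup.zpowers x) → q ∉ sigma H := by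
    intro q hq hqd
    rw [hXc] at hqd
    rw [(Nat.prime_dvd_prime_iff_eq hq ht).mp hqd]
    exact htτ.2.1
  obtain ⟨EH, hEH, hXE⟩ := Cfsg.Agent.Lib.Helper13.BG12.exists_complIn_ge hG hHc hHall hXH hXσ
  have hEHH : EH ≤ H := hEH.1
  have hEHtop : EH ≠ ⊤ := by
    intro h
    apply hHc.1
    rw [eq_top_iff, ← h]
    exact hEHH
  have hsolv : Group.IsSolvable ↥EH := ms_solvable hG hEHtop
  obtain ⟨E₁, hE₁, hXE₁⟩ := Cfsg.Agent.Lib.Helper54.BG134.exists_isPiHallOf_ge hsolv (tau1 H) hXE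
    (by
      intro q hq hqd
      rw [hXc] at hqd
      rw [(Nat.prime_dvd_prime_iff_eq hq ht).mp hqd]
      exact htτ)
  have hE₁c : IsCyclic ↥E₁ := (Cfsg.Agent.S1415.result hG H hHc EH hEH).2.1 E₁ hE₁
  have hxE₁ : x ∈ E₁ := hXE₁ (Subgroup.mem_zpowers x)
  have hPA := hpa EH E₁ hEH hE₁ x hxE₁ hx1
  -- `E₁` is commutative
  have hcomm : ∀ a ∈ E₁, ∀ b ∈ E₁, a * b = b * a := by
    intro a ha b hb
    obtain ⟨g, hg⟩ := IsCyclic.exists_generator (α := ↥E₁)
    obtain ⟨m, hm⟩ := Subgroup.mem_zpowers_iff.mp (hg ⟨a, ha⟩)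
    obtain ⟨n, hn⟩ := Subgroup.mem_zpowers_iff.mp (hg ⟨b, hb⟩)
    have h1 : (⟨a, ha⟩ : ↥E₁) * ⟨b, hb⟩ = ⟨b, hb⟩ * ⟨a, ha⟩ := by
      rw [← hm, ← hn]
      exact (Commute.refl g).zpow_zpow m n
    exact congrArg Subtype.val h1
  -- `P ≤ H_σ ∩ C(x)`
  have hPH : P ≤ H := Subgroup.le_normalizer.trans lM.hNH
  have hPσ : P ≤ sigmaCore H := by
    apply Cfsg.Agent.Lib.Helper71.BG10.le_of_isPiHallOf_normal hHall
      (Cfsg.Agent.Lib.Helper71.BG11.le_normalizer_sigmaCore H) hPH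
    intro q hq hqd
    rw [lM.o.hPc] at hqd
    have hrp : r.Prime := lM.o.hr1.1
    rw [(Nat.prime_dvd_prime_iff_eq hq hrp).mp hqd]
    exact hrσ
  have hxcent : x ∈ Subgroup.centralizer (P : Set G) := hxC.2
  have hPE₁ : P ≤ Subgroup.centralizer (E₁ : Set G) := by
    intro y hy
    apply hPA
    refine ⟨hPσ hy, ?_⟩
    show y ∈ Subgroup.centralizer ({x} : Set G)
    rw [Subgroup.mem_centralizer_iff]
    intro z hz
    rw [Set.mem_singleton_iff] at hz
    rw [hz]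
    exact (Subgroup.mem_centralizer_iff.mp hxcent y hy).symm
  -- a Sylow `t'`-subgroup of `E₁` is a Sylow `t'`-subgroup of `H`
  let Q₀ : Sylow t' ↥E₁ := default
  have hQp : IsPGroup t' ((Q₀ : Subgroup ↥E₁).map E₁.subtype) := Q₀.isPGroup'.map _
  have hQE₁ : (Q₀ : Subgroup ↥E₁).map E₁.subtype ≤ E₁ := Subgroup.map_subtype_le _
  have hE₁EH : E₁ ≤ EH := hE₁.1
  have hidx : ¬ t' ∣ ((Q₀ : Subgroup ↥E₁).map E₁.subtype).relIndex H := by
    rw [← Subgroup.relIndex_mul_relIndex _ _ _ (hQE₁.trans hE₁EH) hEHH,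
      ← Subgroup.relIndex_mul_relIndex _ _ _ hQE₁ hE₁EH]
    intro hdvd
    rcases (Nat.Prime.dvd_mul ht').mp hdvd with h | h
    · rcases (Nat.Prime.dvd_mul ht').mp h with h | h
      · have e1 : ((Q₀ : Subgroup ↥E₁).map E₁.subtype).relIndex E₁ = (Q₀ : Subgroup ↥E₁).index := by
          unfold Subgroup.relIndex Subgroup.subgroupOf
          rw [Subgroup.comap_map_eq_self_of_injective E₁.subtype_injective]
        rw [e1] at h
        exact Q₀.not_dvd_index h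
      · exact hE₁.2.2 t' ht' htτ' h
    · rw [relIndex_eq_card_of_complIn' hEH] at h
      exact htτ'.2.1 (Cfsg.Agent.Lib.Helper71.BG11.sigmaCore_pi hG hHc ht' h)
  have hX'H : Subgroup.zpowers x' ≤ H := ((Subgroup.zpowers_le).mpr hxC').trans hCNH
  have hX'p : IsPGroup t' (Subgroup.zpowers x') := by
    apply IsPGroup.of_card (n := 1)
    rw [Nat.card_zpowers, hxo', pow_one]
  obtain ⟨c, hcH, hX'c⟩ := Cfsg.Agent.Lib.Helper14.exists_conj_le_of_not_dvd_relIndex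
    hX'H hQp hX'p hidx
  -- the conjugate `y` of `x'` in `E₁`
  have hy0 : c⁻¹ * x' * c ∈ (Q₀ : Subgroup ↥E₁).map E₁.subtype := by
    have h1 := hX'c (Subgroup.mem_zpowers x')
    rw [Subgroup.mem_pointwise_smul_iff_inv_smul_mem] at h1
    rw [MulAut.smul_def, ← map_inv, MulAut.conj_apply, inv_inv] at h1
    exact h1
  have hyE₁ : c⁻¹ * x' * c ∈ E₁ := hQE₁ hy0
  have hyo : orderOf (c⁻¹ * x' * c) = t' := by
    have h1 : SemiconjBy c⁻¹ x' (c⁻¹ * x' * c) := by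
      show c⁻¹ * x' = c⁻¹ * x' * c * c⁻¹
      group
    rw [← SemiconjBy.orderOf_eq c⁻¹ h1, hxo']
  -- `y` centralizes `P` and `x`
  have hyP : c⁻¹ * x' * c ∈ Subgroup.centralizer (P : Set G) := by
    rw [Subgroup.mem_centralizer_iff]
    intro z hz
    exact (Subgroup.mem_centralizer_iff.mp (hPE₁ hz) _ hyE₁).symm
  have hyX : c⁻¹ * x' * c ∈ Subgroup.centralizer ((Subgroup.zpowers x : Subgroup G) : Set G) := by
    rw [Subgroup.mem_centralizer_iff]
    intro z hz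
    exact hcomm z (hXE₁ hz) _ hyE₁
  -- `C_G(X) ≤ M`
  have htσM : t ∈ sigma M := by
    apply Cfsg.Agent.Lib.Helper71.BG11.sigmaCore_pi hG hMc ht
    exact dvd_trans htd (Subgroup.card_dvd_of_le inf_le_left)
  have hXM : Subgroup.zpowers x ≤ M :=
    hXC.trans (inf_le_left.trans (Cfsg.Agent.Lib.Helper71.BG11.sigmaCore_le M))
  have hCX := (Cfsg.Agent.S1423.result hG M hMc t htσM (Subgroup.zpowers x) hXM hXc default
    (Or.inl (lM.o.hCβ t ht htd))).1.1
  have hyM : c⁻¹ * x' * c ∈ M := hCX hyX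
  have hyCP : c⁻¹ * x' * c ∈ CP M P ⊔ P :=
    lM.o.hNP ⟨hyM, Subgroup.centralizer_le_normalizer (P : Set G) hyP⟩
  -- `t'` divides `|C_M| r`
  have hdvd1 : t' ∣ Nat.card ↥(CP M P ⊔ P) := by
    rw [← hyo]
    have := orderOf_dvd_natCard (⟨c⁻¹ * x' * c, hyCP⟩ : ↥(CP M P ⊔ P))
    rwa [← Subgroup.orderOf_coe] at this
  have hCPn : CP M P ≤ Subgroup.normalizer (P : Set G) :=
    inf_le_right.trans (Subgroup.centralizer_le_normalizer _)
  have hprod := Cfsg.Agent.Lib.Helper01.card_sup_mul_card_inf_of_le_normalizer P (CP M P) hCPn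
  have hdvd2 : t' ∣ Nat.card P * Nat.card ↥(CP M P) := by
    rw [← hprod]
    exact dvd_mul_of_dvd_left hdvd1 _
  have htσN : t' ∈ sigma N := by
    apply Cfsg.Agent.Lib.Helper71.BG11.sigmaCore_pi hG hNc ht'
    exact dvd_trans htd' (Subgroup.card_dvd_of_le inf_le_left)
  rcases (Nat.Prime.dvd_mul ht').mp hdvd2 with h | h
  · rw [lM.o.hPc] at h
    have hrp : r.Prime := lM.o.hr1.1
    have e : t' = r := (Nat.prime_dvd_prime_iff_eq ht' hrp).mp h
    rw [e] at htσN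
    exact lN.o.hr1.2.1 htσN
  · have hβ : t' ∈ beta M := lM.o.hCβ t' ht' h
    exact Cfsg.Agent.Lib.Helper31.BG12.alpha_sigma_disjoint hG hMc hNc hnc hβ.1 htσN

end Cfsg.Agent.Lib.Helper57.BG139
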