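import Mathlib
import Cfsg.Agent.Lib.Helper31.BG137Defs
import Cfsg.Agent.Lib.Helper31.BG12b
import Cfsg.Agent.Lib.Helper70.BG134G2
import Cfsg.Agent.Lib.Helper18.BG134Fr
import Cfsg.Agent.S1408
import Cfsg.Agent.S1414
import Cfsg.Agent.S1418

/-!
# K-137N-G (keystone 137708): step (h) of BG 13.7, nonabelian case: `p ∉ τ₃(L)`
-/

set_option autoImplicit false

namespace Cfsg.Agent.Lib.Helper57.BG137

open Cfsg Cfsg.Agent.Lib.Helper55 Cfsg.Agent.Lib.Helper31.BG137 Cfsg.Agent.Lib.Helper15.BG139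
open scoped commutatorElement

variable {G : Type*} [Group G] [Finite G]

/-- KEYSTONE 137708  K-137N-G  (step (h)).  `p ∉ τ₃(L)`. -/
theorem LCfg.not_tau3 {M E P A L : Subgroup G} {p q : ℕ} (l : LCfg M E P A L p q)
    (hAP : ¬ A ≤ Subgroup.centralizer (P : Set G)) : p ∉ tau3 L := by
  intro hτ3
  have c := l.c
  have hG := c.hG
  have hM := c.hM
  have hL := l.hL
  have hp : p.Prime := c.hp.1
  have hq : q.Prime := c.hq.1
  have hFp : Fact p.Prime := ⟨hp⟩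
  have hFq : Fact q.Prime := ⟨hq⟩
  have hpq : p ≠ q := by
    intro h
    apply c.hq.2.2.2
    rw [← h]
    exact c.hp.2.2.2.2
  -- `P ≤ L'`
  have hPL : P ≤ L := c.hPE.trans l.hEL
  have hPp : IsPGroup p P := IsPGroup.of_card (n := 1) (by rw [c.hP, pow_one])
  have hPL' : P ≤ ⁅L, L⁆ :=
    Cfsg.Agent.Lib.Helper70.BG134.le_commutator_of_mem_tau3 hG hL hτ3 hPL hPp
  -- `L'` has a normal `q`-complement
  have hqβ : q ∉ beta L := by
    intro hβ
    exact (Cfsg.Agent.S1408.result hG M hM q c.hq.2.1 c.hq.2.2.1 c.hq.2.2.2).1 hβ.2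
  have hnpc : HasNormalPComplement q ↥⁅L, L⁆ :=
    ((Cfsg.Agent.S1414.result hG L hL).2.2.2.2 q hq l.hqL.2.1 hqβ).1
  -- `A` is a `q`-group normalized by `P`
  have hAq : IsPGroup q A := IsPGroup.of_card (n := 2) c.hAc
  have hAL : A ≤ L := c.hAE.trans l.hEL
  have hEA : E ≤ Subgroup.normalizer (A : Set G) :=
    (Cfsg.Agent.S1418.result hG M hM E c.hE q c.hq A ⟨c.hAE, c.hAe, c.hAc⟩).1.1
  have hPA : P ≤ Subgroup.normalizer (A : Set G) := c.hPE.trans hEA
  have hcop : (Nat.card P).Coprime q := by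
    rw [c.hP]
    exact (Nat.coprime_primes hp hq).mpr hpq
  have hcomm : ⁅A, P⁆ = ⊥ :=
    Cfsg.Agent.Lib.Helper31.BG12.comm_eq_bot_of_npc
      (Cfsg.Agent.Lib.Helper18.BG134.le_normalizer_commutator_self L) hnpc hAq hAL hcop hPL' hPA
  apply hAP
  intro a ha
  rw [Subgroup.mem_centralizer_iff]
  intro x hx
  have h1 : ⁅a, x⁆ ∈ ⁅A, P⁆ := Subgroup.commutator_mem_commutator ha hx
  rw [hcomm, Subgroup.mem_bot, commutatorElement_eq_one_iff_mul_comm] at h1
  exact h1.symm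

end Cfsg.Agent.Lib.Helper57.BG137
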