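import Mathlib
import Cfsg.Agent.Lib.Helper16.BG1363Defs
import Cfsg.Agent.Lib.Helper55.Basic
import Cfsg.Agent.Lib.Helper71.BG11a
import Cfsg.Agent.S1378
import Cfsg.Agent.S1404

/-!
# K-1363-C (keystone 136303, architect helper16): `p = |K|` is not in `σ(H)`
-/

set_option autoImplicit false

namespace Cfsg.Agent.Lib.Helper57.BG1363

open Cfsg Subgroup Cfsg.Agent.Lib.Helper55 Cfsg.Agent.Lib.Helper11.BG14D Cfsg.Agent.Lib.Helper16.BG1363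

variable {G : Type*} [Group G] [Finite G]

theorem NU.p_not_sigma (hG : IsMinSimpleOddOrder G) {M K U R H Ms : Subgroup G} {r : ℕ} (c : NU M K U R H r)
    (pf : PF M K Ms) (hp : (Nat.card K).Prime) (hUKH : U ⊔ K ≤ H) :
    Nat.card K ∉ sigma H := by
  intro hpH
  have hfact : Fact (Nat.card K).Prime := ⟨hp⟩
  -- `p ∈ σ(M*)`
  have hpMs : Nat.card K ∈ sigma Ms :=
    Cfsg.Agent.Lib.Helper71.BG11.sigmaCore_pi hG pf.hMs hp (Subgroup.card_dvd_of_le pf.hKMs)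
  -- `H = cj g M*`
  obtain ⟨g, hg⟩ := (Cfsg.Agent.S1378.result hG).2 Ms H pf.hMs c.hH ⟨Nat.card K, hpMs, hpH⟩
  have hKH : K ≤ H := le_sup_right.trans hUKH
  have hKMs : K ≤ Ms := pf.hKMs.trans (Cfsg.Agent.Lib.Helper71.BG11.sigmaCore_le Ms)
  have hKp : IsPGroup (Nat.card K) K := IsPGroup.of_card (n := 1) (by rw [pow_one])
  have hconj : K.map (MulAut.conj g⁻¹).toMonoidHom ≤ Ms := by
    rintro _ ⟨k, hk, rfl⟩
    have hkH := hKH hk
    rw [hg] at hkH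
    obtain ⟨m, hm, hmk⟩ := hkH
    have h1 : (MulAut.conj g⁻¹).toMonoidHom k = m := by
      rw [← hmk]
      simp [MulAut.conj_apply, mul_assoc]
    rw [h1]
    exact hm
  obtain ⟨m, hm, c', hc', hgmc⟩ :=
    (Cfsg.Agent.S1404.result hG Ms pf.hMs (Nat.card K) hpMs K hKp c.hK1 hKMs).1 g⁻¹ hconj
  have hc'Ms : c' ∈ Ms := pf.hCK hc'
  have hgMs : g ∈ Ms := by
    have h1 : g⁻¹ ∈ Ms := by rw [hgmc]; exact Ms.mul_mem hm hc'Ms
    have h2 := Ms.inv_mem h1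
    rwa [inv_inv] at h2
  have hHMs : H = Ms := by
    rw [hg]
    ext x
    constructor
    · rintro ⟨y, hy, rfl⟩
      show g * y * g⁻¹ ∈ Ms
      exact Ms.mul_mem (Ms.mul_mem hgMs hy) (Ms.inv_mem hgMs)
    · intro hx
      refine ⟨g⁻¹ * x * g, Ms.mul_mem (Ms.mul_mem (Ms.inv_mem hgMs) hx) hgMs, ?_⟩
      show g * (g⁻¹ * x * g) * g⁻¹ = x
      group
  -- `U ≤ M ⊓ M* = K ⊔ K* ≤ K ⊔ M_σ`
  have hUM : U ≤ M := c.hKU.compl.1
  have hUH : U ≤ H := le_sup_left.trans hUKH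
  have hU : U ≤ K ⊔ sigmaCore M := by
    have h1 : U ≤ M ⊓ Ms := le_inf hUM (hHMs ▸ hUH)
    rw [pf.hMMs] at h1
    exact h1.trans (sup_le_sup_left inf_le_left K)
  have hbot : U ⊓ (K ⊔ sigmaCore M) = ⊥ := c.hKU.compl.2.2.1
  apply c.hU1
  rw [← inf_eq_left.mpr hU, hbot]

end Cfsg.Agent.Lib.Helper57.BG1363
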