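import Mathlib
import Cfsg.Agent.Lib.Helper57.GTReductionC
import Cfsg.Agent.Lib.Helper57.PStableAll

/-!
# The Glauberman–Thompson normal `p`-complement theorem for strongly closed subgroups

`gt_main`: for an odd prime `p`, a `GoodFam` `Q`, a Sylow `p`-subgroup `P` of the finite group `G` and
a subgroup `D` strongly closed in `P` with respect to `G`: if the normalizer of
`W(D) = ZJ.WW (Q G) D` has a normal `p`-complement then so does `G`.
For `Q` = "abelian" this is `Z(J(D))`, for `Q` = "elementary abelian" it is `Ω₁(Z(J_e(D)))`.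
-/

set_option autoImplicit false
open Cfsg
open Cfsg.Agent.Lib.Helper16 Cfsg.Agent.Lib.Helper97

universe u

namespace Cfsg.Agent.Lib.Helper57.GT

section E

variable {p : ℕ} [Fact p.Prime]
variable {G : Type u} [Group G] [Finite G]

/-- (E1) a `P`-invariant subgroup between `H₀` and `K` is `H₀` or `K`
(copy of `Lib.Lead.stepE1` with step (A) as a hypothesis) -/
theorem stepE1' (P : Sylow p G)
    (hA : ∀ M : Subgroup G, M ≠ ⊤ → (P : Subgroup G) ≤ M → HasNormalPComplement p ↥M)
    (H₀ : Subgroup G) [H₀.Normal] (hHp : IsPGroup p H₀)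
    (hCH : Subgroup.centralizer (H₀ : Set G) ≤ H₀)
    (K : Subgroup G) (hKP : K ⊓ P ≤ H₀) (hKc : (H₀.relIndex K).Coprime p)
    (L : Subgroup G) (hHL : H₀ ≤ L) (hLK : L ≤ K)
    (hPL : (P : Subgroup G) ≤ Subgroup.normalizer (L : Set G)) :
    L = H₀ ∨ L = K := by
  have hp : p.Prime := Fact.out
  by_cases hM : L ⊔ (P : Subgroup G) = ⊤
  · right
    apply le_antisymm hLK
    intro k hk
    have hkM : k ∈ L ⊔ (P : Subgroup G) := by rw [hM]; exact Subgroup.mem_top _
    rw [sup_comm] at hkM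
    obtain ⟨x, hx, l, hl, rfl⟩ := Cfsg.Agent.Lib.Helper67.mem_sup_of_le_normalizer hPL hkM
    have hxK : x ∈ K := by
      have : x = (x * l) * l⁻¹ := by group
      rw [this]
      exact K.mul_mem hk (K.inv_mem (hLK hl))
    exact L.mul_mem (hHL (hKP ⟨hxK, hx⟩)) hl
  · left
    set M := L ⊔ (P : Subgroup G) with hMdef
    have hPN : HasNormalPComplement p ↥M := hA M hM le_sup_right
    obtain ⟨D, hD⟩ := (Cfsg.Agent.Lib.Helper74.hasNormalPComplement_iff_exists_isNPC M).mp hPN
    have hHM : H₀ ≤ M := hHL.trans le_sup_left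
    have hDbot : D = ⊥ := by
      have hinf : H₀ ⊓ D = ⊥ := Cfsg.Agent.Lib.Helper15.isPGroup_inf_coprime_eq_bot hHp hD.cop
      rw [eq_bot_iff]
      intro d hd
      have hdC : d ∈ Subgroup.centralizer (H₀ : Set G) := by
        rw [Subgroup.mem_centralizer_iff]
        intro h hh
        have h1 : d * h * d⁻¹ * h⁻¹ ∈ H₀ ⊓ D := by
          constructor
          · exact H₀.mul_mem (‹H₀.Normal›.conj_mem h hh d) (H₀.inv_mem hh)
          · have hn := hD.norm (hHM hh)
            have h2 : h * d⁻¹ * h⁻¹ ∈ D :=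
              (Subgroup.mem_normalizer_iff.mp hn d⁻¹).mp (D.inv_mem hd)
            have : d * h * d⁻¹ * h⁻¹ = d * (h * d⁻¹ * h⁻¹) := by group
            rw [this]
            exact D.mul_mem hd h2
        rw [hinf, Subgroup.mem_bot] at h1
        have : h * d = (d * h * d⁻¹ * h⁻¹)⁻¹ * (d * h) := by group
        rw [this, h1]
        simp
      have : d ∈ H₀ ⊓ D := ⟨hCH hdC, hd⟩
      rwa [hinf] at this
    have hMp : IsPGroup p M := by
      obtain ⟨j, hj⟩ := hD.idx
      rw [hDbot, Subgroup.relIndex_bot_left] at hj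
      exact IsPGroup.of_card hj
    exact Cfsg.Agent.Lib.Lead.eq_of_isPGroup_between H₀ K L hKc hHL hLK (hMp.to_le le_sup_left)

/-- the Sylow 2-subgroups of `G = KP` are abelian when `K / H₀` is (`p` odd, `H₀` a `p`-group) -/
theorem sylow_two_comm_of_structure (hp2 : p ≠ 2) (H₀ : Subgroup G) [H₀.Normal]
    (hHp : IsPGroup p H₀) (K : Subgroup G) [K.Normal] (hKi : ∃ n : ℕ, K.index = p ^ n)
    (hKab : ∀ x ∈ K.map (QuotientGroup.mk' H₀), ∀ y ∈ K.map (QuotientGroup.mk' H₀), x * y = y * x)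
    (T : Sylow 2 G) : IsMulCommutative T := by
  have hp : p.Prime := Fact.out
  have : Fact (Nat.Prime 2) := ⟨Nat.prime_two⟩
  have hcop2 : Nat.Coprime 2 p := (Nat.coprime_primes Nat.prime_two hp).mpr (Ne.symm hp2)
  have hTK : (T : Subgroup G) ≤ K := by
    intro t ht
    obtain ⟨n, hn⟩ := hKi
    apply mem_of_coprime_of_index_pow K hn t
    obtain ⟨k, hk⟩ := (IsPGroup.iff_orderOf.mp T.2) ⟨t, ht⟩
    rw [Subgroup.orderOf_mk] at hk
    rw [hk]
    exact Nat.Coprime.pow_left k hcop2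
  have hHc : (Nat.card H₀).Coprime 2 := by
    obtain ⟨k, hk⟩ := IsPGroup.iff_card.mp hHp
    rw [hk]
    exact Nat.Coprime.pow_left k hcop2.symm
  have hinf : (T : Subgroup G) ⊓ H₀ = ⊥ :=
    Cfsg.Agent.Lib.Helper15.isPGroup_inf_coprime_eq_bot T.2 hHc
  refine ⟨⟨fun x y => ?_⟩⟩
  apply Subtype.ext
  have h1 := hKab _ (Subgroup.mem_map_of_mem (QuotientGroup.mk' H₀) (hTK x.2)) _
    (Subgroup.mem_map_of_mem (QuotientGroup.mk' H₀) (hTK y.2))
  have h2 : ((x : G) * y)⁻¹ * ((y : G) * x) ∈ H₀ := by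
    rw [← QuotientGroup.eq_one_iff]
    have : (QuotientGroup.mk' H₀) (((x : G) * y)⁻¹ * ((y : G) * x)) = 1 := by
      rw [map_mul, map_inv, map_mul, map_mul, h1]; group
    exact this
  have h3 : ((x : G) * y)⁻¹ * ((y : G) * x) ∈ (T : Subgroup G) ⊓ H₀ :=
    ⟨(T : Subgroup G).mul_mem ((T : Subgroup G).inv_mem ((T : Subgroup G).mul_mem x.2 y.2))
      ((T : Subgroup G).mul_mem y.2 x.2), h2⟩
  rw [hinf, Subgroup.mem_bot] at h3
  have : (x : G) * y = y * x := by
    have := inv_mul_eq_one.mp h3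
    exact this
  simpa using this

end E

section Main

variable {p : ℕ} [Fact p.Prime] {Q : ∀ (X : Type u) [Group X], Subgroup X → Prop}
variable {G : Type u} [Group G] [Finite G]

/-- the inductive step -/
theorem gt_step (hp2 : p ≠ 2) (hQ : GoodFam p Q) (IH : IHyp p Q G) (P : Sylow p G)
    (D : Subgroup G) (hP : Hyp p Q G (P : Subgroup G) D) : HasNormalPComplement p G := by
  by_contra hG
  have hall := hyp_all hQ P hP
  have hO := stepD hQ IH hG P D hP
  have hB := stepB hQ IH hall hG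
  have hHn : (pCore p G).Normal := ZJ.pCore_normal p
  have hHp : IsPGroup p ↥(pCore p G) := ZJ.pCore_isPGroup p
  have hHmax : ∀ X : Subgroup G, X.Normal → IsPGroup p X → X ≤ pCore p G :=
    fun X hX hXp => ZJ.le_pCore hX hXp
  have hC := stepC hQ IH hall hG (pCore p G) hHp hHmax hB
  have hHP : pCore p G ≤ P := ZJ.pCore_le_sylow P
  obtain ⟨K, hKn, hHK, hKP, -, hKc, hKi⟩ := Cfsg.Agent.Lib.Lead.exists_K (pCore p G) P hHP hC
  have hrel : ((pCore p G).relIndex K).Coprime p := by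
    rw [← Cfsg.Agent.Lib.Lead.card_map_mk_eq_relIndex (pCore p G) K hHK]; exact hKc
  have hCH := Cfsg.Agent.Lib.Lead.stepE0 (pCore p G) hHp hHmax hO K hHK hrel hKi
  have hE1 : ∀ L : Subgroup G, pCore p G ≤ L → L ≤ K →
      (P : Subgroup G) ≤ Subgroup.normalizer (L : Set G) → L = pCore p G ∨ L = K :=
    fun L hHL hLK hPL => stepE1' P (fun M hM hPM => stepA hQ IH hall M hM P hPM) (pCore p G) hHp hCH
      K hKP hrel L hHL hLK hPL
  have hab := Cfsg.Agent.Lib.Lead.stepE2 (pCore p G) P K hHK hKc hE1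
  have hT : ∀ T : Sylow 2 G, IsMulCommutative T :=
    fun T => sylow_two_comm_of_structure hp2 (pCore p G) hHp K hKi hab T
  have hst := PStableAll.stableFor_of_sylow_two_comm hp2 hT (P : Subgroup G)
  have hWn := ZJ.WW_normal_sc hp2 (hQ.good G) hCH P hst D hP.1
  have h1 : Subgroup.normalizer ((ZJ.WW (Q G) D : Subgroup G) : Set G) = ⊤ :=
    Subgroup.normalizer_eq_top_iff.mpr hWn
  have h2 := hP.2
  rw [h1] at h2
  exact hG (pn_top_iff.mp h2)

theorem gt_aux (hp2 : p ≠ 2) (hQ : GoodFam p Q) :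
    ∀ (n : ℕ) (G : Type u) [Group G] [Finite G], Nat.card G = n →
      ∀ (P : Sylow p G) (D : Subgroup G), Hyp p Q G (P : Subgroup G) D →
        HasNormalPComplement p G := by
  intro n
  induction n using Nat.strong_induction_on with
  | _ n ih =>
    intro G _ _ hn P D hP
    apply gt_step hp2 hQ _ P D hP
    intro G' _ _ hlt P' D' hP'
    exact ih (Nat.card G') (hn ▸ hlt) G' rfl P' D' hP'

/-- **Glauberman–Thompson for strongly closed subgroups** (generic form). -/
theorem gt_main (hp2 : p ≠ 2) (hQ : GoodFam p Q) (P : Sylow p G) (D : Subgroup G)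
    (hD : Cfsg.IsStronglyClosed D (P : Subgroup G))
    (hN : HasNormalPComplement p ↥(Subgroup.normalizer (ZJ.WW (Q G) D : Set G))) :
    HasNormalPComplement p G :=
  gt_aux hp2 hQ (Nat.card G) G rfl P D ⟨hD, hN⟩

end Main

end Cfsg.Agent.Lib.Helper57.GT
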