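import Mathlib
import Cfsg.Agent.Lib.Helper41.SecLemmas
import Cfsg.Agent.Lib.Helper41.AG
import Cfsg.Agent.Lib.Helper57.SCFunctor

/-!
# Basic tools for the induction proving control of strong fusion by `N_G(W(D))`

`CtlAll p Q X`: for every Sylow `p`-subgroup `P` of `X` and every `D` strongly closed in `P`, the
normalizer of `W(D) = ZJ.WW (Q X) D` realizes every conjugation between subsets of `P`.
Tools: correcting an element modulo a normal subgroup meeting `P` trivially (`fix_mod`), transfer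
of `CtlAll` from a subgroup (`ctl_subgroup`).
-/

set_option autoImplicit false
open Cfsg
open Cfsg.Agent.Lib.Helper16
open Cfsg.Agent.Lib.Helper41

universe u

namespace Cfsg.Agent.Lib.Helper57.GT

/-- the inductive statement: `N_X(W(D))` controls strong fusion in `P`, for all `P`, `D` -/
def CtlAll (p : ℕ) (Q : ∀ (X : Type u) [Group X], Subgroup X → Prop) (X : Type u) [Group X] : Prop :=
  ∀ (P : Sylow p X) (D : Subgroup X), Cfsg.IsStronglyClosed D (P : Subgroup X) →
    ∀ (A : Set X) (g : X), A ⊆ (P : Subgroup X) → (∀ a ∈ A, g * a * g⁻¹ ∈ (P : Subgroup X)) →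
      ∃ y ∈ Subgroup.normalizer (ZJ.WW (Q X) D : Set X), ∀ a ∈ A, y * a * y⁻¹ = g * a * g⁻¹

section fix

variable {N : Type*} [Group N] [Finite N] {p : ℕ} [Fact p.Prime]

/-- an element of `M ≥ R` inducing the right conjugation on `A` modulo a normal subgroup `K` with
`R ∩ K = 1` can be corrected to one inducing it exactly -/
theorem fix_mod (R : Sylow p N) (K : Subgroup N) [hKn : K.Normal]
    (hRK : (R : Subgroup N) ⊓ K = ⊥) (M : Subgroup N) (hRM : (R : Subgroup N) ≤ M)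
    (A : Set N) (hA : A ⊆ (R : Subgroup N)) (h : N)
    (hhA : ∀ a ∈ A, h * a * h⁻¹ ∈ (R : Subgroup N)) (y : N) (hy : y ∈ M)
    (hya : ∀ a ∈ A, (QuotientGroup.mk' K) (y * a * y⁻¹) = (QuotientGroup.mk' K) (h * a * h⁻¹)) :
    ∃ x ∈ M, ∀ a ∈ A, x * a * x⁻¹ = h * a * h⁻¹ := by
  set B := Subgroup.closure A with hB
  have hBR : B ≤ (R : Subgroup N) := (Subgroup.closure_le _).mpr hA
  have hBp : IsPGroup p B := R.2.to_le hBR
  have hB'p : IsPGroup p (lc y B) := isPGroup_lc hBp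
  have hBh : ∀ b ∈ B, h * b * h⁻¹ ∈ (R : Subgroup N) := by
    have : B ≤ (R : Subgroup N).comap (MulAut.conj h).toMonoidHom := by
      rw [hB, Subgroup.closure_le]
      intro a ha
      show (MulAut.conj h) a ∈ (R : Subgroup N)
      rw [MulAut.conj_apply]
      exact hhA a ha
    intro b hb
    have h1 : (MulAut.conj h) b ∈ (R : Subgroup N) := this hb
    rwa [MulAut.conj_apply] at h1
  have hBeq : ∀ b ∈ B, (QuotientGroup.mk' K) (y * b * y⁻¹) = (QuotientGroup.mk' K) (h * b * h⁻¹) := by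
    have heq : Set.EqOn ((QuotientGroup.mk' K).comp (MulAut.conj y).toMonoidHom)
        ((QuotientGroup.mk' K).comp (MulAut.conj h).toMonoidHom) A := by
      intro a ha
      simp only [MonoidHom.comp_apply, MulEquiv.coe_toMonoidHom, MulAut.conj_apply]
      exact hya a ha
    intro b hb
    have := MonoidHom.eqOn_closure heq hb
    simpa only [MonoidHom.comp_apply, MulEquiv.coe_toMonoidHom, MulAut.conj_apply] using this
  set L := (K ⊔ (R : Subgroup N)) ⊓ M with hL
  have hRL : (R : Subgroup N) ≤ L := le_inf le_sup_right hRM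
  have hB'L : lc y B ≤ L := by
    intro z hz
    rw [mem_lc] at hz
    have hzM : z ∈ M := by
      have : z = y * (y⁻¹ * z * y) * y⁻¹ := by group
      rw [this]
      exact M.mul_mem (M.mul_mem hy (hRM (hBR hz))) (M.inv_mem hy)
    refine ⟨?_, hzM⟩
    have h1 := hBh _ hz
    have h2 := hBeq _ hz
    have e0 : y * (y⁻¹ * z * y) * y⁻¹ = z := by group
    rw [e0] at h2
    have h3 : z * (h * (y⁻¹ * z * y) * h⁻¹)⁻¹ ∈ K := by
      rw [← QuotientGroup.eq_one_iff]
      change (QuotientGroup.mk' K) (z * (h * (y⁻¹ * z * y) * h⁻¹)⁻¹) = 1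
      rw [map_mul, map_inv, h2, mul_inv_cancel]
    have e : z = (z * (h * (y⁻¹ * z * y) * h⁻¹)⁻¹) * (h * (y⁻¹ * z * y) * h⁻¹) := by group
    rw [e]
    exact Subgroup.mul_mem _ (Subgroup.mem_sup_left h3) (Subgroup.mem_sup_right h1)
  have hidx : ¬ p ∣ (R : Subgroup N).relIndex L := by
    intro hdvd
    have h1 : (R : Subgroup N).relIndex L ∣ (R : Subgroup N).index :=
      Subgroup.relIndex_dvd_index_of_le hRL
    exact R.not_dvd_index (hdvd.trans h1)
  obtain ⟨l, hlL, hl⟩ := exists_lc_le_of_relIndex hRL R.2 hidx hB'p hB'L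
  obtain ⟨k, hk, r, hr, hkr⟩ := Subgroup.mem_sup_of_normal_left.mp hlL.1
  refine ⟨r⁻¹ * l * y, M.mul_mem (M.mul_mem (M.inv_mem (hRM hr)) hlL.2) hy, ?_⟩
  intro a ha
  have haB : a ∈ B := Subgroup.subset_closure ha
  have h1 : l * (y * a * y⁻¹) * l⁻¹ ∈ (R : Subgroup N) := hl (conj_mem_lc (conj_mem_lc haB))
  have h2 : r⁻¹ * l * y * a * (r⁻¹ * l * y)⁻¹ ∈ (R : Subgroup N) := by
    have e : r⁻¹ * l * y * a * (r⁻¹ * l * y)⁻¹ = r⁻¹ * (l * (y * a * y⁻¹) * l⁻¹) * r := by group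
    rw [e]
    exact Subgroup.mul_mem _ (Subgroup.mul_mem _ (Subgroup.inv_mem _ hr) h1) hr
  have h3 := hhA a ha
  have hinj : (R : Subgroup N) ⊓ (QuotientGroup.mk' K).ker = ⊥ := by
    rw [QuotientGroup.ker_mk']; exact hRK
  apply ZJ.injOn_of_inf_ker (QuotientGroup.mk' K) hinj h2 h3
  have hk1 : (QuotientGroup.mk' K) k = 1 := (QuotientGroup.eq_one_iff k).mpr hk
  have e : r⁻¹ * l * y * a * (r⁻¹ * l * y)⁻¹ = (r⁻¹ * l) * (y * a * y⁻¹) * (r⁻¹ * l)⁻¹ := by group
  rw [e, map_mul, map_mul, hya a ha, ← hkr]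
  simp only [map_mul, map_inv, hk1]
  group

end fix

section sub

variable {p : ℕ} [Fact p.Prime] {Q : ∀ (X : Type u) [Group X], Subgroup X → Prop}
variable {G : Type u} [Group G] [Finite G]

/-- transfer of `CtlAll` from a subgroup `M`: for a Sylow `p`-subgroup `R` of `M` and `D₁` strongly
closed in `R`, conjugations by elements of `M` between subsets of `R` are realized in
`M ∩ N_G(W(D₁))` -/
theorem ctl_subgroup (hQ : GoodFam p Q) (M : Subgroup G) (hM : CtlAll p Q ↥M)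
    (R : Subgroup G) (hRM : R ≤ M) (hRp : IsPGroup p R) (hidx : ¬ p ∣ R.relIndex M)
    (D₁ : Subgroup G) (hD₁ : Cfsg.IsStronglyClosed D₁ R)
    (A : Set G) (hA : A ⊆ R) (m : G) (hm : m ∈ M) (hmA : ∀ a ∈ A, m * a * m⁻¹ ∈ R) :
    ∃ y ∈ M ⊓ Subgroup.normalizer (ZJ.WW (Q G) D₁ : Set G), ∀ a ∈ A, y * a * y⁻¹ = m * a * m⁻¹ := by
  have hR' : IsPGroup p (R.subgroupOf M) := hRp.comap_subtype
  let RS : Sylow p ↥M := hR'.toSylow hidx
  have hRS : (RS : Subgroup ↥M) = R.subgroupOf M := rfl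
  set D' := D₁.subgroupOf M with hD'def
  have hD' : Cfsg.IsStronglyClosed D' (RS : Subgroup ↥M) := by
    refine ⟨?_, ?_⟩
    · intro x hx
      rw [hRS, Subgroup.mem_subgroupOf]
      exact hD₁.1 (Subgroup.mem_subgroupOf.mp hx)
    · intro x hx g hg
      rw [hRS, Subgroup.mem_subgroupOf] at hg
      rw [hD'def, Subgroup.mem_subgroupOf] at hx ⊢
      have := hD₁.2 (x : G) hx (g : G) (by simpa using hg)
      simpa using this
  have hWeq : ZJ.WW (Q G) D₁ = (ZJ.WW (Q ↥M) D').map M.subtype := by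
    rw [WW_map_of_injective hQ M.subtype M.subtype_injective D',
      hD'def, Subgroup.subgroupOf_map_subtype, inf_eq_left.mpr (hD₁.1.trans hRM)]
  obtain ⟨x, hxM, hxa⟩ := hM RS D' hD' {a : ↥M | (a : G) ∈ A} ⟨m, hm⟩
    (by
      intro a ha
      rw [SetLike.mem_coe, hRS, Subgroup.mem_subgroupOf]
      exact hA ha)
    (by
      intro a ha
      rw [hRS, Subgroup.mem_subgroupOf]
      have := hmA (a : G) ha
      simpa using this)
  refine ⟨(x : G), ⟨x.2, ?_⟩, ?_⟩
  · rw [hWeq]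
    exact Subgroup.le_normalizer_map M.subtype ⟨x, hxM, rfl⟩
  · intro a ha
    have haM : a ∈ M := hRM (hA ha)
    have := hxa ⟨a, haM⟩ ha
    have := congrArg Subtype.val this
    simpa using this

/-- if the normalizer `M` of some subgroup contains `P`, is proper, satisfies `CtlAll`, and realizes
every conjugation between subsets of `P`, then so does `N_G(W(D))` -/
theorem ctl_of_subgroup_ctl (hQ : GoodFam p Q) (P : Sylow p G) (D : Subgroup G)
    (hD : Cfsg.IsStronglyClosed D (P : Subgroup G)) (M : Subgroup G) (hPM : (P : Subgroup G) ≤ M)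
    (hM : CtlAll p Q ↥M)
    (hctl : ∀ (A : Set G) (g : G), A ⊆ (P : Subgroup G) → (∀ a ∈ A, g * a * g⁻¹ ∈ (P : Subgroup G)) →
      ∃ y ∈ M, ∀ a ∈ A, y * a * y⁻¹ = g * a * g⁻¹)
    (A : Set G) (g : G) (hA : A ⊆ (P : Subgroup G)) (hgA : ∀ a ∈ A, g * a * g⁻¹ ∈ (P : Subgroup G)) :
    ∃ y ∈ Subgroup.normalizer (ZJ.WW (Q G) D : Set G), ∀ a ∈ A, y * a * y⁻¹ = g * a * g⁻¹ := by
  obtain ⟨m, hm, hma⟩ := hctl A g hA hgA
  have hidx : ¬ p ∣ (P : Subgroup G).relIndex M := by
    intro hdvd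
    exact P.not_dvd_index (hdvd.trans (Subgroup.relIndex_dvd_index_of_le hPM))
  obtain ⟨y, hy, hya⟩ := ctl_subgroup hQ M hM (P : Subgroup G) hPM P.2 hidx D hD A hA m hm
    (by intro a ha; rw [hma a ha]; exact hgA a ha)
  exact ⟨y, hy.2, fun a ha => by rw [hya a ha, hma a ha]⟩

end sub

end Cfsg.Agent.Lib.Helper57.GT
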