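import Mathlib
import Cfsg.Agent.Lib.Helper57.KLBase

/-!
# Reduction to `O_{p'}(G) = 1`

If `K` is a normal `p'`-subgroup of `G` and `CtlAll` holds for `G / K`, then `N_G(W(D))` controls
strong fusion in `P`.
-/

set_option autoImplicit false
open Cfsg
open Cfsg.Agent.Lib.Helper16
open Cfsg.Agent.Lib.Helper41

universe u

namespace Cfsg.Agent.Lib.Helper57.GT

section quot

variable {p : ℕ} [Fact p.Prime] {Q : ∀ (X : Type u) [Group X], Subgroup X → Prop}
variable {G : Type u} [Group G] [Finite G]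

omit [Fact (Nat.Prime p)] [Finite G] in
theorem le_normalizer_WW_of_stronglyClosed (hQ : GoodFam p Q) {P D : Subgroup G}
    (hD : Cfsg.IsStronglyClosed D P) : P ≤ Subgroup.normalizer (ZJ.WW (Q G) D : Set G) :=
  (ZJ.stronglyClosed_le_normalizer hD).trans (ZJ.normalizer_le_normalizer_WW (hQ.good G) D)

theorem ctl_of_quot_pprime (hQ : GoodFam p Q) (K : Subgroup G) [K.Normal]
    (hK : (Nat.card K).Coprime p) (hquot : CtlAll p Q (G ⧸ K)) (P : Sylow p G) (D : Subgroup G)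
    (hD : Cfsg.IsStronglyClosed D (P : Subgroup G))
    (A : Set G) (g : G) (hA : A ⊆ (P : Subgroup G)) (hgA : ∀ a ∈ A, g * a * g⁻¹ ∈ (P : Subgroup G)) :
    ∃ y ∈ Subgroup.normalizer (ZJ.WW (Q G) D : Set G), ∀ a ∈ A, y * a * y⁻¹ = g * a * g⁻¹ := by
  have hPK : (P : Subgroup G) ⊓ K = ⊥ :=
    Cfsg.Agent.Lib.Helper40.isPGroup_inf_coprime_eq_bot (P : Subgroup G) K P.2 hK
  have hinj : (P : Subgroup G) ⊓ (QuotientGroup.mk' K).ker = ⊥ := by
    rw [QuotientGroup.ker_mk']; exact hPK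
  have hinjD : D ⊓ (QuotientGroup.mk' K).ker = ⊥ := inf_ker_eq_bot_of_le _ hinj hD.1
  have hcoe : ((P.mapSurjective (QuotientGroup.mk'_surjective K) : Sylow p (G ⧸ K)) :
      Subgroup (G ⧸ K)) = (P : Subgroup G).map (QuotientGroup.mk' K) :=
    Sylow.coe_mapSurjective _ _
  have hDb := stronglyClosed_map_mk_sylow K P hD
  rw [← hcoe] at hDb
  have hWmap := WW_map hQ (QuotientGroup.mk' K) hinjD
  obtain ⟨yb, hyb, hyba⟩ := hquot (P.mapSurjective (QuotientGroup.mk'_surjective K)) _ hDb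
    ((QuotientGroup.mk' K) '' A) ((QuotientGroup.mk' K) g)
    (by
      rintro _ ⟨a, ha, rfl⟩
      rw [SetLike.mem_coe, hcoe]
      exact Subgroup.mem_map_of_mem _ (hA ha))
    (by
      rintro _ ⟨a, ha, rfl⟩
      rw [hcoe, ← map_mul, ← map_inv, ← map_mul]
      exact Subgroup.mem_map_of_mem _ (hgA a ha))
  have hWp : IsPGroup p (ZJ.WW (Q G) D) :=
    P.2.to_le ((ZJ.WW_le (hQ.good G).bot _).trans hD.1)
  rw [← hWmap] at hyb
  obtain ⟨y, hy, hyy⟩ := exists_lift_normalizer_of_coprime K hK hWp yb hyb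
  apply fix_mod P K hPK _ (le_normalizer_WW_of_stronglyClosed hQ hD) A hA g hgA y hy
  intro a ha
  have := hyba _ ⟨a, ha, rfl⟩
  rw [← hyy] at this
  rw [map_mul, map_mul, map_inv, map_mul, map_mul, map_inv]
  exact this

end quot

end Cfsg.Agent.Lib.Helper57.GT
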