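import Mathlib
import Cfsg.Agent.Lib.Helper57.KLQuot

/-!
# The case `O_p(G) = 1` of the induction: local control gives global control
-/

set_option autoImplicit false
open Cfsg
open Cfsg.Agent.Lib.Helper16
open Cfsg.Agent.Lib.Helper41

universe u

namespace Cfsg.Agent.Lib.Helper57.GT

section loc2

variable {p : ℕ} [Fact p.Prime] {Q : ∀ (X : Type u) [Group X], Subgroup X → Prop}
variable {G : Type u} [Group G] [Finite G]

omit [Fact (Nat.Prime p)] in
/-- the trivial case `D = 1` -/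
theorem ctl_of_eq_bot (hQ : GoodFam p Q) {D : Subgroup G} (hD : D = ⊥) (A : Set G) (g : G) :
    ∃ y ∈ Subgroup.normalizer (ZJ.WW (Q G) D : Set G), ∀ a ∈ A, y * a * y⁻¹ = g * a * g⁻¹ := by
  have hW : ZJ.WW (Q G) D = ⊥ := by
    rw [eq_bot_iff, ← hD]
    exact ZJ.WW_le (hQ.good G).bot _
  refine ⟨g, ?_, fun a _ => rfl⟩
  rw [hW, Subgroup.normalizer_eq_top]
  trivial

omit [Fact (Nat.Prime p)] [Finite G] in
/-- the case `W(D)` normal -/
theorem ctl_of_normal {D : Subgroup G} (hW : (ZJ.WW (Q G) D).Normal) (A : Set G) (g : G) :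
    ∃ y ∈ Subgroup.normalizer (ZJ.WW (Q G) D : Set G), ∀ a ∈ A, y * a * y⁻¹ = g * a * g⁻¹ := by
  refine ⟨g, ?_, fun a _ => rfl⟩
  rw [Subgroup.normalizer_eq_top]
  trivial

omit [Finite G] [Fact (Nat.Prime p)] in
theorem stronglyClosed_inf {D P R : Subgroup G} (hD : Cfsg.IsStronglyClosed D P) (hRP : R ≤ P) :
    Cfsg.IsStronglyClosed (D ⊓ R) R :=
  ⟨inf_le_right, fun x hx g hg => ⟨hD.2 x hx.1 g (hRP hg), hg⟩⟩

/-- control of strong fusion in `N_G(T)` from `CtlAll` for the group `N_G(T)` -/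
theorem local_ctrl' (hQ : GoodFam p Q) (P : Sylow p G) (D : Subgroup G)
    (hD : Cfsg.IsStronglyClosed D (P : Subgroup G)) (hDne : D ≠ ⊥)
    (T : Subgroup G) (hTP : T ≤ (P : Subgroup G))
    (hidx : ¬ p ∣ ((P : Subgroup G) ⊓ Subgroup.normalizer (T : Set G)).relIndex
      (Subgroup.normalizer (T : Set G)))
    (hM : CtlAll p Q ↥(Subgroup.normalizer (T : Set G))) :
    ControlsStrongFusionIn p (scW Q D) (Subgroup.normalizer (T : Set G)) := by
  set H := Subgroup.normalizer (T : Set G) with hH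
  set R := (P : Subgroup G) ⊓ H with hR
  have hRH : R ≤ H := inf_le_right
  have hRP : R ≤ (P : Subgroup G) := inf_le_left
  have hRp : IsPGroup p R := P.2.to_le hRP
  refine ⟨R, hRH, hRp, hidx, ?_⟩
  have hD₁ : scCl D R = D ⊓ R := scCl_eq_inf hD hRP
  have hD₁ne : scCl D R ≠ ⊥ := by
    obtain ⟨z, hzD, hz1, hzc⟩ := exists_central_of_stronglyClosed P.2 hD hDne
    intro hb
    apply hz1
    have hzH : z ∈ H := by
      apply Subgroup.centralizer_le_normalizer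
      rw [Subgroup.mem_centralizer_iff]
      intro t ht
      exact hzc t (hTP ht)
    have : z ∈ D ⊓ R := ⟨hzD, hD.1 hzD, hzH⟩
    rw [← hD₁, hb, Subgroup.mem_bot] at this
    exact this
  intro A h hh hAR hhA
  rw [scW_of_ne_bot Q hD₁ne, hD₁]
  obtain ⟨y, hy, hya⟩ := ctl_subgroup hQ H hM R hRH hRp hidx (D ⊓ R) (stronglyClosed_inf hD hRP)
    A hAR h hh (fun a ha => hhA ⟨a, ha, rfl⟩)
  exact ⟨y, hy, hya⟩

/-- the case `O_p(G) = 1` -/
theorem ctl_of_pCore_eq_bot (hQ : GoodFam p Q) (hO : Cfsg.pCore p G = ⊥)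
    (IH : ∀ H : Subgroup G, H ≠ ⊤ → CtlAll p Q ↥H) (P : Sylow p G) (D : Subgroup G)
    (hD : Cfsg.IsStronglyClosed D (P : Subgroup G))
    (A : Set G) (g : G) (hA : A ⊆ (P : Subgroup G)) (hgA : ∀ a ∈ A, g * a * g⁻¹ ∈ (P : Subgroup G)) :
    ∃ y ∈ Subgroup.normalizer (ZJ.WW (Q G) D : Set G), ∀ a ∈ A, y * a * y⁻¹ = g * a * g⁻¹ := by
  by_cases hDne : D = ⊥
  · exact ctl_of_eq_bot hQ hDne A g
  have hW := isConjugacyFunctor_scW hQ D
  have hctl := controls_of_local P hW (fun T hTne hwp => by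
    apply local_ctrl' hQ P D hD hDne T hwp.1 (hwp.2 0)
    apply IH
    intro htop
    apply hTne
    have hTn : T.Normal := Subgroup.normalizer_eq_top_iff.mp htop
    have := ZJ.le_pCore hTn (P.2.to_le hwp.1)
    rw [hO] at this
    exact le_bot_iff.mp this)
  obtain ⟨x, hx, hxa⟩ := hctl A g (Subgroup.mem_top g) hA (by
    rintro _ ⟨a, ha, rfl⟩
    exact hgA a ha)
  have hcl : scCl D (P : Subgroup G) = D := by
    rw [scCl_eq_inf hD le_rfl, inf_eq_left.mpr hD.1]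
  have hWP : scW Q D (P : Subgroup G) = ZJ.WW (Q G) D := by
    rw [scW_of_ne_bot Q (by rw [hcl]; exact hDne), hcl]
  rw [hWP] at hx
  exact ⟨x, hx.2, hxa⟩

end loc2

end Cfsg.Agent.Lib.Helper57.GT
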