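import Mathlib
import Cfsg.Agent.Lib.Helper57.KLLocal

/-!
# Splitting along `G = N_G(P ∩ Q₀ C_G(Q₀)) C_G(Q₀)`

For a normal `p`-subgroup `Q₀` of `G`, fusion in `P` is generated by the fusion in
`N_G(P ∩ Q₀ C_G(Q₀))` and in `P C_G(Q₀)`.
-/

set_option autoImplicit false
open Cfsg
open Cfsg.Agent.Lib.Helper16
open Cfsg.Agent.Lib.Helper41

universe u

namespace Cfsg.Agent.Lib.Helper57.GT

section split

variable {p : ℕ} [Fact p.Prime] {Q : ∀ (X : Type u) [Group X], Subgroup X → Prop}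
variable {G : Type u} [Group G] [Finite G]

omit [Finite G] [Fact (Nat.Prime p)] in
/-- conjugation by `g` maps the closure of `A` into `P` when it maps `A` into `P` -/
theorem lc_closure_le {P : Subgroup G} {A : Set G} {g : G} (hgA : ∀ a ∈ A, g * a * g⁻¹ ∈ P) :
    lc g (Subgroup.closure A) ≤ P := by
  have : Subgroup.closure A ≤ P.comap (MulAut.conj g).toMonoidHom := by
    rw [Subgroup.closure_le]
    intro a ha
    show (MulAut.conj g) a ∈ P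
    rw [MulAut.conj_apply]
    exact hgA a ha
  exact Subgroup.map_le_iff_le_comap.mpr this

theorem ctl_split (hQ : GoodFam p Q) (P : Sylow p G) (D : Subgroup G)
    (hD : Cfsg.IsStronglyClosed D (P : Subgroup G)) (Q₀ : Subgroup G) [Q₀.Normal]
    (hQ₀P : Q₀ ≤ (P : Subgroup G))
    (h1 : CtlAll p Q ↥(Subgroup.normalizer
      (((P : Subgroup G) ⊓ (Q₀ ⊔ Subgroup.centralizer (Q₀ : Set G)) : Subgroup G) : Set G)))
    (h2 : CtlAll p Q ↥((P : Subgroup G) ⊔ Subgroup.centralizer (Q₀ : Set G)))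
    (A : Set G) (g : G) (hA : A ⊆ (P : Subgroup G)) (hgA : ∀ a ∈ A, g * a * g⁻¹ ∈ (P : Subgroup G)) :
    ∃ y ∈ Subgroup.normalizer (ZJ.WW (Q G) D : Set G), ∀ a ∈ A, y * a * y⁻¹ = g * a * g⁻¹ := by
  set C := Subgroup.centralizer (Q₀ : Set G) with hC
  have hCn : C.Normal := Subgroup.normal_centralizer
  set B := Subgroup.closure A with hB
  have hBP : B ≤ (P : Subgroup G) := (Subgroup.closure_le _).mpr hA
  have hgB : lc (g⁻¹)⁻¹ B ≤ (P : Subgroup G) := by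
    rw [inv_inv]; exact lc_closure_le hgA
  obtain ⟨n, hn, c, hc, hgnc, hnB⟩ := exists_split P hQ₀P hBP hgB
  set M₁ := Subgroup.normalizer
      (((P : Subgroup G) ⊓ (Q₀ ⊔ C) : Subgroup G) : Set G) with hM₁
  set M₂ := (P : Subgroup G) ⊔ C with hM₂
  have hPM₁ : (P : Subgroup G) ≤ M₁ := le_normalizer_inf_of_normal _ (Q₀ ⊔ C)
  have hPM₂ : (P : Subgroup G) ≤ M₂ := le_sup_left
  have hidx₁ : ¬ p ∣ (P : Subgroup G).relIndex M₁ := fun hdvd =>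
    P.not_dvd_index (hdvd.trans (Subgroup.relIndex_dvd_index_of_le hPM₁))
  have hidx₂ : ¬ p ∣ (P : Subgroup G).relIndex M₂ := fun hdvd =>
    P.not_dvd_index (hdvd.trans (Subgroup.relIndex_dvd_index_of_le hPM₂))
  -- first step: conjugation by `n⁻¹`
  obtain ⟨y₁, hy₁, hy₁a⟩ := ctl_subgroup hQ M₁ h1 (P : Subgroup G) hPM₁ P.2 hidx₁ D hD
    (B : Set G) hBP n⁻¹ (M₁.inv_mem hn) (fun b hb => hnB (conj_mem_lc hb))
  -- second step: conjugation by `c⁻¹`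
  have hg : g = c⁻¹ * n⁻¹ := by
    have : g⁻¹ = n * c := hgnc
    calc g = (g⁻¹)⁻¹ := (inv_inv g).symm
      _ = (n * c)⁻¹ := by rw [this]
      _ = c⁻¹ * n⁻¹ := by group
  obtain ⟨y₂, hy₂, hy₂a⟩ := ctl_subgroup hQ M₂ h2 (P : Subgroup G) hPM₂ P.2 hidx₂ D hD
    ((fun b => n⁻¹ * b * n⁻¹⁻¹) '' (B : Set G))
    (by
      rintro _ ⟨b, hb, rfl⟩
      exact hnB (conj_mem_lc hb))
    c⁻¹ (M₂.inv_mem (Subgroup.mem_sup_right hc))
    (by
      rintro _ ⟨b, hb, rfl⟩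
      have : c⁻¹ * (n⁻¹ * b * n⁻¹⁻¹) * c⁻¹⁻¹ = g * b * g⁻¹ := by rw [hg]; group
      rw [this]
      have := hgB (conj_mem_lc hb)
      rwa [inv_inv] at this)
  refine ⟨y₂ * y₁, Subgroup.mul_mem _ hy₂.2 hy₁.2, fun a ha => ?_⟩
  have haB : a ∈ B := Subgroup.subset_closure ha
  have e1 := hy₁a a haB
  have e2 := hy₂a _ ⟨a, haB, rfl⟩
  calc y₂ * y₁ * a * (y₂ * y₁)⁻¹ = y₂ * (y₁ * a * y₁⁻¹) * y₂⁻¹ := by group
    _ = y₂ * (n⁻¹ * a * n⁻¹⁻¹) * y₂⁻¹ := by rw [e1]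
    _ = c⁻¹ * (n⁻¹ * a * n⁻¹⁻¹) * c⁻¹⁻¹ := e2
    _ = g * a * g⁻¹ := by rw [hg]; group

end split

end Cfsg.Agent.Lib.Helper57.GT
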