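import Mathlib
import Cfsg.Agent.Lib.Helper57.KLSplit

/-!
# The case `G = P C_G(Q₀)`: elements acting trivially on `T / Q₀`

`Q₀` a normal `p`-subgroup of `G` with `G = P C_G(Q₀)`.  For a member `T` of the Alperin–Goldschmidt
family, `Q₀ ≤ T`, and every element of `N_G(T)` acting trivially on `T / Q₀` lies in `C_G(T) T`.
-/

set_option autoImplicit false
open Cfsg
open Cfsg.Agent.Lib.Helper16
open Cfsg.Agent.Lib.Helper41

universe u

namespace Cfsg.Agent.Lib.Helper57.GT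

section cent

variable {p : ℕ} [Fact p.Prime] {G : Type*} [Group G] [Finite G]

omit [Fact (Nat.Prime p)] [Finite G] in
/-- every element of `G = P C_G(Q₀)` acts on `Q₀` as some element of `P` does -/
theorem exists_conj_eq_on (P : Sylow p G) (Q₀ : Subgroup G) [Q₀.Normal]
    (hPC : (P : Subgroup G) ⊔ Subgroup.centralizer (Q₀ : Set G) = ⊤) (v : G) :
    ∃ s ∈ (P : Subgroup G), ∀ q ∈ Q₀, v * q * v⁻¹ = s * q * s⁻¹ := by
  have hCn : (Subgroup.centralizer (Q₀ : Set G)).Normal := Subgroup.normal_centralizer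
  have hv : v ∈ (P : Subgroup G) ⊔ Subgroup.centralizer (Q₀ : Set G) := by rw [hPC]; trivial
  obtain ⟨s, hs, c, hc, rfl⟩ := Subgroup.mem_sup_of_normal_right.mp hv
  refine ⟨s, hs, fun q hq => ?_⟩
  have := Subgroup.mem_centralizer_iff.mp hc q hq
  calc s * c * q * (s * c)⁻¹ = s * (c * q) * c⁻¹ * s⁻¹ := by group
    _ = s * (q * c) * c⁻¹ * s⁻¹ := by rw [this]
    _ = s * q * s⁻¹ := by group

omit [Fact (Nat.Prime p)] [Finite G] in
/-- an element of order prime to `p` acting trivially on `T / Q₀` centralizes `T` -/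
theorem centralizes_of_coprime_order (P : Sylow p G) (Q₀ : Subgroup G) [hQ₀n : Q₀.Normal]
    (hQ₀p : IsPGroup p Q₀)
    (hPC : (P : Subgroup G) ⊔ Subgroup.centralizer (Q₀ : Set G) = ⊤) (T : Subgroup G)
    (v : G) (hv : (orderOf v).Coprime p) (hvT : ∀ t ∈ T, t⁻¹ * (v * t * v⁻¹) ∈ Q₀) :
    v ∈ Subgroup.centralizer (T : Set G) := by
  obtain ⟨s, hs, hsq⟩ := exists_conj_eq_on P Q₀ hPC v
  -- `v` centralizes `Q₀`
  have hpow : ∀ k : ℕ, ∀ q ∈ Q₀, v ^ k * q * (v ^ k)⁻¹ = s ^ k * q * (s ^ k)⁻¹ := by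
    intro k
    induction k with
    | zero => intro q _; simp
    | succ k ih =>
      intro q hq
      have h1 : s ^ k * q * (s ^ k)⁻¹ ∈ Q₀ := hQ₀n.conj_mem q hq (s ^ k)
      calc v ^ (k + 1) * q * (v ^ (k + 1))⁻¹ = v * (v ^ k * q * (v ^ k)⁻¹) * v⁻¹ := by
            rw [pow_succ']; group
        _ = v * (s ^ k * q * (s ^ k)⁻¹) * v⁻¹ := by rw [ih q hq]
        _ = s * (s ^ k * q * (s ^ k)⁻¹) * s⁻¹ := hsq _ h1
        _ = s ^ (k + 1) * q * (s ^ (k + 1))⁻¹ := by rw [pow_succ']; group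
  have hsn : ∀ q ∈ Q₀, s ^ orderOf v * q * (s ^ orderOf v)⁻¹ = q := by
    intro q hq
    rw [← hpow (orderOf v) q hq, pow_orderOf_eq_one]
    simp
  obtain ⟨b, hb⟩ := P.2 ⟨s, hs⟩
  have hb' : s ^ p ^ b = 1 := by
    have := congrArg Subtype.val hb
    simpa using this
  have hcop : (orderOf v).Coprime (orderOf s) :=
    Nat.Coprime.coprime_dvd_right (orderOf_dvd_of_pow_eq_one hb') (Nat.Coprime.pow_right b hv)
  obtain ⟨m, hm⟩ := exists_pow_eq_self_of_coprime hcop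
  have hsq' : ∀ q ∈ Q₀, s * q * s⁻¹ = q := by
    intro q hq
    have hcomm : Commute (s ^ orderOf v) q := by
      have := hsn q hq
      show s ^ orderOf v * q = q * s ^ orderOf v
      calc s ^ orderOf v * q = (s ^ orderOf v * q * (s ^ orderOf v)⁻¹) * s ^ orderOf v := by group
        _ = q * s ^ orderOf v := by rw [this]
    have h2 : Commute ((s ^ orderOf v) ^ m) q := hcomm.pow_left m
    rw [hm] at h2
    calc s * q * s⁻¹ = (s * q) * s⁻¹ := rfl
      _ = (q * s) * s⁻¹ := by rw [h2.eq]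
      _ = q := by group
  have hvq : ∀ q ∈ Q₀, v * q * v⁻¹ = q := fun q hq => by rw [hsq q hq, hsq' q hq]
  -- `v` centralizes `T`
  rw [Subgroup.mem_centralizer_iff]
  intro t ht
  set c := t⁻¹ * (v * t * v⁻¹) with hc
  have hcQ : c ∈ Q₀ := hvT t ht
  have hvc : v * c * v⁻¹ = c := hvq c hcQ
  have hvck : ∀ k : ℕ, v * c ^ k * v⁻¹ = c ^ k := by
    intro k
    have : v * c ^ k * v⁻¹ = (v * c * v⁻¹) ^ k := by
      rw [conj_pow]
    rw [this, hvc]
  have hvt : v * t * v⁻¹ = t * c := by rw [hc]; group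
  have hpow2 : ∀ k : ℕ, v ^ k * t * (v ^ k)⁻¹ = t * c ^ k := by
    intro k
    induction k with
    | zero => simp
    | succ k ih =>
      calc v ^ (k + 1) * t * (v ^ (k + 1))⁻¹ = v * (v ^ k * t * (v ^ k)⁻¹) * v⁻¹ := by
            rw [pow_succ']; group
        _ = v * (t * c ^ k) * v⁻¹ := by rw [ih]
        _ = (v * t * v⁻¹) * (v * c ^ k * v⁻¹) := by group
        _ = t * c * c ^ k := by rw [hvt, hvck]
        _ = t * c ^ (k + 1) := by rw [pow_succ']; group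
  have hcn : c ^ orderOf v = 1 := by
    have := hpow2 (orderOf v)
    rw [pow_orderOf_eq_one] at this
    have h3 : t = t * c ^ orderOf v := by simpa using this
    exact (mul_eq_left.mp h3.symm)
  obtain ⟨j, hj⟩ := hQ₀p ⟨c, hcQ⟩
  have hj' : c ^ p ^ j = 1 := by
    have := congrArg Subtype.val hj
    simpa using this
  have hc1 : c = 1 := by
    have h1 : orderOf c ∣ orderOf v := orderOf_dvd_of_pow_eq_one hcn
    have h2 : orderOf c ∣ p ^ j := orderOf_dvd_of_pow_eq_one hj'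
    have h3 : (orderOf v).Coprime (p ^ j) := Nat.Coprime.pow_right j hv
    have : orderOf c = 1 := Nat.eq_one_of_dvd_coprimes h3 h1 h2
    exact orderOf_eq_one_iff.mp this
  rw [hc1, mul_one] at hvt
  calc t * v = (v * t * v⁻¹) * v := by rw [hvt]
    _ = v * t := by group

/-- a normal `p`-subgroup lies in every member of the Alperin–Goldschmidt family -/
theorem le_of_mem_agFamily (P : Sylow p G) {T : Subgroup G} (hT : T ∈ agFamily p P)
    (Q₀ : Subgroup G) [hQ₀n : Q₀.Normal] (hQ₀p : IsPGroup p Q₀) : Q₀ ≤ T := by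
  obtain ⟨hTP, hfn, hcen, hrad⟩ := hT
  have hQ₀P : Q₀ ≤ (P : Subgroup G) := (ZJ.le_pCore hQ₀n hQ₀p).trans (ZJ.pCore_le_sylow P)
  by_contra hle
  set S := T ⊔ Q₀ with hS
  have hSP : S ≤ (P : Subgroup G) := sup_le hTP hQ₀P
  have hne : T ≠ S := by
    intro h
    apply hle
    rw [h]; exact le_sup_right
  have hlt := lt_inf_normalizer_of_ne (P.2.to_le hSP) (le_sup_left : T ≤ S) hne
  obtain ⟨x, hx, hxT⟩ := SetLike.exists_of_lt hlt
  obtain ⟨t, ht, q, hq, rfl⟩ := Subgroup.mem_sup_of_normal_right.mp hx.1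
  apply hxT
  have hqN : q ∈ Subgroup.normalizer (T : Set G) := by
    have : q = t⁻¹ * (t * q) := by group
    rw [this]
    exact Subgroup.mul_mem _ (Subgroup.inv_mem _ (Subgroup.le_normalizer ht)) hx.2
  have hle2 : Q₀ ⊓ Subgroup.normalizer (T : Set G) ≤ relPPrimePCore p (Subgroup.normalizer (T : Set G)) := by
    apply le_relPPrimePCore inf_le_right
    · intro y n hy hn
      exact ⟨hQ₀n.conj_mem y hy.1 n, Subgroup.mul_mem _ (Subgroup.mul_mem _ hn hy.2) (Subgroup.inv_mem _ hn)⟩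
    · exact hQ₀p.to_le inf_le_left
  have hqT : q ∈ T := hrad ⟨hle2 ⟨hq, hqN⟩, hQ₀P hq⟩
  exact T.mul_mem ht hqT

omit [Fact (Nat.Prime p)] in
/-- a normal subgroup `L` with a normal `p'`-subgroup `K` such that `L / K` is a `p`-group lies in
`O_{p',p}` -/
theorem le_pPrimePCore_of_pow_mem {H : Type*} [Group H] [Finite H] (K L : Subgroup H)
    (hK : K.Normal) (hL : L.Normal) (hKc : (Nat.card K).Coprime p)
    (hpow : ∀ x ∈ L, ∃ a : ℕ, x ^ p ^ a ∈ K) : L ≤ pPrimePCore p H := by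
  have hKN : K ≤ pPrimeCore p H := Cfsg.Agent.Lib.Helper40.le_pPrimeCore' K hK hKc
  have hn : (L.map (QuotientGroup.mk' (pPrimeCore p H))).Normal :=
    Subgroup.Normal.map hL _ (QuotientGroup.mk'_surjective _)
  have hpg : IsPGroup p (L.map (QuotientGroup.mk' (pPrimeCore p H))) := by
    rintro ⟨y, hy⟩
    obtain ⟨x, hx, rfl⟩ := hy
    obtain ⟨a, ha⟩ := hpow x hx
    refine ⟨a, Subtype.ext ?_⟩
    have h1 : (QuotientGroup.mk' (pPrimeCore p H)) (x ^ p ^ a) = 1 :=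
      (QuotientGroup.eq_one_iff _).mpr (hKN ha)
    rw [map_pow] at h1
    simpa using h1
  have h1 := Cfsg.Agent.Lib.Helper40.le_pCore' hn hpg
  unfold pPrimePCore
  exact Subgroup.map_le_iff_le_comap.mp h1

/-- an element of `N_G(T)` acting trivially on `T / Q₀` lies in `C_G(T) T`, for `T` in the
Alperin–Goldschmidt family and `G = P C_G(Q₀)` -/
theorem mem_of_centralizes_quot (P : Sylow p G) {T : Subgroup G} (hT : T ∈ agFamily p P)
    (Q₀ : Subgroup G) [hQ₀n : Q₀.Normal] (hQ₀p : IsPGroup p Q₀)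
    (hPC : (P : Subgroup G) ⊔ Subgroup.centralizer (Q₀ : Set G) = ⊤)
    (u : G) (hu : u ∈ Subgroup.normalizer (T : Set G))
    (huT : ∀ t ∈ T, t⁻¹ * (u * t * u⁻¹) ∈ Q₀) :
    ∃ k ∈ Subgroup.centralizer (T : Set G), ∃ t₀ ∈ T, u = k * t₀ := by
  have hp : p.Prime := Fact.out
  set M := Subgroup.normalizer (T : Set G) with hM
  have hTp : IsPGroup p T := P.2.to_le hT.1
  have hidp := ag_isInternalDirectProduct P hT
  obtain ⟨hK'L, hTL, hcomm, hdisj, hsup⟩ := hidp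
  -- the subgroup of elements acting trivially on `T / Q₀`
  let N₁ : Subgroup G :=
    { carrier := {n | n ∈ M ∧ ∀ t ∈ T, t⁻¹ * (n * t * n⁻¹) ∈ Q₀}
      one_mem' := ⟨M.one_mem, fun t _ => by simp⟩
      mul_mem' := by
        rintro a b ⟨haM, ha⟩ ⟨hbM, hb⟩
        refine ⟨M.mul_mem haM hbM, fun t ht => ?_⟩
        have h1 := hb t ht
        have h2 := ha t ht
        have h3 : a * (t⁻¹ * (b * t * b⁻¹)) * a⁻¹ ∈ Q₀ := hQ₀n.conj_mem _ h1 a
        have e : t⁻¹ * (a * b * t * (a * b)⁻¹) =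
            (t⁻¹ * (a * t * a⁻¹)) * (a * (t⁻¹ * (b * t * b⁻¹)) * a⁻¹) := by group
        rw [e]
        exact Q₀.mul_mem h2 h3
      inv_mem' := by
        rintro a ⟨haM, ha⟩
        refine ⟨M.inv_mem haM, fun t ht => ?_⟩
        have ht' : a⁻¹ * t * a⁻¹⁻¹ ∈ T :=
          (Subgroup.mem_normalizer_iff.mp (M.inv_mem haM) t).mp ht
        have h1 := ha _ ht'
        have e0 : a * (a⁻¹ * t * a⁻¹⁻¹) * a⁻¹ = t := by group
        rw [e0] at h1
        -- h1 : (a⁻¹ t a)⁻¹ * t ∈ Q₀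
        have h2 := Q₀.inv_mem h1
        have e : t⁻¹ * (a⁻¹ * t * a⁻¹⁻¹) = ((a⁻¹ * t * a⁻¹⁻¹)⁻¹ * t)⁻¹ := by group
        rw [e]
        exact h2 }
  have hN₁ : ∀ n, n ∈ N₁ ↔ n ∈ M ∧ ∀ t ∈ T, t⁻¹ * (n * t * n⁻¹) ∈ Q₀ := fun n => Iff.rfl
  have hN₁M : N₁ ≤ M := fun n hn => hn.1
  have huN₁ : u ∈ N₁ := ⟨hu, huT⟩
  -- `N₁` is normalized by `M`
  have hN₁n : (N₁.subgroupOf M).Normal := by
    rw [Subgroup.normal_subgroupOf_iff hN₁M]
    intro n m hn hm
    refine ⟨M.mul_mem (M.mul_mem hm hn.1) (M.inv_mem hm), fun t ht => ?_⟩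
    have ht' : m⁻¹ * t * m⁻¹⁻¹ ∈ T := (Subgroup.mem_normalizer_iff.mp (M.inv_mem hm) t).mp ht
    have h1 := hn.2 _ ht'
    have h2 := hQ₀n.conj_mem _ h1 m
    have e : t⁻¹ * (m * n * m⁻¹ * t * (m * n * m⁻¹)⁻¹) =
        m * ((m⁻¹ * t * m⁻¹⁻¹)⁻¹ * (n * (m⁻¹ * t * m⁻¹⁻¹) * n⁻¹)) * m⁻¹ := by group
    rw [e]
    exact h2
  -- `p'`-elements of `N₁` lie in `O_{p'}(M)`
  have hK'comm : ∀ k ∈ relPPrimeCore p M, k ∈ Subgroup.centralizer (T : Set G) := by
    intro k hk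
    rw [Subgroup.mem_centralizer_iff]
    intro t ht
    exact (hcomm k hk t ht).symm
  have hpprime : ∀ v ∈ N₁, (orderOf v).Coprime p → v ∈ relPPrimeCore p M := by
    intro v hv hvo
    have hvc : v ∈ Subgroup.centralizer (T : Set G) :=
      centralizes_of_coprime_order P Q₀ hQ₀p hPC T v hvo hv.2
    have hvL : v ∈ relPPrimePCore p M := ag_centralizer_le P hT.1 hT.2.1 hT.2.2.1 hvc
    rw [← hsup] at hvL
    have hTK : T ≤ Subgroup.normalizer ((relPPrimeCore p M : Subgroup G) : Set G) := by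
      intro t ht
      rw [mem_normalizer_iff_lc]
      exact lc_relPPrimeCore (Subgroup.le_normalizer ht)
    obtain ⟨k, hk, t₀, ht₀, hvk⟩ := (mem_sup_of_le_normalizer hTK).mp hvL
    have hkt : Commute k t₀ := hcomm k hk t₀ ht₀
    have h1 : (k * t₀) ^ orderOf v = 1 := by rw [← hvk]; exact pow_orderOf_eq_one v
    rw [hkt.mul_pow] at h1
    have h2 : t₀ ^ orderOf v = (k ^ orderOf v)⁻¹ := eq_inv_of_mul_eq_one_right h1
    have h3 : t₀ ^ orderOf v ∈ relPPrimeCore p M ⊓ T :=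
      ⟨by rw [h2]; exact Subgroup.inv_mem _ (Subgroup.pow_mem _ hk _), Subgroup.pow_mem _ ht₀ _⟩
    rw [hdisj, Subgroup.mem_bot] at h3
    obtain ⟨j, hj⟩ := hTp ⟨t₀, ht₀⟩
    have hj' : t₀ ^ p ^ j = 1 := by
      have := congrArg Subtype.val hj
      simpa using this
    have ht₀1 : t₀ = 1 := by
      have h4 : orderOf t₀ ∣ orderOf v := orderOf_dvd_of_pow_eq_one h3
      have h5 : orderOf t₀ ∣ p ^ j := orderOf_dvd_of_pow_eq_one hj'
      have h6 : (orderOf v).Coprime (p ^ j) := Nat.Coprime.pow_right j hvo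
      exact orderOf_eq_one_iff.mp (Nat.eq_one_of_dvd_coprimes h6 h4 h5)
    rw [hvk, ht₀1, mul_one]
    exact hk
  -- `N₁ / O_{p'}(M)` is a `p`-group
  have hpow : ∀ x ∈ N₁.subgroupOf M, ∃ a : ℕ, x ^ p ^ a ∈ pPrimeCore p ↥M := by
    intro x hx
    rw [Subgroup.mem_subgroupOf] at hx
    set n := orderOf (x : G) with hn
    have hn0 : n ≠ 0 := (orderOf_pos (x : G)).ne'
    set a := n.factorization p with ha
    have hdvd : p ^ a ∣ n := Nat.ordProj_dvd n p
    have hcop : (n / p ^ a).Coprime p := (Nat.coprime_ordCompl hp hn0).symm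
    have hord : orderOf ((x : G) ^ p ^ a) = n / p ^ a :=
      orderOf_pow_of_dvd (pow_ne_zero _ hp.ne_zero) hdvd
    have hv : (x : G) ^ p ^ a ∈ relPPrimeCore p M :=
      hpprime _ (Subgroup.pow_mem _ hx _) (by rw [hord]; exact hcop)
    obtain ⟨k₀, hk₀, hk₀x⟩ := hv
    refine ⟨a, ?_⟩
    have : x ^ p ^ a = k₀ := Subtype.ext (by simpa using hk₀x.symm)
    rw [this]; exact hk₀
  have hle := le_pPrimePCore_of_pow_mem (p := p) (pPrimeCore p ↥M) (N₁.subgroupOf M)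
    inferInstance hN₁n (Cfsg.Agent.Lib.Helper40.pPrimeCore_card_coprime' p ↥M) hpow
  have huL : u ∈ relPPrimePCore p M := by
    refine ⟨⟨u, hu⟩, hle ?_, rfl⟩
    rw [Subgroup.mem_subgroupOf]
    exact huN₁
  rw [← hsup] at huL
  have hTK : T ≤ Subgroup.normalizer ((relPPrimeCore p M : Subgroup G) : Set G) := by
    intro t ht
    rw [mem_normalizer_iff_lc]
    exact lc_relPPrimeCore (Subgroup.le_normalizer ht)
  obtain ⟨k, hk, t₀, ht₀, huk⟩ := (mem_sup_of_le_normalizer hTK).mp huL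
  exact ⟨k, hK'comm k hk, t₀, ht₀, huk⟩

end cent

end Cfsg.Agent.Lib.Helper57.GT
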