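import Mathlib
import Cfsg.Agent.Lib.Helper57.KLCent
import Cfsg.Agent.Lib.Helper41.SecInd

/-!
# Control of strong fusion by `N_G(W(D))`: the induction

`StabClass p Q Stab`: a class of finite groups closed under subgroups and quotients in which `W(D)`
is normal whenever `C_X(O_p(X)) ≤ O_p(X)`.  In every group of such a class, `N_X(W(D))` controls
strong fusion in the Sylow `p`-subgroup `P`, for `D` strongly closed in `P`.
-/

set_option autoImplicit false
open Cfsg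
open Cfsg.Agent.Lib.Helper16
open Cfsg.Agent.Lib.Helper41

universe u

namespace Cfsg.Agent.Lib.Helper57.GT

section main

variable {p : ℕ} [Fact p.Prime] {Q : ∀ (X : Type u) [Group X], Subgroup X → Prop}
variable {G : Type u} [Group G] [Finite G]

/-- a subgroup `K` realizing the action of `N_G(T)` on `T` for every member `T` of the
Alperin–Goldschmidt family realizes every conjugation between subsets of `P` -/
theorem realizes_of_ag (P : Sylow p G) (K : Subgroup G)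
    (hstep : ∀ T ∈ agFamily p P, ∀ x ∈ Subgroup.normalizer (T : Set G),
      ∃ y ∈ K, ∀ t ∈ T, y⁻¹ * t * y = x⁻¹ * t * x)
    (A : Set G) (g : G) (hA : A ⊆ (P : Subgroup G)) (hgA : ∀ a ∈ A, g * a * g⁻¹ ∈ (P : Subgroup G)) :
    ∃ y ∈ K, ∀ a ∈ A, y * a * y⁻¹ = g * a * g⁻¹ := by
  have hr : rconj g⁻¹ A ⊆ (P : Subgroup G) := by
    rintro _ ⟨a, ha, rfl⟩
    have := hgA a ha
    show (g⁻¹)⁻¹ * a * g⁻¹ ∈ (P : Subgroup G)
    rw [inv_inv]
    exact this
  obtain ⟨g', ⟨L, hL, hprod⟩, hg'⟩ := ag_reach P hA hr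
  obtain ⟨y, hy, hya⟩ := chain_control hstep hL
  refine ⟨y⁻¹, K.inv_mem hy, fun a ha => ?_⟩
  have h1 := hya a ha
  rw [hprod, hg' a ha] at h1
  simpa using h1

/-- `P` normalizes the preimage of `W(D Q₀ / Q₀)` -/
theorem le_normalizer_comap_WW (hQ : GoodFam p Q) (P : Sylow p G) (D : Subgroup G)
    (hD : Cfsg.IsStronglyClosed D (P : Subgroup G)) (Q₀ : Subgroup G) [hQ₀n : Q₀.Normal] :
    (P : Subgroup G) ≤ Subgroup.normalizer (((ZJ.WW (Q (G ⧸ Q₀)) (D.map (QuotientGroup.mk' Q₀))).comap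
      (QuotientGroup.mk' Q₀) : Subgroup G) : Set G) := by
  have hDb := stronglyClosed_map_mk_sylow Q₀ P hD
  intro s hs
  apply Subgroup.le_normalizer_comap (QuotientGroup.mk' Q₀)
  rw [Subgroup.mem_comap]
  apply le_normalizer_WW_of_stronglyClosed hQ hDb
  exact Subgroup.mem_map_of_mem _ hs

/-- in the case `G = P C_G(Q₀)`: control by the normalizer of the preimage `V` of `W(D Q₀ / Q₀)` -/
theorem ctl_normalizer_of_quot (hQ : GoodFam p Q) (P : Sylow p G) (D : Subgroup G)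
    (hD : Cfsg.IsStronglyClosed D (P : Subgroup G)) (Q₀ : Subgroup G) [hQ₀n : Q₀.Normal]
    (hQ₀p : IsPGroup p Q₀)
    (hPC : (P : Subgroup G) ⊔ Subgroup.centralizer (Q₀ : Set G) = ⊤)
    (hquot : CtlAll p Q (G ⧸ Q₀))
    (A : Set G) (g : G) (hA : A ⊆ (P : Subgroup G)) (hgA : ∀ a ∈ A, g * a * g⁻¹ ∈ (P : Subgroup G)) :
    ∃ y ∈ Subgroup.normalizer (((ZJ.WW (Q (G ⧸ Q₀)) (D.map (QuotientGroup.mk' Q₀))).comap
      (QuotientGroup.mk' Q₀) : Subgroup G) : Set G), ∀ a ∈ A, y * a * y⁻¹ = g * a * g⁻¹ := by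
  set π := QuotientGroup.mk' Q₀ with hπ
  set Wb := ZJ.WW (Q (G ⧸ Q₀)) (D.map π) with hWb
  set V := Wb.comap π with hV
  have hcoe : ((P.mapSurjective (QuotientGroup.mk'_surjective Q₀) : Sylow p (G ⧸ Q₀)) :
      Subgroup (G ⧸ Q₀)) = (P : Subgroup G).map π :=
    Sylow.coe_mapSurjective _ _
  have hDb := stronglyClosed_map_mk_sylow Q₀ P hD
  rw [← hcoe] at hDb
  have hcomapN : (Subgroup.normalizer (Wb : Set (G ⧸ Q₀))).comap π ≤
      Subgroup.normalizer (V : Set G) := Subgroup.le_normalizer_comap π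
  have hPV : (P : Subgroup G) ≤ Subgroup.normalizer (V : Set G) := by
    intro s hs
    apply hcomapN
    rw [Subgroup.mem_comap]
    apply le_normalizer_WW_of_stronglyClosed hQ hDb
    rw [hcoe]
    exact Subgroup.mem_map_of_mem _ hs
  apply realizes_of_ag P _ _ A g hA hgA
  intro T hT x hx
  have hQ₀T : Q₀ ≤ T := le_of_mem_agFamily P hT Q₀ hQ₀p
  have hTP : T ≤ (P : Subgroup G) := hT.1
  have hxinv : x⁻¹ ∈ Subgroup.normalizer (T : Set G) := Subgroup.inv_mem _ hx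
  have hxt : ∀ t ∈ T, x⁻¹ * t * x ∈ T := by
    intro t ht
    have := (Subgroup.mem_normalizer_iff.mp hxinv t).mp ht
    simpa using this
  obtain ⟨yb, hyb, hyba⟩ := hquot (P.mapSurjective (QuotientGroup.mk'_surjective Q₀)) _ hDb
    (π '' (T : Set G)) (π x⁻¹)
    (by
      rintro _ ⟨t, ht, rfl⟩
      rw [SetLike.mem_coe, hcoe]
      exact Subgroup.mem_map_of_mem _ (hTP ht))
    (by
      rintro _ ⟨t, ht, rfl⟩
      rw [hcoe, ← map_mul, ← map_inv, ← map_mul]
      apply Subgroup.mem_map_of_mem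
      have := hxt t ht
      simpa using hTP this)
  obtain ⟨y₀, rfl⟩ := QuotientGroup.mk'_surjective Q₀ yb
  have hy₀V : y₀ ∈ Subgroup.normalizer (V : Set G) := hcomapN hyb
  -- `y₀` acts on `T` as `x⁻¹` modulo `Q₀`
  have hmod : ∀ t ∈ T, (x⁻¹ * t * x)⁻¹ * (y₀ * t * y₀⁻¹) ∈ Q₀ := by
    intro t ht
    have := hyba _ ⟨t, ht, rfl⟩
    rw [← QuotientGroup.eq]
    have h2 : π (y₀ * t * y₀⁻¹) = π (x⁻¹ * t * x) := by
      simp only [map_mul, map_inv] at this ⊢
      rw [this, inv_inv]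
    exact h2.symm
  have hy₀T : y₀ ∈ Subgroup.normalizer (T : Set G) := by
    apply mem_normalizer_of_lc_le
    intro z hz
    rw [mem_lc] at hz
    have h1 := hmod _ hz
    have h2 := hxt _ hz
    have e : z = (x⁻¹ * (y₀⁻¹ * z * y₀) * x) *
        ((x⁻¹ * (y₀⁻¹ * z * y₀) * x)⁻¹ * (y₀ * (y₀⁻¹ * z * y₀) * y₀⁻¹)) := by group
    rw [e]
    exact T.mul_mem h2 (hQ₀T h1)
  set u := x * y₀ with hu
  have huT : u ∈ Subgroup.normalizer (T : Set G) := Subgroup.mul_mem _ hx hy₀T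
  have hutriv : ∀ t ∈ T, t⁻¹ * (u * t * u⁻¹) ∈ Q₀ := by
    intro t ht
    have h1 := hmod t ht
    have h2 := hQ₀n.conj_mem _ h1 x
    have e : t⁻¹ * (u * t * u⁻¹) = x * ((x⁻¹ * t * x)⁻¹ * (y₀ * t * y₀⁻¹)) * x⁻¹ := by
      rw [hu]; group
    rw [e]; exact h2
  obtain ⟨k, hk, t₀, ht₀, hukt⟩ := mem_of_centralizes_quot P hT Q₀ hQ₀p hPC u huT hutriv
  refine ⟨t₀ * y₀⁻¹, Subgroup.mul_mem _ (hPV (hTP ht₀)) (Subgroup.inv_mem _ hy₀V), fun t ht => ?_⟩
  have hx' : x = k * t₀ * y₀⁻¹ := by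
    have : x = u * y₀⁻¹ := by rw [hu]; group
    rw [this, hukt]
  have hkt : k⁻¹ * t * k = t := by
    have := Subgroup.mem_centralizer_iff.mp hk t ht
    calc k⁻¹ * t * k = k⁻¹ * (t * k) := by group
      _ = k⁻¹ * (k * t) := by rw [this]
      _ = t := by group
  calc (t₀ * y₀⁻¹)⁻¹ * t * (t₀ * y₀⁻¹) = y₀ * t₀⁻¹ * t * t₀ * y₀⁻¹ := by group
    _ = y₀ * t₀⁻¹ * (k⁻¹ * t * k) * t₀ * y₀⁻¹ := by rw [hkt]
    _ = (k * t₀ * y₀⁻¹)⁻¹ * t * (k * t₀ * y₀⁻¹) := by group
    _ = x⁻¹ * t * x := by rw [← hx']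

/-- the inductive step -/
theorem ctl_step (hQ : GoodFam p Q)
    (IHsub : ∀ H : Subgroup G, H ≠ ⊤ → CtlAll p Q ↥H)
    (IHquot : ∀ (N : Subgroup G) [N.Normal], N ≠ ⊥ → CtlAll p Q (G ⧸ N))
    (hzj : Subgroup.centralizer (Cfsg.pCore p G : Set G) ≤ Cfsg.pCore p G →
      ∀ (P : Sylow p G) (D : Subgroup G), Cfsg.IsStronglyClosed D (P : Subgroup G) →
        (ZJ.WW (Q G) D).Normal) :
    CtlAll p Q G := by
  intro P D hD A g hA hgA
  -- reduction to `O_{p'}(G) = 1`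
  by_cases hK : Cfsg.pPrimeCore p G = ⊥
  swap
  · exact ctl_of_quot_pprime hQ (Cfsg.pPrimeCore p G)
      (Cfsg.Agent.Lib.Helper40.pPrimeCore_card_coprime' p G) (IHquot _ hK) P D hD A g hA hgA
  -- the case `O_p(G) = 1`
  by_cases hO : Cfsg.pCore p G = ⊥
  · exact ctl_of_pCore_eq_bot hQ hO IHsub P D hD A g hA hgA
  set Q₀ := Cfsg.pCore p G with hQ₀
  have hQ₀p : IsPGroup p Q₀ := ZJ.pCore_isPGroup p
  have hQ₀P : Q₀ ≤ (P : Subgroup G) := ZJ.pCore_le_sylow P
  set C := Subgroup.centralizer (Q₀ : Set G) with hC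
  -- the constrained case
  by_cases h1 : Subgroup.normalizer
      (((P : Subgroup G) ⊓ (Q₀ ⊔ C) : Subgroup G) : Set G) = ⊤
  · have hcen : C ≤ Q₀ := centralizer_le_of_normalizer_eq_top P hK
      (fun N hN hNp => ZJ.le_pCore hN hNp) h1
    exact ctl_of_normal (hzj hcen P D hD) A g
  by_cases h2 : (P : Subgroup G) ⊔ C = ⊤
  swap
  · exact ctl_split hQ P D hD Q₀ hQ₀P (IHsub _ h1) (IHsub _ h2) A g hA hgA
  -- the case `G = P C_G(Q₀)`
  by_cases hDQ : D ≤ Q₀
  · have hDn : D.Normal := by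
      refine ⟨fun d hd x => ?_⟩
      exact hD.2 d hd x (hQ₀P ((inferInstance : Q₀.Normal).conj_mem d (hDQ hd) x))
    have hN : Subgroup.normalizer (D : Set G) = ⊤ := Subgroup.normalizer_eq_top_iff.mpr hDn
    refine ⟨g, ZJ.normalizer_le_normalizer_WW (hQ.good G) D ?_, fun a _ => rfl⟩
    rw [hN]; trivial
  set π := QuotientGroup.mk' Q₀ with hπ
  set Wb := ZJ.WW (Q (G ⧸ Q₀)) (D.map π) with hWb
  set V := Wb.comap π with hV
  have hreal := ctl_normalizer_of_quot hQ P D hD Q₀ hQ₀p h2 (IHquot Q₀ hO)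
  have hPV := le_normalizer_comap_WW hQ P D hD Q₀
  by_cases hM : Subgroup.normalizer (V : Set G) = ⊤
  swap
  · exact ctl_of_subgroup_ctl hQ P D hD _ hPV (IHsub _ hM) hreal A g hA hgA
  exfalso
  have hVn : V.Normal := Subgroup.normalizer_eq_top_iff.mp hM
  have hWbD : Wb ≤ D.map π := ZJ.WW_le (hQ.good (G ⧸ Q₀)).bot _
  have hVP : V ≤ (P : Subgroup G) := by
    intro v hv
    have h3 : π v ∈ (P : Subgroup G).map π := Subgroup.map_mono hD.1 (hWbD hv)
    obtain ⟨s, hs, hsv⟩ := h3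
    have h4 : s⁻¹ * v ∈ Q₀ := QuotientGroup.eq.mp hsv
    have e : v = s * (s⁻¹ * v) := by group
    rw [e]
    exact Subgroup.mul_mem _ hs (hQ₀P h4)
  have hVQ : V ≤ Q₀ := ZJ.le_pCore hVn (P.2.to_le hVP)
  have hWbot : Wb = ⊥ := by
    rw [eq_bot_iff]
    intro w hw
    obtain ⟨v, rfl⟩ := QuotientGroup.mk'_surjective Q₀ w
    have hvV : v ∈ V := hw
    rw [Subgroup.mem_bot]
    exact (QuotientGroup.eq_one_iff v).mpr (hVQ hvV)
  have hDbne : D.map π ≠ ⊥ := by
    intro hb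
    apply hDQ
    intro d hd
    have : π d ∈ D.map π := Subgroup.mem_map_of_mem _ hd
    rw [hb, Subgroup.mem_bot] at this
    exact (QuotientGroup.eq_one_iff d).mp this
  exact hQ.ne_bot (G ⧸ Q₀) (D.map π) ((P.2.to_le hD.1).map π) hDbne hWbot

end main

/-- a class of finite groups closed under subgroups and quotients in which `W(D)` is normal in the
constrained case -/
structure StabClass (p : ℕ) (Q : ∀ (X : Type u) [Group X], Subgroup X → Prop)
    (Stab : ∀ (X : Type u) [Group X], Prop) : Prop where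
  sub : ∀ (X : Type u) [Group X] [Finite X], Stab X → ∀ H : Subgroup X, Stab ↥H
  quot : ∀ (X : Type u) [Group X] [Finite X], Stab X → ∀ (N : Subgroup X) [N.Normal], Stab (X ⧸ N)
  zj : ∀ (X : Type u) [Group X] [Finite X], Stab X →
    Subgroup.centralizer (Cfsg.pCore p X : Set X) ≤ Cfsg.pCore p X →
    ∀ (P : Sylow p X) (D : Subgroup X), Cfsg.IsStronglyClosed D (P : Subgroup X) →
      (ZJ.WW (Q X) D).Normal

/-- **control of strong fusion by `N(W(D))`** in every group of a class as above -/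
theorem ctlAll_of_stabClass {p : ℕ} [Fact p.Prime] {Q : ∀ (X : Type u) [Group X], Subgroup X → Prop}
    (hQ : GoodFam p Q) {Stab : ∀ (X : Type u) [Group X], Prop} (hS : StabClass p Q Stab) :
    ∀ (X : Type u) [Group X] [Finite X], Stab X → CtlAll p Q X := by
  have key : ∀ n : ℕ, ∀ (X : Type u) [Group X] [Finite X], Nat.card X ≤ n → Stab X →
      CtlAll p Q X := by
    intro n
    induction n with
    | zero =>
      intro X _ _ hc
      have := Nat.card_pos (α := X)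
      omega
    | succ n ih =>
      intro X _ _ hc hX
      apply ctl_step hQ
      · intro H hH
        exact ih ↥H (by have := card_subgroup_lt hH; omega) (hS.sub X hX H)
      · intro N _ hN
        exact ih (X ⧸ N) (by have := card_quotient_lt hN; omega) (hS.quot X hX N)
      · exact hS.zj X hX
  intro X _ _ hX
  exact key _ X le_rfl hX

end Cfsg.Agent.Lib.Helper57.GT
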