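import Mathlib
import Cfsg.Agent.Lib.Helper57.KLMain
import Cfsg.Agent.Lib.Helper90.Involves

/-!
# `H`-free groups form a class closed under subgroups and quotients; the `Qd(p)`-free case

Given the stability of `Qd(p)`-free groups (hypothesis `hstab`), `N_G(W(D))` controls strong fusion
in `P` for `D` strongly closed in `P`.
-/

set_option autoImplicit false
open Cfsg
open Cfsg.Agent.Lib.Helper16
open Cfsg.Agent.Lib.Helper41

universe u v

namespace Cfsg.Agent.Lib.Helper57.GT

theorem not_involves_subgroup {H : Type v} [Group H] {X : Type u} [Group X]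
    (h : ¬ Cfsg.Involves H X) (K : Subgroup X) : ¬ Cfsg.Involves H ↥K := fun hK =>
  h (Cfsg.Agent.Lib.Helper90.Involves.of_injective_right K.subtype K.subtype_injective hK)

theorem not_involves_quotient {H : Type v} [Group H] {X : Type u} [Group X]
    (h : ¬ Cfsg.Involves H X) (N : Subgroup X) [N.Normal] : ¬ Cfsg.Involves H (X ⧸ N) := by
  intro hN
  apply h
  obtain ⟨K', f, hf⟩ := Cfsg.Agent.Lib.Helper90.exists_hom_of_involves hN
  set K := K'.comap (QuotientGroup.mk' N) with hK
  let φ : ↥K →* ↥K' := (QuotientGroup.mk' N).subgroupComap K'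
  have hφ : Function.Surjective φ :=
    MonoidHom.subgroupComap_surjective_of_surjective _ _ (QuotientGroup.mk'_surjective N)
  exact Cfsg.Agent.Lib.Helper90.involves_of_hom K.subtype (f.comp φ) K.subtype_injective
    (hf.comp hφ)

/-- the class of `H`-free groups, given normality of `W(D)` in the constrained case -/
theorem stabClass_of_free {p : ℕ} [Fact p.Prime] {Q : ∀ (X : Type u) [Group X], Subgroup X → Prop}
    (H : Type v) [Group H]
    (hzj : ∀ (X : Type u) [Group X] [Finite X], ¬ Cfsg.Involves H X →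
      Subgroup.centralizer (Cfsg.pCore p X : Set X) ≤ Cfsg.pCore p X →
      ∀ (P : Sylow p X) (D : Subgroup X), Cfsg.IsStronglyClosed D (P : Subgroup X) →
        (ZJ.WW (Q X) D).Normal) :
    StabClass p Q (fun (X : Type u) [Group X] => ¬ Cfsg.Involves H X) where
  sub := fun _ _ _ hX K => not_involves_subgroup hX K
  quot := fun _ _ _ hX N _ => not_involves_quotient hX N
  zj := hzj

/-- control of strong fusion by `N_G(W(D))` in `H`-free groups, given stability of `H`-free groups
with `C(O_p) ≤ O_p` -/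
theorem ctl_of_free {p : ℕ} [Fact p.Prime] (hp : p ≠ 2)
    {Q : ∀ (X : Type u) [Group X], Subgroup X → Prop} (hQ : GoodFam p Q)
    (H : Type v) [Group H]
    (hstab : ∀ (X : Type u) [Group X] [Finite X], ¬ Cfsg.Involves H X →
      Subgroup.centralizer (Cfsg.pCore p X : Set X) ≤ Cfsg.pCore p X →
      ∀ P : Sylow p X, ZJ.StableFor p (P : Subgroup X))
    {G : Type u} [Group G] [Finite G] (hG : ¬ Cfsg.Involves H G) (P : Sylow p G) (D : Subgroup G)
    (hD : Cfsg.IsStronglyClosed D (P : Subgroup G)) (A : Set G) (hA : A ⊆ (P : Subgroup G)) :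
    Cfsg.ControlsStrongFusionOf (Subgroup.normalizer (ZJ.WW (Q G) D : Set G)) (P : Subgroup G) A := by
  have hS : StabClass p Q (fun (X : Type u) [Group X] => ¬ Cfsg.Involves H X) :=
    stabClass_of_free H (fun X _ _ hX hc P D hD =>
      ZJ.WW_normal_sc hp (hQ.good X) hc P (hstab X hX hc P) D hD)
  have hctl := ctlAll_of_stabClass hQ hS G hG P D hD
  refine ⟨hA, fun g hgA => ?_⟩
  obtain ⟨y, hy, hya⟩ := hctl A g hA (fun a ha => hgA ⟨a, ha, rfl⟩)
  exact ⟨y, hy, fun a ha => (hya a ha).symm⟩

end Cfsg.Agent.Lib.Helper57.GT
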