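import Cfsg.Agent.Lib.Helper06.Hall4.Defs

/-!
# K-H4 LEAF BWc (keystone 422122, architect helper6): `card_invCoset_comm`

`card_invCoset_comm_of` is LEAF BWc with the two statements of LEAF BWa as the explicit hypotheses
`hBWa1`, `hBWa2` (their exact spec statements, for the fixed group `Γ`).
-/

set_option autoImplicit false
set_option linter.unusedSectionVars false
open Equiv

namespace Cfsg.Agent.Lib.Helper57.Hall4
open Cfsg.Agent.Lib.Helper06.Hall4

section BW
variable {Γ : Type*} [Group Γ] [Finite Γ]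

/-- LEAF BWc with LEAF BWa as hypotheses. -/
theorem card_invCoset_comm_of
    (hBWa1 : ∀ (H : Subgroup Γ), Odd (Nat.card H) → ∀ {x : Γ}, x * x = 1 →
      (∀ g ∈ H, x * g * x⁻¹ ∈ H) → ∀ {s : Γ}, s ∈ InvCoset x H → ∃ g ∈ H, g * x * g⁻¹ = s)
    (hBWa2 : ∀ (H : Subgroup Γ), Odd (Nat.card H) → ∀ {x : Γ}, x * x = 1 →
      (∀ g ∈ H, x * g * x⁻¹ ∈ H) →
      (InvCoset x H).ncard * Nat.card (H ⊓ Subgroup.centralizer {x} : Subgroup Γ) = Nat.card H)
    (H : Subgroup Γ) (hH : Odd (Nat.card H)) {x y : Γ}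
    (x2 : x * x = 1) (y2 : y * y = 1) (comm : x * y = y * x)
    (hxH : ∀ g ∈ H, x * g * x⁻¹ ∈ H) (hyH : ∀ g ∈ H, y * g * y⁻¹ ∈ H) {w : Γ}
    (hw : w ∈ InvCoset (x * y) H) :
    {s | s ∈ InvCoset x H ∧ w * s = s * w}.ncard *
      Nat.card (H ⊓ Subgroup.centralizer {x, y} : Subgroup Γ) =
      Nat.card (H ⊓ Subgroup.centralizer {x * y} : Subgroup Γ) := by
  have hxinv : x⁻¹ = x := (eq_inv_of_mul_eq_one_left x2).symm
  have hyinv : y⁻¹ = y := (eq_inv_of_mul_eq_one_left y2).symm
  -- `z = x * y`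
  have z2 : (x * y) * (x * y) = 1 := by
    calc (x * y) * (x * y) = x * (y * x) * y := by group
      _ = x * (x * y) * y := by rw [comm]
      _ = (x * x) * (y * y) := by group
      _ = 1 := by rw [x2, y2, one_mul]
  have hzH : ∀ g ∈ H, (x * y) * g * (x * y)⁻¹ ∈ H := by
    intro g hg
    have h1 := hxH _ (hyH g hg)
    have h2 : x * y * g * (x * y)⁻¹ = x * (y * g * y⁻¹) * x⁻¹ := by group
    rw [h2]
    exact h1
  have hxz : x * (x * y) = (x * y) * x := by
    calc x * (x * y) = x * (y * x) := by rw [comm]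
      _ = (x * y) * x := by group
  -- `w = g z g⁻¹`
  obtain ⟨g, hgH, hgw⟩ := hBWa1 H hH z2 hzH hw
  -- the odd order group `K`
  set K : Subgroup Γ := H ⊓ Subgroup.centralizer {x * y} with hK
  have hKH : K ≤ H := inf_le_left
  have hKodd : Odd (Nat.card K) := by
    have hdvd : Nat.card K ∣ Nat.card H := Subgroup.card_dvd_of_le hKH
    exact Odd.of_dvd_nat hH hdvd
  have hxK : ∀ k ∈ K, x * k * x⁻¹ ∈ K := by
    intro k hk
    obtain ⟨hkH, hkz⟩ := Subgroup.mem_inf.mp hk
    rw [mem_centralizer_one] at hkz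
    refine Subgroup.mem_inf.mpr ⟨hxH k hkH, ?_⟩
    rw [mem_centralizer_one]
    calc x * y * (x * k * x⁻¹) = (x * y * x) * k * x⁻¹ := by group
      _ = (x * (x * y)) * k * x⁻¹ := by rw [hxz]
      _ = x * ((x * y) * k) * x⁻¹ := by group
      _ = x * (k * (x * y)) * x⁻¹ := by rw [hkz]
      _ = x * k * ((x * y) * x⁻¹) := by group
      _ = x * k * ((x * y) * x) := by rw [hxinv]
      _ = x * k * (x * (x * y)) := by rw [hxz]
      _ = x * k * (x⁻¹ * (x * y)) := by rw [hxinv]
      _ = x * k * x⁻¹ * (x * y) := by group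
  have hcount := hBWa2 K hKodd x2 hxK
  -- the two centralizers agree
  have hcent : (K ⊓ Subgroup.centralizer {x} : Subgroup Γ) = H ⊓ Subgroup.centralizer {x, y} := by
    ext k
    simp only [hK, Subgroup.mem_inf, mem_centralizer_one, mem_centralizer_pair]
    constructor
    · rintro ⟨⟨hkH, hkz⟩, hkx⟩
      refine ⟨hkH, hkx, ?_⟩
      calc y * k = (x * x) * (y * k) := by rw [x2, one_mul]
        _ = x * ((x * y) * k) := by group
        _ = x * (k * (x * y)) := by rw [hkz]
        _ = (x * k) * (x * y) := by group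
        _ = (k * x) * (x * y) := by rw [hkx]
        _ = k * ((x * x) * y) := by group
        _ = k * y := by rw [x2, one_mul]
    · rintro ⟨hkH, hkx, hky⟩
      refine ⟨⟨hkH, ?_⟩, hkx⟩
      calc x * y * k = x * (y * k) := by group
        _ = x * (k * y) := by rw [hky]
        _ = (x * k) * y := by group
        _ = (k * x) * y := by rw [hkx]
        _ = k * (x * y) := by group
  -- the set `A` of elements of `InvCoset x H` commuting with `z` is `InvCoset x K`
  have hA : InvCoset x K = {s | s ∈ InvCoset x H ∧ (x * y) * s = s * (x * y)} := by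
    ext s
    have hiff : (x * y * (x⁻¹ * s) = x⁻¹ * s * (x * y)) ↔ (x * y * s = s * (x * y)) := by
      rw [hxinv]
      constructor
      · intro h
        have h3 : x * (x * y * (x * s)) = x * (x * s * (x * y)) := by rw [h]
        calc x * y * s = (x * x) * (x * y * s) := by rw [x2, one_mul]
          _ = x * ((x * (x * y)) * s) := by group
          _ = x * (((x * y) * x) * s) := by rw [hxz]
          _ = x * (x * y * (x * s)) := by group
          _ = x * (x * s * (x * y)) := h3
          _ = (x * x) * s * (x * y) := by group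
          _ = s * (x * y) := by rw [x2, one_mul]
      · intro h
        calc x * y * (x * s) = ((x * y) * x) * s := by group
          _ = (x * (x * y)) * s := by rw [hxz]
          _ = x * ((x * y) * s) := by group
          _ = x * (s * (x * y)) := by rw [h]
          _ = x * s * (x * y) := by group
    constructor
    · intro hs
      obtain ⟨hs1, hs2⟩ := mem_InvCoset.mp hs
      obtain ⟨h1, h2⟩ := Subgroup.mem_inf.mp hs1
      rw [mem_centralizer_one] at h2
      exact ⟨mem_InvCoset.mpr ⟨h1, hs2⟩, hiff.mp h2⟩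
    · rintro ⟨hs, h2⟩
      obtain ⟨h1, h3⟩ := mem_InvCoset.mp hs
      exact mem_InvCoset.mpr
        ⟨Subgroup.mem_inf.mpr ⟨h1, mem_centralizer_one.mpr (hiff.mpr h2)⟩, h3⟩
  -- conjugation by `g` maps `A` onto the set of the statement
  have hB : {s | s ∈ InvCoset x H ∧ w * s = s * w} =
      (fun s => g * s * g⁻¹) '' {s | s ∈ InvCoset x H ∧ (x * y) * s = s * (x * y)} := by
    have hconjmem : ∀ (a : Γ), a ∈ H → ∀ s, s ∈ InvCoset x H → a * s * a⁻¹ ∈ InvCoset x H := by
      intro a ha s hs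
      obtain ⟨hs1, hs2⟩ := mem_InvCoset.mp hs
      refine mem_InvCoset.mpr ⟨?_, ?_⟩
      · have h1 : x⁻¹ * (a * s * a⁻¹) = (x * a * x⁻¹) * (x⁻¹ * s) * a⁻¹ := by
          rw [hxinv]
          calc x * (a * s * a⁻¹) = x * a * ((x * x) * s) * a⁻¹ := by rw [x2, one_mul]; group
            _ = x * a * x * (x * s) * a⁻¹ := by group
        rw [h1]
        exact H.mul_mem (H.mul_mem (hxH a ha) hs1) (H.inv_mem ha)
      · calc a * s * a⁻¹ * (a * s * a⁻¹) = a * (s * s) * a⁻¹ := by group
          _ = 1 := by rw [hs2]; group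
    ext s
    constructor
    · rintro ⟨hs, hws⟩
      refine ⟨g⁻¹ * s * g, ⟨?_, ?_⟩, ?_⟩
      · have := hconjmem g⁻¹ (H.inv_mem hgH) s hs
        rwa [inv_inv] at this
      · rw [← hgw] at hws
        calc x * y * (g⁻¹ * s * g) = g⁻¹ * ((g * (x * y) * g⁻¹) * s) * g := by group
          _ = g⁻¹ * (s * (g * (x * y) * g⁻¹)) * g := by rw [hws]
          _ = g⁻¹ * s * g * (x * y) := by group
      · show g * (g⁻¹ * s * g) * g⁻¹ = s
        group
    · rintro ⟨s', ⟨hs', hzs'⟩, rfl⟩
      refine ⟨hconjmem g hgH s' hs', ?_⟩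
      show w * (g * s' * g⁻¹) = g * s' * g⁻¹ * w
      rw [← hgw]
      calc g * (x * y) * g⁻¹ * (g * s' * g⁻¹) = g * ((x * y) * s') * g⁻¹ := by group
        _ = g * (s' * (x * y)) * g⁻¹ := by rw [hzs']
        _ = g * s' * g⁻¹ * (g * (x * y) * g⁻¹) := by group
  have hinj : Function.Injective (fun s : Γ => g * s * g⁻¹) := by
    intro a b hab
    have h1 : g * a * g⁻¹ = g * b * g⁻¹ := hab
    have h2 := mul_right_cancel h1
    exact mul_left_cancel h2
  rw [hB, Set.ncard_image_of_injective _ hinj, ← hA, ← hcent]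
  exact hcount

end BW

end Cfsg.Agent.Lib.Helper57.Hall4
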