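import Mathlib
import Cfsg.Agent.Lib.Helper11.Syl22Defs

/-!
# K-B1 (434610): every element of `G` acts evenly on any finite `G`-set
-/

set_option autoImplicit false

namespace Cfsg.Agent.Lib.Helper57.Syl22

open Cfsg.Agent.Lib.Helper11.Syl22

/-- K-B1 (434610). -/
theorem sign_eq_one {G : Type*} [Group G] (c : Ctx G) {α : Type*} [Fintype α] [DecidableEq α]
    [MulAction G α] (g : G) : Equiv.Perm.sign (MulAction.toPerm g : Equiv.Perm α) = 1 := by
  have hfin : Finite G := c.fin
  have hsimple : IsSimpleGroup G := c.simple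
  let φ : G →* ℤˣ := (Equiv.Perm.sign).comp (MulAction.toPermHom G α)
  rcases IsSimpleGroup.eq_bot_or_eq_top_of_normal φ.ker inferInstance with h | h
  · exfalso
    have hinj : Function.Injective φ := (MonoidHom.ker_eq_bot_iff φ).mp h
    have h1 : Nat.card G ≤ Nat.card ℤˣ := Nat.card_le_card_of_injective φ hinj
    have h2 : Nat.card ℤˣ = 2 := by rw [Nat.card_eq_fintype_card, Fintype.card_units_int]
    have P : Sylow 3 G := default
    have h3 := c.h3 P
    have h4 : Nat.card ↥(P : Subgroup G) ≤ Nat.card G := Subgroup.card_le_card_group _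
    omega
  · have hg : g ∈ φ.ker := by rw [h]; exact Subgroup.mem_top g
    exact MonoidHom.mem_ker.mp hg

end Cfsg.Agent.Lib.Helper57.Syl22
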