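import Mathlib
import Cfsg.Agent.Lib.Helper11.ZassDefs
import Cfsg.Agent.Lib.Helper16.ClassEq2

/-!
# K-S0690-6: a group of order 48 with binary-octahedral class data is not generated by its
elements of order three
-/

set_option autoImplicit false

namespace Cfsg.Agent.Lib.Helper57.Zass

open Cfsg.Agent.Lib.Helper16
open Classical

section Abstract

variable {G : Type*} [Group G] [Fintype G]

theorem no48_abstract (Z : Subgroup G) (hct : ClassEq.CT Z) (hcard : Nat.card G = 48)
    (hZ : Nat.card Z = 2)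
    (hD : ∀ h : G, h ∉ Z →
      (Nat.card (Subgroup.centralizer ({h} : Set G)) = 4 ∨
        Nat.card (Subgroup.centralizer ({h} : Set G)) = 6 ∨
        Nat.card (Subgroup.centralizer ({h} : Set G)) = 2 * 4) ∧
      Nat.card (ClassEq.Nm h) = 2 * Nat.card (Subgroup.centralizer ({h} : Set G)) ∧
      (∀ l : G, l ∈ ClassEq.Nm h → l * h * l⁻¹ = h ∨ l * h * l⁻¹ = h⁻¹) ∧
      ∀ h' : G, h' ∉ Z →
        Nat.card (Subgroup.centralizer ({h'} : Set G)) =
          Nat.card (Subgroup.centralizer ({h} : Set G)) →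
        h' ∈ ClassEq.sat Z h)
    (hgen : Subgroup.closure {h : G | orderOf h = 3} = ⊤) : False := by
  -- elements of order three
  have h3 : ∀ y : G, orderOf y = 3 →
      y ∉ Z ∧ Nat.card (Subgroup.centralizer ({y} : Set G)) = 6 := by
    intro y hy
    have hyZ : y ∉ Z := by
      intro hyZ
      have h1 : orderOf (⟨y, hyZ⟩ : Z) ∣ Nat.card Z := orderOf_dvd_natCard _
      rw [Subgroup.orderOf_mk, hy, hZ] at h1
      norm_num at h1
    refine ⟨hyZ, ?_⟩
    have hyC : y ∈ Subgroup.centralizer ({y} : Set G) := by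
      rw [Subgroup.mem_centralizer_singleton_iff]
    have h1 : orderOf (⟨y, hyC⟩ : Subgroup.centralizer ({y} : Set G)) ∣
        Nat.card (Subgroup.centralizer ({y} : Set G)) := orderOf_dvd_natCard _
    rw [Subgroup.orderOf_mk, hy] at h1
    rcases (hD y hyZ).1 with h | h | h
    · rw [h] at h1; norm_num at h1
    · exact h
    · rw [h] at h1; norm_num at h1
  have hinv : ∀ y : G, orderOf y = 3 → y⁻¹ ≠ y := by
    intro y hy h
    have h1 : y ^ 2 = 1 := by
      rw [pow_two]
      calc y * y = y * y⁻¹ := by rw [h]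
        _ = 1 := mul_inv_cancel y
    have := orderOf_dvd_of_pow_eq_one h1
    rw [hy] at this
    norm_num at this
  -- an element of order three
  obtain ⟨x, hx⟩ : ∃ x : G, orderOf x = 3 := by
    by_contra hno
    have hempty : {h : G | orderOf h = 3} = ∅ := by
      ext h
      simp only [Set.mem_ofPred_eq, Set.mem_empty_iff_false, iff_false]
      intro hh
      exact hno ⟨h, hh⟩
    rw [hempty, Subgroup.closure_empty] at hgen
    have : Nat.card G = 1 := by
      have h1 : Nat.card (⊥ : Subgroup G) = 1 := Subgroup.card_bot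
      rw [hgen, Subgroup.card_top] at h1
      exact h1
    rw [hcard] at this
    norm_num at this
  obtain ⟨hxZ, hCx⟩ := h3 x hx
  have hNx : Nat.card (ClassEq.Nm x) = 12 := by rw [(hD x hxZ).2.1, hCx]
  have hidx : (ClassEq.Nm x).index = 4 := by
    have := (ClassEq.Nm x).card_mul_index
    rw [hNx, hcard] at this
    omega
  -- the action on the four cosets
  let φ : G →* Equiv.Perm (G ⧸ ClassEq.Nm x) := MulAction.toPermHom G (G ⧸ ClassEq.Nm x)
  have hcardQ : Fintype.card (G ⧸ ClassEq.Nm x) = 4 := by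
    rw [← Nat.card_eq_fintype_card, ← Subgroup.index_eq_card]; exact hidx
  have hsign : ∀ g : G, Equiv.Perm.sign (φ g) = 1 := by
    have hle : Subgroup.closure {h : G | orderOf h = 3} ≤ (Equiv.Perm.sign.comp φ).ker := by
      rw [Subgroup.closure_le]
      intro y hy
      have hy3 : orderOf y = 3 := hy
      rw [SetLike.mem_coe, MonoidHom.mem_ker, MonoidHom.comp_apply]
      have h1 : Equiv.Perm.sign (φ y) ^ 3 = 1 := by
        rw [← map_pow, ← map_pow, ← hy3, pow_orderOf_eq_one, map_one, map_one]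
      have h2 : Equiv.Perm.sign (φ y) ^ 2 = 1 := Int.units_sq _
      calc Equiv.Perm.sign (φ y) = Equiv.Perm.sign (φ y) ^ 3 * (Equiv.Perm.sign (φ y) ^ 2)⁻¹ := by
            group
        _ = 1 := by rw [h1, h2]; simp
    intro g
    rw [hgen] at hle
    have := hle (Subgroup.mem_top g)
    rwa [MonoidHom.mem_ker, MonoidHom.comp_apply] at this
  have hrange : φ.range ≤ alternatingGroup (G ⧸ ClassEq.Nm x) := by
    rintro _ ⟨g, rfl⟩
    exact Equiv.Perm.mem_alternatingGroup.mpr (hsign g)
  have hnt : Nontrivial (G ⧸ ClassEq.Nm x) := by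
    rw [← Fintype.one_lt_card_iff_nontrivial, hcardQ]; norm_num
  have halt : Nat.card (alternatingGroup (G ⧸ ClassEq.Nm x)) = 12 := by
    have h1 := two_mul_card_alternatingGroup (α := G ⧸ ClassEq.Nm x)
    rw [Fintype.card_perm, hcardQ] at h1
    rw [Nat.card_eq_fintype_card]
    have : (4 : ℕ).factorial = 24 := by decide
    omega
  have hker4 : 4 ≤ Nat.card φ.ker := by
    have h1 : Nat.card φ.range ≤ 12 := by
      rw [← halt]; exact Subgroup.card_le_of_le hrange
    have h2 : Nat.card φ.ker * Nat.card φ.range = 48 := by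
      rw [← Subgroup.index_ker, Subgroup.card_mul_index, hcard]
    nlinarith
  -- the kernel lies in `Nm x`
  have hkerN : ∀ k ∈ φ.ker, k ∈ ClassEq.Nm x := by
    intro k hk
    have h1 : φ k = 1 := hk
    have h2 : (φ k) ((1 : G) : G ⧸ ClassEq.Nm x) = ((1 : G) : G ⧸ ClassEq.Nm x) := by
      rw [h1]; rfl
    have h3' : ((k * 1 : G) : G ⧸ ClassEq.Nm x) = ((1 : G) : G ⧸ ClassEq.Nm x) := h2
    rw [QuotientGroup.eq] at h3'
    have : k⁻¹ ∈ ClassEq.Nm x := by simpa using h3'
    simpa using Subgroup.inv_mem _ this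
  -- the kernel acts on elements of order three by `±1`
  have hP : ∀ k ∈ φ.ker, ∀ y : G, orderOf y = 3 → k * y * k⁻¹ = y ∨ k * y * k⁻¹ = y⁻¹ := by
    intro k hk y hy
    obtain ⟨hyZ, hCy⟩ := h3 y hy
    have hysat : y ∈ ClassEq.sat Z x := (hD x hxZ).2.2.2 y hyZ (by rw [hCy, hCx])
    obtain ⟨l, hl⟩ := ClassEq.mem_sat.mp hysat
    have hhZ : l * y * l⁻¹ ∉ Z := (ClassEq.mem_cls.mp hl).1
    have hcent := ClassEq.centralizer_eq_of_mem hct hxZ hl
    have hNm : ClassEq.Nm (l * y * l⁻¹) = ClassEq.Nm x := by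
      unfold ClassEq.Nm; rw [hcent]
    have hk' : l * k * l⁻¹ ∈ ClassEq.Nm (l * y * l⁻¹) := by
      rw [hNm]
      apply hkerN
      exact (inferInstance : φ.ker.Normal).conj_mem k hk l
    rcases (hD _ hhZ).2.2.1 _ hk' with h | h
    · left
      have h1 : l * (k * y * k⁻¹) * l⁻¹ = l * y * l⁻¹ := by
        rw [← h]; group
      have h2 := mul_right_cancel h1
      exact mul_left_cancel h2
    · right
      have h1 : l * (k * y * k⁻¹) * l⁻¹ = l * y⁻¹ * l⁻¹ := by
        have : (l * y * l⁻¹)⁻¹ = l * y⁻¹ * l⁻¹ := by group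
        rw [← this, ← h]; group
      have h2 := mul_right_cancel h1
      exact mul_left_cancel h2
  -- an element of order three not commuting with `x`
  obtain ⟨x2, hx2, hnc⟩ : ∃ x2 : G, orderOf x2 = 3 ∧ x * x2 ≠ x2 * x := by
    by_contra hno
    have hall : ∀ y : G, orderOf y = 3 → x * y = y * x := by
      intro y hy
      by_contra h
      exact hno ⟨y, hy, h⟩
    have hle : Subgroup.closure {h : G | orderOf h = 3} ≤ Subgroup.centralizer ({x} : Set G) := by
      rw [Subgroup.closure_le]
      intro y hy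
      rw [SetLike.mem_coe, Subgroup.mem_centralizer_singleton_iff]
      exact (hall y hy).symm
    rw [hgen] at hle
    have : Subgroup.centralizer ({x} : Set G) = ⊤ := top_le_iff.mp hle
    rw [this, Subgroup.card_top, hcard] at hCx
    norm_num at hCx
  -- an element of the kernel outside `Z`
  obtain ⟨k, hk, hkZ⟩ : ∃ k ∈ φ.ker, k ∉ Z := by
    by_contra hno
    have hle : φ.ker ≤ Z := by
      intro k hk
      by_contra hkZ
      exact hno ⟨k, hk, hkZ⟩
    have := Subgroup.card_le_of_le hle
    rw [hZ] at this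
    omega
  -- an element `w` of order three inverted by `k` lies in the kernel
  have hwker : ∀ w : G, orderOf w = 3 → k * w * k⁻¹ = w⁻¹ → w ∈ φ.ker := by
    intro w hw hkw
    have h1 : w * k * w⁻¹ ∈ φ.ker := (inferInstance : φ.ker.Normal).conj_mem k hk w
    have h2 : w * k * w⁻¹ * k⁻¹ = w * w := by
      have : k * w⁻¹ * k⁻¹ = w := by
        have h3' : (k * w * k⁻¹)⁻¹ = k * w⁻¹ * k⁻¹ := by group
        rw [← h3', hkw, inv_inv]
      calc w * k * w⁻¹ * k⁻¹ = w * (k * w⁻¹ * k⁻¹) := by group
        _ = w * w := by rw [this]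
    have h4 : w * w ∈ φ.ker := by
      rw [← h2]; exact Subgroup.mul_mem _ h1 (Subgroup.inv_mem _ hk)
    have h5 : w = (w * w) * (w * w) := by
      have hw3 : w ^ 3 = 1 := by rw [← hw, pow_orderOf_eq_one]
      have hw3' : w * w * w = 1 := by
        rw [← hw3, pow_succ, pow_succ, pow_one]
      calc w = (w * w * w) * w := by rw [hw3', one_mul]
        _ = (w * w) * (w * w) := by simp only [mul_assoc]
    rw [h5]; exact Subgroup.mul_mem _ h4 h4
  -- an element of order three in the kernel commutes with every element of order three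
  have hcomm : ∀ w w' : G, orderOf w = 3 → orderOf w' = 3 → w ∈ φ.ker → w * w' = w' * w := by
    intro w w' hw hw' hwk
    rcases hP w hwk w' hw' with h | h
    · calc w * w' = w * w' * w⁻¹ * w := by group
        _ = w' * w := by rw [h]
    · exfalso
      have hw3 : w ^ 3 = 1 := by rw [← hw, pow_orderOf_eq_one]
      have h1 : w * w'⁻¹ * w⁻¹ = w' := by
        have : (w * w' * w⁻¹)⁻¹ = w * w'⁻¹ * w⁻¹ := by group
        rw [← this, h, inv_inv]
      have hw3' : w * w * w = 1 := by
        rw [← hw3, pow_succ, pow_succ, pow_one]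
      have h2 : (w * w * w) * w' * (w * w * w)⁻¹ = w'⁻¹ := by
        calc (w * w * w) * w' * (w * w * w)⁻¹
            = w * (w * (w * w' * w⁻¹) * w⁻¹) * w⁻¹ := by
              simp only [mul_assoc, mul_inv_rev]
          _ = w * (w * w'⁻¹ * w⁻¹) * w⁻¹ := by rw [h]
          _ = w * w' * w⁻¹ := by rw [h1]
          _ = w'⁻¹ := h
      rw [hw3'] at h2
      exact hinv w' hw' (by simpa using h2.symm)
  -- conclusion
  rcases hP k hk x hx with h1 | h1
  · rcases hP k hk x2 hx2 with h2 | h2
    · -- `k` centralizes both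
      apply hnc
      have hxk : x * k = k * x := by
        calc x * k = k * x * k⁻¹ * k := by rw [h1]
          _ = k * x := by group
      have hkx2 : k * x2 = x2 * k := by
        calc k * x2 = k * x2 * k⁻¹ * k := by group
          _ = x2 * k := by rw [h2]
      exact hct.trans x k x2 hkZ hxk hkx2
    · exact hnc (hcomm x2 x hx2 hx (hwker x2 hx2 h2)).symm
  · exact hnc (hcomm x x2 hx hx2 (hwker x hx h1))

end Abstract

section Klein

open Cfsg.Agent.Lib.Helper11.Zass

variable {K : Type*} [Field K] [CharZero K]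

local notation "SL2" => Matrix.SpecialLinearGroup (Fin 2) K

/-- the class data of the binary octahedral (`m = 4`) and binary icosahedral (`m = 5`) groups -/
def KleinData (L : Subgroup SL2) [Fintype L] (m : ℕ) : Prop :=
  ∀ h : L, h ∉ SL2Q.ZL L →
    (Nat.card (Subgroup.centralizer ({h} : Set L)) = 4 ∨
      Nat.card (Subgroup.centralizer ({h} : Set L)) = 6 ∨
      Nat.card (Subgroup.centralizer ({h} : Set L)) = 2 * m) ∧
    Nat.card (ClassEq.Nm h) = 2 * Nat.card (Subgroup.centralizer ({h} : Set L)) ∧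
    (∀ l : L, l ∈ ClassEq.Nm h → l * h * l⁻¹ = h ∨ l * h * l⁻¹ = h⁻¹) ∧
    ∀ h' : L, h' ∉ SL2Q.ZL L →
      Nat.card (Subgroup.centralizer ({h'} : Set L)) = Nat.card (Subgroup.centralizer ({h} : Set L)) →
      h' ∈ ClassEq.sat (SL2Q.ZL L) h

/-- K-S0690-6 (id 69006). -/
theorem no_48 (L : Subgroup SL2) [Fintype L] (hcard : Nat.card L = 48)
    (hZ : Nat.card (SL2Q.ZL L) = 2) (hD : KleinData L 4)
    (hgen : Subgroup.closure {h : L | orderOf h = 3} = ⊤) : False :=
  no48_abstract (G := ↥L) (SL2Q.ZL L) (SL2Q.ct_L L) hcard hZ hD hgen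

end Klein

end Cfsg.Agent.Lib.Helper57.Zass
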