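import Cfsg.Agent.Lib.Helper57.CL
import Cfsg.Prelude.Def_PLocal

set_option autoImplicit false

namespace Cfsg.Agent.Lib.Helper57

open scoped Pointwise

variable {G : Type*} [Group G]

theorem isMulCommutative_iff_le_centralizer (B : Subgroup G) :
    IsMulCommutative ↥B ↔ B ≤ Subgroup.centralizer (B : Set G) :=
  Subgroup.le_centralizer_iff_isMulCommutative.symm

theorem exists_maxAbelian [Finite G] : ∃ A : Subgroup G, A ∈ Cfsg.maxAbelianSubgroups G := by
  have hfin : {B : Subgroup G | IsMulCommutative ↥B}.Finite := Set.toFinite _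
  obtain ⟨A, hA, hmax⟩ := Set.exists_max_image _ (fun B : Subgroup G => Nat.card B) hfin
    ⟨⊥, by
      show IsMulCommutative ↥(⊥ : Subgroup G)
      rw [isMulCommutative_iff_le_centralizer]; exact bot_le⟩
  exact ⟨A, hA, fun B hB => hmax B hB⟩

theorem maxAbelian_le_centralizer {A : Subgroup G} (hA : A ∈ Cfsg.maxAbelianSubgroups G) :
    A ≤ Subgroup.centralizer (A : Set G) :=
  (isMulCommutative_iff_le_centralizer A).mp hA.1

/-- an abelian subgroup of largest order is self-centralizing -/
theorem maxAbelian_centralizer_eq [Finite G] {A : Subgroup G}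
    (hA : A ∈ Cfsg.maxAbelianSubgroups G) : Subgroup.centralizer (A : Set G) = A := by
  have hAC := maxAbelian_le_centralizer hA
  apply le_antisymm _ hAC
  intro c hc
  set B := A ⊔ Subgroup.zpowers c with hB
  have hcA : Subgroup.zpowers c ≤ Subgroup.centralizer (A : Set G) := by
    rw [Subgroup.zpowers_le]; exact hc
  have hAc : A ≤ Subgroup.centralizer ((Subgroup.zpowers c : Subgroup G) : Set G) :=
    Subgroup.le_centralizer_iff.mp hcA
  have hcc : Subgroup.zpowers c ≤
      Subgroup.centralizer ((Subgroup.zpowers c : Subgroup G) : Set G) := by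
    rw [← isMulCommutative_iff_le_centralizer]
    infer_instance
  have hBab : IsMulCommutative ↥B := by
    rw [isMulCommutative_iff_le_centralizer, hB, centralizer_sup_eq]
    exact sup_le (le_inf hAC hAc) (le_inf hcA hcc)
  have h1 : Nat.card B ≤ Nat.card A := hA.2 B hBab
  have h2 : A = B := Subgroup.eq_of_le_of_card_ge le_sup_left h1
  rw [h2]
  exact Subgroup.mem_sup_right (Subgroup.mem_zpowers c)

/-- Glauberman: the product of a centrally large subgroup and an abelian subgroup of largest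
order. -/
theorem cl_sup_maxAbelian [Finite G] (Q A : Subgroup G) (hQ : Cfsg.IsCentrallyLarge Q)
    (hA : A ∈ Cfsg.maxAbelianSubgroups G) :
    ((Q ⊔ A : Subgroup G) : Set G) = (Q : Set G) * (A : Set G) ∧
    Cfsg.IsCentrallyLarge (Q ⊔ A) ∧
    (Q ⊔ A) ⊓ Subgroup.centralizer ((Q ⊓ A : Subgroup G) : Set G) = zOf Q ⊔ A ∧
    ((zOf Q ⊔ A : Subgroup G) : Set G) = (zOf Q : Set G) * (A : Set G) := by
  obtain ⟨hQ1, hQ2⟩ := (isCentrallyLarge_iff' Q).mp hQ
  have hZ : zOf Q = Subgroup.centralizer (Q : Set G) := zOf_eq_centralizer_of_le hQ2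
  have hCA : Subgroup.centralizer (A : Set G) = A := maxAbelian_centralizer_eq hA
  have hAC : A ≤ Subgroup.centralizer (A : Set G) := maxAbelian_le_centralizer hA
  set Z := zOf Q with hZdef
  have hZQ : Z ≤ Q := zOf_le Q
  have hZCQ : Z ≤ Subgroup.centralizer (Q : Set G) := zOf_le_centralizer Q
  have hQCZ : Q ≤ Subgroup.centralizer (Z : Set G) := Subgroup.le_centralizer_iff.mp hZCQ
  -- centralizers of Q ⊓ A
  have hCQ_le : Subgroup.centralizer (Q : Set G) ≤
      Subgroup.centralizer ((Q ⊓ A : Subgroup G) : Set G) :=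
    Subgroup.centralizer_le (by exact_mod_cast (inf_le_left : Q ⊓ A ≤ Q))
  have hCA_le : Subgroup.centralizer (A : Set G) ≤
      Subgroup.centralizer ((Q ⊓ A : Subgroup G) : Set G) :=
    Subgroup.centralizer_le (by exact_mod_cast (inf_le_right : Q ⊓ A ≤ A))
  -- B abelian
  set B := Z ⊔ (Q ⊓ A) with hB
  have hCB : Subgroup.centralizer (B : Set G) =
      Subgroup.centralizer (Z : Set G) ⊓ Subgroup.centralizer ((Q ⊓ A : Subgroup G) : Set G) :=
    centralizer_sup_eq _ _
  have hBab : IsMulCommutative ↥B := by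
    rw [isMulCommutative_iff_le_centralizer, hCB]
    apply sup_le
    · exact le_inf (hZQ.trans hQCZ) (hZCQ.trans hCQ_le)
    · exact le_inf (inf_le_left.trans hQCZ) (inf_le_right.trans (hAC.trans hCA_le))
  have hba : Nat.card B ≤ Nat.card A := hA.2 B hBab
  -- X
  set X := Q ⊔ A with hX
  have hCX : Subgroup.centralizer (X : Set G) = Z ⊓ A := by
    rw [hX, centralizer_sup_eq, hCA, ← hZ]
  have hZinf : Z ⊓ (Q ⊓ A) = Z ⊓ A := by
    rw [← inf_assoc, inf_eq_left.mpr hZQ]
  have h_i := card_mul_card_le_sup_inf Q A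
  have h_ii := card_mul_card_le_sup_inf Z (Q ⊓ A)
  rw [hZinf] at h_ii
  have h_iv : cdm X ≤ Cfsg.maxCentralizerProduct G := cdm_le_maxCP X
  have hM : Nat.card Q * Nat.card Z = Cfsg.maxCentralizerProduct G := by
    rw [hZ]; exact hQ1
  unfold cdm at h_iv
  rw [hCX] at h_iv
  rw [← hB] at h_ii
  rw [← hX] at h_i
  set q := Nat.card Q
  set a := Nat.card A
  set z := Nat.card Z
  set i := Nat.card ↥(Q ⊓ A)
  set j := Nat.card ↥(Z ⊓ A)
  set b := Nat.card B
  set x := Nat.card X
  set M := Cfsg.maxCentralizerProduct G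
  have hq : 0 < q := Nat.card_pos
  have hi : 0 < i := Nat.card_pos
  have hj : 0 < j := Nat.card_pos
  -- the chain
  have c1 : q * z * i ≤ q * (b * j) := by
    rw [mul_assoc]; exact Nat.mul_le_mul_left q h_ii
  have c2 : q * (b * j) ≤ q * a * j := by
    rw [mul_assoc]; exact Nat.mul_le_mul_left q (Nat.mul_le_mul_right j hba)
  have c3 : q * a * j ≤ (x * i) * j := Nat.mul_le_mul_right j h_i
  have c4 : (x * i) * j ≤ M * i := by
    calc (x * i) * j = (x * j) * i := by ring
      _ ≤ M * i := Nat.mul_le_mul_right i h_iv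
  have c0 : M * i = q * z * i := by rw [hM]
  have e1 : q * z * i = q * (b * j) := le_antisymm c1 (by
    calc q * (b * j) ≤ q * a * j := c2
      _ ≤ (x * i) * j := c3
      _ ≤ M * i := c4
      _ = q * z * i := c0)
  have e2 : q * (b * j) = q * a * j := le_antisymm c2 (by
    calc q * a * j ≤ (x * i) * j := c3
      _ ≤ M * i := c4
      _ = q * z * i := c0
      _ ≤ q * (b * j) := c1)
  have e3 : q * a * j = (x * i) * j := le_antisymm c3 (by
    calc (x * i) * j ≤ M * i := c4
      _ = q * z * i := c0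
      _ ≤ q * (b * j) := c1
      _ ≤ q * a * j := c2)
  have e4 : (x * i) * j = M * i := le_antisymm c4 (by
    calc M * i = q * z * i := c0
      _ ≤ q * (b * j) := c1
      _ ≤ q * a * j := c2
      _ ≤ (x * i) * j := c3)
  have hxj : x * j = M := by
    have : (x * j) * i = M * i := by rw [← e4]; ring
    exact Nat.eq_of_mul_eq_mul_right hi this
  have hqa : q * a = x * i := Nat.eq_of_mul_eq_mul_right hj e3
  have hbeq : b = a := by
    have h5 : q * (b * j) = q * (a * j) := by rw [e2]; ring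
    have h6 : b * j = a * j := Nat.eq_of_mul_eq_mul_left hq h5
    exact Nat.eq_of_mul_eq_mul_right hj h6
  have hzi : z * i = b * j := by
    have h5 : q * (z * i) = q * (b * j) := by rw [← e1]; ring
    exact Nat.eq_of_mul_eq_mul_left hq h5
  -- consequences
  have hXset : ((X : Subgroup G) : Set G) = (Q : Set G) * (A : Set G) :=
    coe_sup_eq_mul_of_card_eq Q A hqa
  have hBset : ((B : Subgroup G) : Set G) = (Z : Set G) * ((Q ⊓ A : Subgroup G) : Set G) := by
    apply coe_sup_eq_mul_of_card_eq Z (Q ⊓ A)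
    rw [hZinf]
    exact hzi
  have hXCL : Cfsg.IsCentrallyLarge X := by
    rw [isCentrallyLarge_iff']
    refine ⟨?_, ?_⟩
    · show cdm X = M
      unfold cdm
      rw [hCX]; exact hxj
    · rw [hCX]
      exact inf_le_right.trans le_sup_right
  -- B is maximal abelian, hence self-centralizing
  have hBmax : B ∈ Cfsg.maxAbelianSubgroups G :=
    ⟨hBab, fun B' hB' => (hA.2 B' hB').trans (le_of_eq hbeq.symm)⟩
  have hCBB : Subgroup.centralizer (B : Set G) = B := maxAbelian_centralizer_eq hBmax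
  -- the key inclusion
  have key : ∀ y ∈ X ⊓ Subgroup.centralizer ((Q ⊓ A : Subgroup G) : Set G),
      y ∈ (Z : Set G) * (A : Set G) := by
    intro y hy
    obtain ⟨hyX, hyC⟩ := Subgroup.mem_inf.mp hy
    have hyX' : y ∈ ((X : Subgroup G) : Set G) := hyX
    rw [hXset] at hyX'
    obtain ⟨u, hu, v, hv, rfl⟩ := hyX'
    have hvC : v ∈ Subgroup.centralizer ((Q ⊓ A : Subgroup G) : Set G) := hCA_le (hAC hv)
    have huC : u ∈ Subgroup.centralizer ((Q ⊓ A : Subgroup G) : Set G) := by
      have : u = (u * v) * v⁻¹ := by group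
      rw [this]
      exact Subgroup.mul_mem _ hyC (Subgroup.inv_mem _ hvC)
    have huB : u ∈ B := by
      rw [← hCBB, hCB]
      exact Subgroup.mem_inf.mpr ⟨hQCZ hu, huC⟩
    have huB' : u ∈ ((B : Subgroup G) : Set G) := huB
    rw [hBset] at huB'
    obtain ⟨z₀, hz₀, a₀, ha₀, rfl⟩ := huB'
    refine ⟨z₀, hz₀, a₀ * v, A.mul_mem (Subgroup.mem_inf.mp ha₀).2 hv, ?_⟩
    simp [mul_assoc]
  have hsub : (Z : Set G) * (A : Set G) ⊆ ((Z ⊔ A : Subgroup G) : Set G) := mul_subset_coe_sup Z A
  have hZA_le : Z ⊔ A ≤ X ⊓ Subgroup.centralizer ((Q ⊓ A : Subgroup G) : Set G) := by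
    apply le_inf
    · exact sup_le (hZQ.trans le_sup_left) le_sup_right
    · exact sup_le (hZCQ.trans hCQ_le) (hAC.trans hCA_le)
  have h3 : X ⊓ Subgroup.centralizer ((Q ⊓ A : Subgroup G) : Set G) = Z ⊔ A := by
    apply le_antisymm _ hZA_le
    intro y hy
    exact hsub (key y hy)
  refine ⟨hXset, hXCL, h3, ?_⟩
  apply Set.Subset.antisymm _ hsub
  intro y hy
  exact key y (hZA_le hy)

/-- every abelian subgroup of largest order lies in the join of the centrally large subgroups -/
theorem maxAbelian_le_centrallyLargeJoin [Finite G] {A : Subgroup G}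
    (hA : A ∈ Cfsg.maxAbelianSubgroups G) : A ≤ Cfsg.centrallyLargeJoin G := by
  have hS := isCentrallyLarge_centrallyLargeJoin (G := G)
  have h1 := (cl_sup_maxAbelian _ A hS hA).2.1
  have h2 : Cfsg.centrallyLargeJoin G ⊔ A ≤ Cfsg.centrallyLargeJoin G := le_sSup h1
  exact le_sup_right.trans h2

/-- if `X` is centrally large and contains every abelian subgroup of largest order, then
`C(Z(J)) ≤ X` -/
theorem centralizer_centerThompson_le [Finite G] (X : Subgroup G) (hX : Cfsg.IsCentrallyLarge X)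
    (hAX : ∀ A ∈ Cfsg.maxAbelianSubgroups G, A ≤ X) :
    Subgroup.centralizer ((Cfsg.thompsonSubgroupA G ⊓
      Subgroup.centralizer (Cfsg.thompsonSubgroupA G : Set G) : Subgroup G) : Set G) ≤ X := by
  obtain ⟨hX1, hX2⟩ := (isCentrallyLarge_iff' X).mp hX
  obtain ⟨-, hCC⟩ := cd_centralizer _ cdm_le_maxCP X hX1
  obtain ⟨A, hA⟩ := exists_maxAbelian (G := G)
  have hJX : Cfsg.thompsonSubgroupA G ≤ X := sSup_le hAX
  have hAJ : A ≤ Cfsg.thompsonSubgroupA G := le_sSup hA
  have h1 : Subgroup.centralizer (X : Set G) ≤ Cfsg.thompsonSubgroupA G := by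
    have : Subgroup.centralizer (X : Set G) ≤ Subgroup.centralizer (A : Set G) :=
      Subgroup.centralizer_le (by exact_mod_cast hAX A hA)
    rw [maxAbelian_centralizer_eq hA] at this
    exact this.trans hAJ
  have h2 : Subgroup.centralizer (X : Set G) ≤
      Subgroup.centralizer (Cfsg.thompsonSubgroupA G : Set G) :=
    Subgroup.centralizer_le (by exact_mod_cast hJX)
  have h3 : Subgroup.centralizer (X : Set G) ≤ Cfsg.thompsonSubgroupA G ⊓
      Subgroup.centralizer (Cfsg.thompsonSubgroupA G : Set G) := le_inf h1 h2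
  calc Subgroup.centralizer ((Cfsg.thompsonSubgroupA G ⊓
        Subgroup.centralizer (Cfsg.thompsonSubgroupA G : Set G) : Subgroup G) : Set G)
      ≤ Subgroup.centralizer ((Subgroup.centralizer (X : Set G) : Subgroup G) : Set G) :=
        Subgroup.centralizer_le (by exact_mod_cast h3)
    _ = X := hCC

end Cfsg.Agent.Lib.Helper57
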