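import Mathlib.GroupTheory.Index
import Mathlib.GroupTheory.Coset.Card
import Mathlib.GroupTheory.Subgroup.Centralizer
import Mathlib.GroupTheory.GroupAction.Quotient
import Mathlib.Algebra.Group.Subgroup.Pointwise
import Mathlib.Data.Set.Card
import Mathlib.Order.ConditionallyCompleteLattice.Finset
import Mathlib.Tactic

set_option autoImplicit false

namespace Cfsg.Agent.Lib.Helper57

open scoped Pointwise

variable {G : Type*} [Group G]

theorem card_image_mk_eq_relIndex' (A B : Subgroup G) :
    Nat.card ((A : Set G).image (QuotientGroup.mk : G → G ⧸ B)) = B.relIndex A := by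
  have h1 : MulAction.stabilizer A ((1 : G) : G ⧸ B) = B.subgroupOf A := by
    ext a
    rw [MulAction.mem_stabilizer_iff, Subgroup.mem_subgroupOf]
    show (((a : G) * 1 : G) : G ⧸ B) = ((1 : G) : G ⧸ B) ↔ _
    rw [QuotientGroup.eq]
    simp
  have h2 : MulAction.orbit A ((1 : G) : G ⧸ B) =
      (A : Set G).image (QuotientGroup.mk : G → G ⧸ B) := by
    ext x
    constructor
    · rintro ⟨a, rfl⟩
      exact ⟨a, a.2, by show _ = (((a : G) * 1 : G) : G ⧸ B); simp⟩
    · rintro ⟨a, ha, rfl⟩
      exact ⟨⟨a, ha⟩, by show (((a : G) * 1 : G) : G ⧸ B) = _; simp⟩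
  rw [Subgroup.relIndex, ← h1, MulAction.index_stabilizer, h2]
  exact Nat.card_coe_set_eq _

/-- The product formula `|AB| |A ∩ B| = |A| |B|` for the product set of two subgroups. -/
theorem card_mul_set_mul_card_inf (A B : Subgroup G) :
    Nat.card ((A : Set G) * (B : Set G) : Set G) * Nat.card (A ⊓ B : Subgroup G) =
      Nat.card A * Nat.card B := by
  rw [Subgroup.card_mul_eq_card_subgroup_mul_card_quotient, card_image_mk_eq_relIndex']
  have h1 : Nat.card (A ⊓ B : Subgroup G) = Nat.card (B.subgroupOf A) := by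
    rw [inf_comm]
    exact (Nat.card_congr (Subgroup.subgroupOfEquivOfLe (inf_le_right : B ⊓ A ≤ A)).toEquiv).symm.trans
      (by rw [Subgroup.inf_subgroupOf_right])
  rw [h1, mul_assoc, mul_comm (B.relIndex A), Subgroup.relIndex, Subgroup.card_mul_index, mul_comm]

theorem mul_subset_coe_sup (A B : Subgroup G) :
    (A : Set G) * (B : Set G) ⊆ ((A ⊔ B : Subgroup G) : Set G) := by
  rintro _ ⟨a, ha, b, hb, rfl⟩
  exact Subgroup.mul_mem_sup ha hb

theorem card_mul_card_le_sup_inf [Finite G] (A B : Subgroup G) :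
    Nat.card A * Nat.card B ≤ Nat.card ↥(A ⊔ B) * Nat.card ↥(A ⊓ B) := by
  rw [← card_mul_set_mul_card_inf]
  apply Nat.mul_le_mul_right
  have h1 : Nat.card ↥(A ⊔ B) = ((A ⊔ B : Subgroup G) : Set G).ncard := Nat.card_coe_set_eq _
  rw [Nat.card_coe_set_eq, h1]
  exact Set.ncard_le_ncard (mul_subset_coe_sup A B) (Set.toFinite _)

theorem coe_sup_eq_mul_of_card_eq [Finite G] (A B : Subgroup G)
    (h : Nat.card A * Nat.card B = Nat.card ↥(A ⊔ B) * Nat.card ↥(A ⊓ B)) :
    ((A ⊔ B : Subgroup G) : Set G) = (A : Set G) * (B : Set G) := by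
  rw [← card_mul_set_mul_card_inf] at h
  have hpos : 0 < Nat.card ↥(A ⊓ B) := Nat.card_pos
  have h2 : Nat.card ((A : Set G) * (B : Set G) : Set G) = Nat.card ↥(A ⊔ B) :=
    Nat.eq_of_mul_eq_mul_right hpos h
  symm
  apply Set.eq_of_subset_of_ncard_le (mul_subset_coe_sup A B) _ (Set.toFinite _)
  rw [Nat.card_coe_set_eq] at h2
  rw [h2]
  exact le_of_eq (Nat.card_coe_set_eq _).symm

/-- The Chermak–Delgado measure. -/
noncomputable def cdm (A : Subgroup G) : ℕ :=
  Nat.card A * Nat.card ↥(Subgroup.centralizer (A : Set G))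

theorem cdm_pos [Finite G] (A : Subgroup G) : 0 < cdm A :=
  Nat.mul_pos Nat.card_pos Nat.card_pos

theorem centralizer_sup_eq (A B : Subgroup G) :
    Subgroup.centralizer ((A ⊔ B : Subgroup G) : Set G) =
      Subgroup.centralizer (A : Set G) ⊓ Subgroup.centralizer (B : Set G) := by
  apply le_antisymm
  · apply le_inf
    · exact Subgroup.centralizer_le (by exact_mod_cast (le_sup_left : A ≤ A ⊔ B))
    · exact Subgroup.centralizer_le (by exact_mod_cast (le_sup_right : B ≤ A ⊔ B))
  · intro x hx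
    obtain ⟨hxA, hxB⟩ := Subgroup.mem_inf.mp hx
    have hAB : A ⊔ B ≤ Subgroup.centralizer ({x} : Set G) := by
      apply sup_le
      · intro a ha
        rw [Subgroup.mem_centralizer_iff]
        intro y hy
        rw [Set.mem_singleton_iff] at hy
        subst hy
        exact (hxA a ha).symm
      · intro b hb
        rw [Subgroup.mem_centralizer_iff]
        intro y hy
        rw [Set.mem_singleton_iff] at hy
        subst hy
        exact (hxB b hb).symm
    rw [Subgroup.mem_centralizer_iff]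
    intro y hy
    have := hAB hy
    rw [Subgroup.mem_centralizer_iff] at this
    exact (this x rfl).symm

theorem sup_centralizer_le (A B : Subgroup G) :
    Subgroup.centralizer (A : Set G) ⊔ Subgroup.centralizer (B : Set G) ≤
      Subgroup.centralizer ((A ⊓ B : Subgroup G) : Set G) := by
  apply sup_le
  · exact Subgroup.centralizer_le (by exact_mod_cast (inf_le_left : A ⊓ B ≤ A))
  · exact Subgroup.centralizer_le (by exact_mod_cast (inf_le_right : A ⊓ B ≤ B))

theorem le_centralizer_centralizer' (A : Subgroup G) :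
    A ≤ Subgroup.centralizer ((Subgroup.centralizer (A : Set G) : Subgroup G) : Set G) := by
  intro a ha
  rw [Subgroup.mem_centralizer_iff]
  intro c hc
  exact (hc a ha).symm

theorem arith_L1 {x y M : ℕ} (hx : x ≤ M) (hy : y ≤ M) (h : M * M ≤ x * y) (hM : 0 < M) :
    x = M ∧ y = M := by
  constructor
  · by_contra hne
    have hlt : x < M := lt_of_le_of_ne hx hne
    have : x * y < M * M := by
      calc x * y ≤ x * M := Nat.mul_le_mul_left x hy
        _ < M * M := Nat.mul_lt_mul_of_pos_right hlt hM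
    omega
  · by_contra hne
    have hlt : y < M := lt_of_le_of_ne hy hne
    have : x * y < M * M := by
      calc x * y ≤ M * y := Nat.mul_le_mul_right y hx
        _ < M * M := Nat.mul_lt_mul_of_pos_left hlt hM
    omega

theorem arith_L2 {p p' q q' : ℕ} (hp : p ≤ p') (hq : q ≤ q') (h : p' * q' ≤ p * q)
    (hp0 : 0 < p) (hq0 : 0 < q') : p = p' ∧ q = q' := by
  constructor
  · by_contra hne
    have hlt : p < p' := lt_of_le_of_ne hp hne
    have : p * q < p' * q' := by
      calc p * q ≤ p * q' := Nat.mul_le_mul_left p hq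
        _ < p' * q' := Nat.mul_lt_mul_of_pos_right hlt hq0
    omega
  · by_contra hne
    have hlt : q < q' := lt_of_le_of_ne hq hne
    have : p * q < p' * q' := by
      calc p * q < p * q' := Nat.mul_lt_mul_of_pos_left hlt hp0
        _ ≤ p' * q' := Nat.mul_le_mul_right q' hp
    omega

/-- Main Chermak–Delgado lattice theorem. -/
theorem cd_main [Finite G] (M : ℕ) (hM : ∀ R : Subgroup G, cdm R ≤ M) (A B : Subgroup G)
    (hA : cdm A = M) (hB : cdm B = M) :
    cdm (A ⊔ B) = M ∧ cdm (A ⊓ B) = M ∧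
    ((A ⊔ B : Subgroup G) : Set G) = (A : Set G) * (B : Set G) ∧
    Subgroup.centralizer ((A ⊓ B : Subgroup G) : Set G) =
      Subgroup.centralizer (A : Set G) ⊔ Subgroup.centralizer (B : Set G) ∧
    ((Subgroup.centralizer (A : Set G) ⊔ Subgroup.centralizer (B : Set G) : Subgroup G) : Set G) =
      (Subgroup.centralizer (A : Set G) : Set G) * (Subgroup.centralizer (B : Set G) : Set G) := by
  set CA := Subgroup.centralizer (A : Set G) with hCA
  set CB := Subgroup.centralizer (B : Set G) with hCB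
  have hMpos : 0 < M := hA ▸ cdm_pos A
  have h1 := card_mul_card_le_sup_inf A B
  have h2 := card_mul_card_le_sup_inf CA CB
  have h3 : Nat.card ↥(CA ⊔ CB) ≤ Nat.card ↥(Subgroup.centralizer ((A ⊓ B : Subgroup G) : Set G)) :=
    Subgroup.card_le_of_le (sup_centralizer_le A B)
  have hs : cdm (A ⊔ B) ≤ M := hM _
  have hi : cdm (A ⊓ B) ≤ M := hM _
  have hcs : Subgroup.centralizer ((A ⊔ B : Subgroup G) : Set G) = CA ⊓ CB := centralizer_sup_eq A B
  unfold cdm at hs hi hA hB ⊢
  rw [hcs] at hs ⊢
  -- abbreviations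
  set a := Nat.card A
  set b := Nat.card B
  set ca := Nat.card ↥CA
  set cb := Nat.card ↥CB
  set s := Nat.card ↥(A ⊔ B)
  set i := Nat.card ↥(A ⊓ B)
  set d := Nat.card ↥(CA ⊔ CB)
  set cs := Nat.card ↥(CA ⊓ CB)
  set ci := Nat.card ↥(Subgroup.centralizer ((A ⊓ B : Subgroup G) : Set G))
  have hapos : 0 < a := Nat.card_pos
  have hbpos : 0 < b := Nat.card_pos
  have hcapos : 0 < ca := Nat.card_pos
  have hcbpos : 0 < cb := Nat.card_pos
  have hcspos : 0 < cs := Nat.card_pos
  have hcipos : 0 < ci := Nat.card_pos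
  have hq : ca * cb ≤ ci * cs := le_trans h2 (Nat.mul_le_mul_right cs h3)
  have hchain : M * M ≤ (s * cs) * (i * ci) := by
    calc M * M = (a * ca) * (b * cb) := by rw [hA, hB]
      _ = (a * b) * (ca * cb) := by ring
      _ ≤ (s * i) * (ci * cs) := Nat.mul_le_mul h1 hq
      _ = (s * cs) * (i * ci) := by ring
  obtain ⟨hX, hY⟩ := arith_L1 hs hi hchain hMpos
  have hprod : (s * i) * (ci * cs) ≤ (a * b) * (ca * cb) := by
    apply le_of_eq
    calc (s * i) * (ci * cs) = (s * cs) * (i * ci) := by ring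
      _ = M * M := by rw [hX, hY]
      _ = (a * ca) * (b * cb) := by rw [hA, hB]
      _ = (a * b) * (ca * cb) := by ring
  obtain ⟨hab, hcacb⟩ := arith_L2 h1 hq hprod (Nat.mul_pos hapos hbpos) (Nat.mul_pos hcipos hcspos)
  have hd : d = ci := by
    have h5 : ci * cs ≤ d * cs := hcacb ▸ h2
    have h6 : ci ≤ d := Nat.le_of_mul_le_mul_right h5 hcspos
    omega
  refine ⟨hX, hY, coe_sup_eq_mul_of_card_eq A B hab, ?_, ?_⟩
  · symm
    exact Subgroup.eq_of_le_of_card_ge (sup_centralizer_le A B) (le_of_eq hd.symm)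
  · apply coe_sup_eq_mul_of_card_eq CA CB
    show ca * cb = d * cs
    rw [hcacb, hd]

theorem cd_centralizer [Finite G] (M : ℕ) (hM : ∀ R : Subgroup G, cdm R ≤ M) (A : Subgroup G)
    (hA : cdm A = M) :
    cdm (Subgroup.centralizer (A : Set G)) = M ∧
    Subgroup.centralizer ((Subgroup.centralizer (A : Set G) : Subgroup G) : Set G) = A := by
  have h1 := hM (Subgroup.centralizer (A : Set G))
  have h2 : Nat.card A ≤
      Nat.card ↥(Subgroup.centralizer ((Subgroup.centralizer (A : Set G) : Subgroup G) : Set G)) :=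
    Subgroup.card_le_of_le (le_centralizer_centralizer' A)
  unfold cdm at h1 hA ⊢
  have hpos : 0 < Nat.card ↥(Subgroup.centralizer (A : Set G)) := Nat.card_pos
  have h3 : Nat.card ↥(Subgroup.centralizer (A : Set G)) *
      Nat.card ↥(Subgroup.centralizer ((Subgroup.centralizer (A : Set G) : Subgroup G) : Set G)) ≤
      Nat.card ↥(Subgroup.centralizer (A : Set G)) * Nat.card A := by
    rw [mul_comm _ (Nat.card A), hA]; exact h1
  have h4 := Nat.le_of_mul_le_mul_left h3 hpos
  have h5 : Nat.card ↥(Subgroup.centralizer ((Subgroup.centralizer (A : Set G) : Subgroup G) : Set G))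
      = Nat.card A := le_antisymm h4 h2
  refine ⟨?_, ?_⟩
  · rw [h5, mul_comm, hA]
  · symm
    exact Subgroup.eq_of_le_of_card_ge (le_centralizer_centralizer' A) (le_of_eq h5)

end Cfsg.Agent.Lib.Helper57
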