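import Cfsg.Agent.Lib.Helper57.KInfWC
import Cfsg.Agent.Lib.Helper01.PCore

/-!
The quadratic clause of Glauberman's K-infinity theorem (for the lower K-infinity subgroup):
`KQuad p` holds.  Every member of every star family is quadratic on every normal abelian
subgroup, and if the K-infinity subgroup of a Sylow subgroup is not normal then some family
member is not inside `O_p`.
-/

set_option autoImplicit false

namespace Cfsg.Agent.Lib.Helper57.KInfWC

open Cfsg Cfsg.Agent.Lib.Helper41 Cfsg.Agent.Lib.Helper01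

universe u

section fam

variable {P : Type*} [Group P]

theorem comm_self_eq_bot (V : Subgroup P) (hV : IsMulCommutative ↥V) : ⁅V, V⁆ = ⊥ := by
  rw [Subgroup.commutator_eq_bot_iff_le_centralizer]
  intro x hx
  rw [Subgroup.mem_centralizer_iff]
  intro y hy
  have := hV.is_comm.comm (⟨y, hy⟩ : V) ⟨x, hx⟩
  exact congrArg Subtype.val this

theorem quad_of_comm_le {V B : Subgroup P} (h : ⁅B, V⁆ ≤ B ⊓ Subgroup.centralizer (B : Set P)) :
    ⁅⁅V, B⁆, B⁆ = ⊥ := by
  rw [Subgroup.commutator_eq_bot_iff_le_centralizer, Subgroup.commutator_comm]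
  exact h.trans inf_le_right

theorem quad_of_mem_lower (V : Subgroup P) [hVn : V.Normal] (hV : IsMulCommutative ↥V) (n : ℕ)
    {B : Subgroup P} (hB : B ∈ kLowerStarFamily (kSeqOdd P n)) : ⁅⁅V, B⁆, B⁆ = ⊥ := by
  obtain ⟨-, -, hprop⟩ := hB
  apply quad_of_comm_le
  have hVV := comm_self_eq_bot V hV
  apply hprop V (normal_abelian_mem_classTwo V hV) (normal_abelian_le_kSeqOdd V hV n)
  · rw [Subgroup.normalizer_eq_top]
    exact le_top
  · rw [hVV]
    exact Subgroup.commutator_bot_right B
  · rw [eq_bot_iff, ← hVV]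
    exact Subgroup.commutator_mono (Subgroup.commutator_le_right _ _) le_rfl

theorem quad_of_mem_upper (V : Subgroup P) [hVn : V.Normal] (hV : IsMulCommutative ↥V) (n : ℕ)
    {B : Subgroup P} (hB : B ∈ kUpperStarFamily (kSeqEven P n)) : ⁅⁅V, B⁆, B⁆ = ⊥ := by
  apply quad_of_comm_le
  exact (Subgroup.commutator_mono le_rfl (normal_abelian_le_kSeqEven V hV n)).trans hB.2

end fam

theorem map_conj_eq_of_normal {X : Type*} [Group X] (N : Subgroup X) [hN : N.Normal] (g : X) :
    N.map (MulAut.conj g).toMonoidHom = N := by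
  ext y
  constructor
  · rintro ⟨z, hz, rfl⟩
    exact hN.conj_mem z hz g
  · intro hy
    refine ⟨g⁻¹ * y * g, ?_, ?_⟩
    · simpa using hN.conj_mem y hy g⁻¹
    · simp [mul_assoc]

theorem induced_normal_of_normal {X : Type u} [Group X] (N : Subgroup X) [hN : N.Normal] :
    (inducedFunctor kInfLower N).Normal := by
  constructor
  intro x hx g
  have h := induced_map (MulAut.conj g).toMonoidHom (MulAut.conj g).injective N
  rw [map_conj_eq_of_normal N g] at h
  rw [h]
  exact ⟨x, hx, rfl⟩

theorem zcore_normal {X : Type*} [Group X] (p : ℕ) :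
    (pCore p X ⊓ Subgroup.centralizer ((pCore p X : Subgroup X) : Set X)).Normal := by
  have hOn : (pCore p X).Normal := Cfsg.Agent.Lib.Helper01.pCore_normal (G := X) p
  constructor
  intro v hv s
  refine ⟨hOn.conj_mem v hv.1 s, ?_⟩
  show s * v * s⁻¹ ∈ Subgroup.centralizer ((pCore p X : Subgroup X) : Set X)
  have hvc : v ∈ Subgroup.centralizer ((pCore p X : Subgroup X) : Set X) := hv.2
  rw [Subgroup.mem_centralizer_iff] at hvc ⊢
  intro o ho
  have h1 := hvc (s⁻¹ * o * s) (by simpa using hOn.conj_mem o ho s⁻¹)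
  calc o * (s * v * s⁻¹) = s * ((s⁻¹ * o * s) * v) * s⁻¹ := by simp [mul_assoc]
    _ = s * (v * (s⁻¹ * o * s)) * s⁻¹ := by rw [h1]
    _ = s * v * s⁻¹ * o := by simp [mul_assoc]

theorem zcore_comm {X : Type*} [Group X] (p : ℕ) (S : Subgroup X) :
    IsMulCommutative
      ↥((pCore p X ⊓ Subgroup.centralizer ((pCore p X : Subgroup X) : Set X)).subgroupOf S) := by
  refine ⟨⟨?_⟩⟩
  rintro ⟨a, ha⟩ ⟨b, hb⟩
  apply Subtype.ext
  apply Subtype.ext
  have ha' := Subgroup.mem_subgroupOf.mp ha
  have hb' := Subgroup.mem_subgroupOf.mp hb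
  have hbc : (b : X) ∈ Subgroup.centralizer ((pCore p X : Subgroup X) : Set X) := hb'.2
  exact (Subgroup.mem_centralizer_iff.mp hbc (a : X) ha'.1)

/-- The last step: a family member outside `O_p` gives the element. -/
theorem finish {X : Type u} [Group X] {p : ℕ} (S : Subgroup X) (hOS : pCore p X ≤ S)
    {B : Subgroup ↥S}
    (hq : ⁅⁅(pCore p X ⊓ Subgroup.centralizer ((pCore p X : Subgroup X) : Set X)).subgroupOf S, B⁆,
      B⁆ = ⊥)
    (hBO : ¬ B ≤ (pCore p X).subgroupOf S) :
    ∃ g : X, g ∈ S ∧ g ∉ pCore p X ∧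
      ⁅⁅pCore p X ⊓ Subgroup.centralizer ((pCore p X : Subgroup X) : Set X),
        Subgroup.zpowers g⁆, Subgroup.zpowers g⁆ = ⊥ := by
  obtain ⟨b, hbB, hbO⟩ := SetLike.not_le_iff_exists.mp hBO
  refine ⟨(b : X), b.2, fun h => hbO (Subgroup.mem_subgroupOf.mpr h), ?_⟩
  have hVS : pCore p X ⊓ Subgroup.centralizer ((pCore p X : Subgroup X) : Set X) ≤ S :=
    inf_le_left.trans hOS
  have hz : Subgroup.zpowers (b : X) = (Subgroup.zpowers b).map S.subtype := by
    rw [MonoidHom.map_zpowers]
    rfl
  have hV : pCore p X ⊓ Subgroup.centralizer ((pCore p X : Subgroup X) : Set X) =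
      ((pCore p X ⊓ Subgroup.centralizer ((pCore p X : Subgroup X) : Set X)).subgroupOf S).map
        S.subtype := (Subgroup.map_subgroupOf_eq_of_le hVS).symm
  rw [hz, hV, ← Subgroup.map_commutator, ← Subgroup.map_commutator]
  have hb : Subgroup.zpowers b ≤ B := (Subgroup.zpowers_le).mpr hbB
  have : ⁅⁅(pCore p X ⊓ Subgroup.centralizer ((pCore p X : Subgroup X) : Set X)).subgroupOf S,
      Subgroup.zpowers b⁆, Subgroup.zpowers b⁆ = ⊥ := by
    rw [eq_bot_iff, ← hq]
    exact Subgroup.commutator_mono (Subgroup.commutator_mono le_rfl hb) hb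
  rw [this, Subgroup.map_bot]

/-- **The quadratic clause holds.** -/
theorem kquad_holds {p : ℕ} [Fact p.Prime] : KQuad.{u} p := by
  intro X _ _ S hnn
  have hOn : (pCore p X).Normal := Cfsg.Agent.Lib.Helper01.pCore_normal (G := X) p
  have hOS : pCore p X ≤ (S : Subgroup X) := Cfsg.Agent.Lib.Helper01.pCore_le_sylow S
  have hVn := zcore_normal (X := X) p
  have hV'n : ((pCore p X ⊓ Subgroup.centralizer ((pCore p X : Subgroup X) : Set X)).subgroupOf
      (S : Subgroup X)).Normal := hVn.subgroupOf _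
  have hV'c := zcore_comm (X := X) p (S : Subgroup X)
  by_cases hall : ∀ n : ℕ, kSeqEven ↥(S : Subgroup X) n ≤ (pCore p X).subgroupOf (S : Subgroup X) ∧
      kSeqOdd ↥(S : Subgroup X) (n + 1) ≤ (pCore p X).subgroupOf (S : Subgroup X)
  · exfalso
    apply hnn
    have h1 := (kInf_subgroup (Q := (pCore p X).subgroupOf (S : Subgroup X)) hall).1
    have hW : inducedFunctor kInfLower (S : Subgroup X) =
        inducedFunctor kInfLower (pCore p X) := by
      have e1 : inducedFunctor kInfLower (S : Subgroup X) =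
          (kInfLower ↥(S : Subgroup X)).map (S : Subgroup X).subtype := rfl
      have e2 : inducedFunctor kInfLower ((pCore p X).subgroupOf (S : Subgroup X)) =
          kInfLower ↥(S : Subgroup X) := h1
      rw [e1, ← e2, ← induced_map _ (S : Subgroup X).subtype_injective,
        Subgroup.map_subgroupOf_eq_of_le hOS]
    rw [hW]
    exact induced_normal_of_normal (pCore p X)
  · obtain ⟨n, hn⟩ := not_forall.mp hall
    rcases not_and_or.mp hn with h | h
    · have hex : ∃ B ∈ kLowerStarFamily (kSeqOdd ↥(S : Subgroup X) n),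
          ¬ B ≤ (pCore p X).subgroupOf (S : Subgroup X) := by
        by_contra hc
        apply h
        show sSup (kLowerStarFamily (kSeqOdd ↥(S : Subgroup X) n)) ≤ _
        apply sSup_le
        intro B hB
        by_contra hBO
        exact hc ⟨B, hB, hBO⟩
      obtain ⟨B, hB, hBO⟩ := hex
      exact finish (S : Subgroup X) hOS (quad_of_mem_lower _ hV'c n hB) hBO
    · have hex : ∃ B ∈ kUpperStarFamily (kSeqEven ↥(S : Subgroup X) n),
          ¬ B ≤ (pCore p X).subgroupOf (S : Subgroup X) := by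
        by_contra hc
        apply h
        show sSup (kUpperStarFamily (sSup (kLowerStarFamily (kSeqOdd ↥(S : Subgroup X) n)))) ≤ _
        apply sSup_le
        intro B hB
        by_contra hBO
        exact hc ⟨B, hB, hBO⟩
      obtain ⟨B, hB, hBO⟩ := hex
      exact finish (S : Subgroup X) hOS (quad_of_mem_upper _ hV'c n hB) hBO

end Cfsg.Agent.Lib.Helper57.KInfWC
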