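import Mathlib
import Cfsg.Agent.Lib.Helper23.SylowPerm

/-!
# K-S0496-720F3: the Sylow 2-subgroup `S = G_{{P,R}}` and its fusion
-/

set_option autoImplicit false

namespace Cfsg.Agent.Lib.Helper57.Small1092

open Subgroup MulAction

section Sign

variable {α : Type*} [Fintype α] [DecidableEq α]

/-- A permutation of order dividing four of ten points that swaps `a` and `b`, and whose square
fixes no other point, is odd. -/
theorem sign_eq_neg_one_of_pow_four (σ : Equiv.Perm α) (a b : α) (hab : a ≠ b)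
    (h4 : σ ^ 4 = 1) (hσa : σ a = b) (hσb : σ b = a)
    (hfix : ∀ x, (σ ^ 2) x = x → x = a ∨ x = b) (hcard : Fintype.card α = 10) :
    Equiv.Perm.sign σ = -1 := by
  have hcomm : Commute σ (Equiv.swap a b) := by
    have h1 := Equiv.swap_apply_apply σ a b
    rw [hσa, hσb, Equiv.swap_comm] at h1
    -- h1 : swap a b = σ * swap a b * σ⁻¹
    show σ * Equiv.swap a b = Equiv.swap a b * σ
    calc σ * Equiv.swap a b = (σ * Equiv.swap a b * σ⁻¹) * σ := by group
      _ = Equiv.swap a b * σ := by rw [← h1]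
  set τ : Equiv.Perm α := σ * Equiv.swap a b with hτ
  have hτ2 : τ ^ 2 = σ ^ 2 := by
    rw [hτ, hcomm.mul_pow, pow_two (Equiv.swap a b), Equiv.swap_mul_self, mul_one]
  have hτ4 : τ ^ 4 = 1 := by
    have : τ ^ 4 = (τ ^ 2) ^ 2 := by rw [← pow_mul]
    rw [this, hτ2, ← pow_mul]; exact h4
  have hτa : τ a = a := by
    rw [hτ, Equiv.Perm.mul_apply, Equiv.swap_apply_left, hσb]
  have hτb : τ b = b := by
    rw [hτ, Equiv.Perm.mul_apply, Equiv.swap_apply_right, hσa]
  have hτx : ∀ x, x ≠ a → x ≠ b → τ x ≠ x := by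
    intro x hxa hxb hx
    rw [hτ, Equiv.Perm.mul_apply, Equiv.swap_apply_of_ne_of_ne hxa hxb] at hx
    have : (σ ^ 2) x = x := by
      rw [pow_two, Equiv.Perm.mul_apply, hx, hx]
    rcases hfix x this with h | h
    · exact hxa h
    · exact hxb h
  have hsupp : τ.support = Finset.univ \ {a, b} := by
    ext x
    simp only [Equiv.Perm.mem_support, Finset.mem_sdiff, Finset.mem_univ, true_and,
      Finset.mem_insert, Finset.mem_singleton, not_or]
    constructor
    · intro hx
      refine ⟨?_, ?_⟩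
      · rintro rfl; exact hx hτa
      · rintro rfl; exact hx hτb
    · rintro ⟨h1, h2⟩
      exact hτx x h1 h2
  have hsuppcard : τ.support.card = 8 := by
    rw [hsupp, Finset.card_sdiff_of_subset (Finset.subset_univ _), Finset.card_univ, hcard,
      Finset.card_pair hab]
  have hall : ∀ n ∈ τ.cycleType, n = 4 := by
    intro n hn
    have h1 : n ∣ orderOf τ := Equiv.Perm.dvd_of_mem_cycleType hn
    have h3 : orderOf τ ∣ 4 := orderOf_dvd_of_pow_eq_one hτ4
    have h5 : 2 ≤ n := Equiv.Perm.two_le_of_mem_cycleType hn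
    have h6 : n ∣ 4 := h1.trans h3
    have h7 : n ≤ 4 := Nat.le_of_dvd (by norm_num) h6
    have h8 : n ≠ 2 := by
      rintro rfl
      obtain ⟨c, ρ, hcρ, hdisj, hcyc, hc2⟩ := Equiv.Perm.mem_cycleType_iff.mp hn
      have hc2' : c ^ 2 = 1 := by
        rw [← hc2, ← hcyc.orderOf]; exact pow_orderOf_eq_one c
      obtain ⟨x, hx⟩ : c.support.Nonempty := by
        rw [← Finset.card_pos, hc2]; norm_num
      rw [Equiv.Perm.mem_support] at hx
      have hρx : ρ x = x := (hdisj x).resolve_left hx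
      have hcx : c (c x) ≠ c x := fun h => hx (c.injective h)
      have hρcx : ρ (c x) = c x := (hdisj (c x)).resolve_left hcx
      have hτx1 : τ x = c x := by rw [hcρ, Equiv.Perm.mul_apply, hρx]
      have hτx2 : (τ ^ 2) x = x := by
        rw [pow_two, Equiv.Perm.mul_apply, hτx1, hcρ, Equiv.Perm.mul_apply, hρcx,
          ← Equiv.Perm.mul_apply, ← pow_two, hc2', Equiv.Perm.one_apply]
      rw [hτ2] at hτx2
      have hτne : τ x ≠ x := by rw [hτx1]; exact hx
      rcases hfix x hτx2 with h | h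
      · rw [h] at hτne; exact hτne hτa
      · rw [h] at hτne; exact hτne hτb
    interval_cases n
    · exact absurd rfl h8
    · norm_num at h6
    · rfl
  have hrep : τ.cycleType = Multiset.replicate (Multiset.card τ.cycleType) 4 :=
    Multiset.eq_replicate.mpr ⟨rfl, hall⟩
  set m := Multiset.card τ.cycleType with hm
  have hsum : τ.cycleType.sum = 4 * m := by
    rw [hrep, Multiset.sum_replicate, smul_eq_mul, mul_comm]
  have hm2 : m = 2 := by
    have := Equiv.Perm.sum_cycleType τ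
    rw [hsum, hsuppcard] at this
    omega
  have hsτ : Equiv.Perm.sign τ = 1 := by
    rw [Equiv.Perm.sign_of_cycleType, hsum, ← hm, hm2]
    decide
  have hσ : σ = τ * Equiv.swap a b := by
    rw [hτ, mul_assoc, Equiv.swap_mul_self, mul_one]
  rw [hσ, map_mul, hsτ, Equiv.Perm.sign_swap hab, one_mul]

end Sign

section Main

variable {G : Type*} [Group G]

/-- the setwise stabilizer of the pair `{P, R}` of Sylow subgroups -/
def pairStab {p : ℕ} (P R : Sylow p G) : Subgroup G where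
  carrier := {g | (g • P = P ∧ g • R = R) ∨ (g • P = R ∧ g • R = P)}
  mul_mem' := by
    rintro a b (⟨ha1, ha2⟩ | ⟨ha1, ha2⟩) (⟨hb1, hb2⟩ | ⟨hb1, hb2⟩)
    · left; exact ⟨by rw [mul_smul, hb1, ha1], by rw [mul_smul, hb2, ha2]⟩
    · right; exact ⟨by rw [mul_smul, hb1, ha2], by rw [mul_smul, hb2, ha1]⟩
    · right; exact ⟨by rw [mul_smul, hb1, ha1], by rw [mul_smul, hb2, ha2]⟩
    · left; exact ⟨by rw [mul_smul, hb1, ha2], by rw [mul_smul, hb2, ha1]⟩
  one_mem' := Or.inl ⟨one_smul _ _, one_smul _ _⟩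
  inv_mem' := by
    rintro a (⟨h1, h2⟩ | ⟨h1, h2⟩)
    · left; exact ⟨by rw [inv_smul_eq_iff, h1], by rw [inv_smul_eq_iff, h2]⟩
    · right; exact ⟨by rw [inv_smul_eq_iff, h2], by rw [inv_smul_eq_iff, h1]⟩

theorem mem_pairStab {p : ℕ} (P R : Sylow p G) (g : G) :
    g ∈ pairStab P R ↔ (g • P = P ∧ g • R = R) ∨ (g • P = R ∧ g • R = P) := Iff.rfl

/-- K-S0496-720F3.  The Sylow 2-subgroup `S = G_{{P,R}}` and its fusion. -/
theorem exists_sylow_two_720 {G : Type*} [Group G] [Finite G] [IsSimpleGroup G] (hG : ¬ IsMulCommutative G)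
    (h : Nat.card G = 720) (h3 : Nat.card (Sylow 3 G) = 10)
    (P R : Sylow 3 G) (hPR : P ≠ R)
    (hQ : Nat.card ↥(normalizer ((P : Subgroup G) : Set G) ⊓ normalizer ((R : Subgroup G) : Set G)) = 8)
    (htrans : ∀ P' R' T : Sylow 3 G, P' ≠ R' → T ≠ P' → ∃ y ∈ (P' : Subgroup G), y • R' = T)
    (hsemi : ∀ g ∈ normalizer ((P : Subgroup G) : Set G) ⊓ normalizer ((R : Subgroup G) : Set G), g ≠ 1 →
      ∀ T : Sylow 3 G, g • T = T → T = P ∨ T = R) :
    ∃ S : Sylow 2 G, Nat.card (S : Subgroup G) = 16 ∧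
      normalizer ((P : Subgroup G) : Set G) ⊓ normalizer ((R : Subgroup G) : Set G) ≤ (S : Subgroup G) ∧
      (∀ x ∈ normalizer ((P : Subgroup G) : Set G) ⊓ normalizer ((R : Subgroup G) : Set G), x ≠ 1 →
        ∀ g : G, g * x * g⁻¹ ∈ normalizer ((P : Subgroup G) : Set G) ⊓ normalizer ((R : Subgroup G) : Set G) →
          g ∈ (S : Subgroup G)) ∧
      ∀ y ∈ (S : Subgroup G), y ∉ normalizer ((P : Subgroup G) : Set G) ⊓ normalizer ((R : Subgroup G) : Set G) →
        orderOf y ≠ 4 := by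
  classical
  have hfin : Fintype (Sylow 3 G) := Fintype.ofFinite _
  set Q : Subgroup G :=
    normalizer ((P : Subgroup G) : Set G) ⊓ normalizer ((R : Subgroup G) : Set G) with hQdef
  have hQmem : ∀ g : G, g ∈ Q ↔ g • P = P ∧ g • R = R := by
    intro g
    rw [hQdef, Subgroup.mem_inf]
    constructor
    · rintro ⟨h1, h2⟩
      exact ⟨Sylow.smul_eq_iff_mem_normalizer.mpr h1, Sylow.smul_eq_iff_mem_normalizer.mpr h2⟩
    · rintro ⟨h1, h2⟩
      exact ⟨Sylow.smul_eq_iff_mem_normalizer.mp h1, Sylow.smul_eq_iff_mem_normalizer.mp h2⟩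
  have hQle : Q ≤ pairStab P R := by
    intro g hg
    exact Or.inl ((hQmem g).mp hg)
  -- an element swapping `P` and `R`
  obtain ⟨g₀, hg₀P, hg₀R⟩ : ∃ g₀ : G, g₀ • P = R ∧ g₀ • R = P := by
    obtain ⟨a, ha⟩ := MulAction.exists_smul_eq G P R
    have hT : R ≠ a • R := by
      intro hh
      apply hPR
      have : a • P = a • R := by rw [ha, ← hh]
      exact smul_left_cancel a this
    obtain ⟨y, hyR, hy⟩ := htrans R (a • R) P hT hPR
    have hyR' : y • R = R := Sylow.smul_eq_iff_mem_normalizer.mpr (Subgroup.le_normalizer hyR)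
    exact ⟨y * a, by rw [mul_smul, ha, hyR'], by rw [mul_smul, hy]⟩
  have hg₀S : g₀ ∈ pairStab P R := Or.inr ⟨hg₀P, hg₀R⟩
  -- the index of `Q` in the pair stabilizer is two
  have hidx : (Q.subgroupOf (pairStab P R)).index = 2 := by
    rw [Subgroup.index_eq_two_iff]
    refine ⟨⟨g₀, hg₀S⟩, ?_⟩
    rintro ⟨b, hb⟩
    rw [Subgroup.mem_subgroupOf, Subgroup.mem_subgroupOf]
    show Xor (b * g₀ ∈ Q) (b ∈ Q)
    rcases hb with ⟨h1, h2⟩ | ⟨h1, h2⟩
    · right
      refine ⟨(hQmem b).mpr ⟨h1, h2⟩, ?_⟩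
      intro hh
      have := ((hQmem _).mp hh).1
      rw [mul_smul, hg₀P, h2] at this
      exact hPR this.symm
    · left
      refine ⟨(hQmem _).mpr ⟨by rw [mul_smul, hg₀P, h2], by rw [mul_smul, hg₀R, h1]⟩, ?_⟩
      intro hh
      have := ((hQmem _).mp hh).1
      rw [h1] at this
      exact hPR this.symm
  have hcardS : Nat.card ↥(pairStab P R) = 16 := by
    have h1 := (Q.subgroupOf (pairStab P R)).card_mul_index
    rw [hidx, Nat.card_congr (Subgroup.subgroupOfEquivOfLe hQle).toEquiv, hQ] at h1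
    omega
  have hfac : (720 : ℕ).factorization 2 = 4 := by
    have h720 : (720 : ℕ) = 2 ^ 4 * 45 := by norm_num
    rw [h720, Nat.factorization_mul (by norm_num) (by norm_num),
      Nat.Prime.factorization_pow Nat.prime_two]
    simp [Nat.factorization_eq_zero_of_not_dvd]
  have hcardS' : Nat.card ↥(pairStab P R) = 2 ^ (Nat.card G).factorization 2 := by
    rw [hcardS, h, hfac]; norm_num
  refine ⟨Sylow.ofCard (pairStab P R) hcardS', ?_, ?_, ?_, ?_⟩
  · rw [Sylow.coe_ofCard]; exact hcardS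
  · rw [Sylow.coe_ofCard]; exact hQle
  · -- fusion
    intro x hx hx1 g hgx
    rw [Sylow.coe_ofCard]
    have hx' : g * x * g⁻¹ ≠ 1 := by
      intro hh
      apply hx1
      have : x = g⁻¹ * (g * x * g⁻¹) * g := by group
      rw [this, hh]; group
    obtain ⟨hxP, hxR⟩ := (hQmem x).mp hx
    have hfixP : (g * x * g⁻¹) • (g • P) = g • P := by
      rw [← mul_smul, inv_mul_cancel_right, mul_smul, hxP]
    have hfixR : (g * x * g⁻¹) • (g • R) = g • R := by
      rw [← mul_smul, inv_mul_cancel_right, mul_smul, hxR]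
    have hne : g • P ≠ g • R := fun hh => hPR (smul_left_cancel g hh)
    rcases hsemi _ hgx hx' _ hfixP with h1 | h1 <;> rcases hsemi _ hgx hx' _ hfixR with h2 | h2
    · exact absurd (h1.trans h2.symm) hne
    · exact Or.inl ⟨h1, h2⟩
    · exact Or.inr ⟨h1, h2⟩
    · exact absurd (h1.trans h2.symm) hne
  · -- elements of order four
    intro y hy hyQ hy4
    rw [Sylow.coe_ofCard] at hy
    rcases hy with ⟨h1, h2⟩ | ⟨h1, h2⟩
    · exact hyQ ((hQmem y).mpr ⟨h1, h2⟩)
    have hy2Q : y ^ 2 ∈ Q := by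
      rw [hQmem, pow_two, mul_smul, mul_smul, h1, h2, h1]
      exact ⟨rfl, rfl⟩
    have hy2 : y ^ 2 ≠ 1 := pow_ne_one_of_lt_orderOf (by norm_num) (by rw [hy4]; norm_num)
    have hy4' : y ^ 4 = 1 := by rw [← hy4]; exact pow_orderOf_eq_one y
    have hcard10 : Fintype.card (Sylow 3 G) = 10 := by
      rw [← Nat.card_eq_fintype_card]; exact h3
    have hpow : ∀ (k : ℕ) (T : Sylow 3 G),
        ((MulAction.toPerm y : Equiv.Perm (Sylow 3 G)) ^ k) T = y ^ k • T := by
      intro k T
      have : (MulAction.toPerm y : Equiv.Perm (Sylow 3 G)) ^ k =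
          MulAction.toPermHom G (Sylow 3 G) (y ^ k) := by
        rw [map_pow]; rfl
      rw [this]; rfl
    have hs := sign_eq_neg_one_of_pow_four (MulAction.toPerm y : Equiv.Perm (Sylow 3 G)) P R hPR
      (by
        ext T
        rw [hpow, hy4', one_smul, Equiv.Perm.one_apply])
      h1 h2
      (by
        intro T hT
        rw [hpow] at hT
        exact hsemi _ hy2Q hy2 T hT)
      hcard10
    have hs1 := Cfsg.Agent.Lib.Helper23.SylowPerm.sign_toPerm_eq_one 3
      (by rw [h]; norm_num : 2 < Nat.card G) y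
    rw [hs1] at hs
    exact absurd hs (by decide)

end Main

end Cfsg.Agent.Lib.Helper57.Small1092
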