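import Mathlib
import Cfsg.Prelude.Def_GeometricClasses
import Cfsg.Agent.Lib.Helper87.SU3Defs

/-!
# K-SU3-C1: the two descriptions of the 630 vectors of `3.A_7 < SU_3(5)` agree
-/

set_option autoImplicit false

namespace Cfsg.Agent.Lib.Helper57.SU3K

open Cfsg Cfsg.Geo Matrix Cfsg.Agent.Lib.Helper87.SU3

/-- the field with 25 elements, `t ^ 2 = 2` -/
abbrev F25 := QuadraticAlgebra (ZMod 5) 2 0

instance f25_prime : Fact (Nat.Prime 5) := ⟨by norm_num⟩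

instance f25_fact : Fact (∀ r : ZMod 5, r ^ 2 ≠ (2 : ZMod 5) + 0 * r) := ⟨by decide⟩

instance f25_fintype : Fintype F25 :=
  Fintype.ofEquiv (ZMod 5 × ZMod 5) (QuadraticAlgebra.equivProd (2 : ZMod 5) 0).symm

theorem f25_card : Fintype.card F25 = 25 := by
  rw [Fintype.card_congr (QuadraticAlgebra.equivProd (2 : ZMod 5) 0), Fintype.card_prod, ZMod.card]

set_option maxRecDepth 100000 in
set_option maxHeartbeats 40000000 in
theorem dec25 : ∀ a b c : F25, a ^ 6 + b ^ 6 + c ^ 6 = 1 →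
    (((a * b * c = 0 ∧ (a ^ 6 * b ^ 6 + b ^ 6 * c ^ 6 + c ^ 6 * a ^ 6) *
        ((a ^ 6 * b ^ 6 + b ^ 6 * c ^ 6 + c ^ 6 * a ^ 6) + 1) = 0) ∨
      (a * b * c ≠ 0 ∧ ((a * b * c) ^ 2 + 1) * ((a * b * c) ^ 2 - 2) = 0)) ↔
    ((a * b ^ 5 = b * a ^ 5 ∧ a * c ^ 5 = c * a ^ 5 ∧ b * c ^ 5 = c * b ^ 5) ∨
      a ^ 2 + b ^ 2 + c ^ 2 = 0 ∨ (a ^ 2 + b ^ 2 + c ^ 2) ^ 3 = 2)) := by
  decide +kernel

variable {F : Type*} [Field F] [Fintype F]

/-- 577801 K-SU3-C1. -/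
theorem inX5_iff_inX5' (hF : Fintype.card F = 25) (v : Fin 3 → F) : InX5 v ↔ InX5' v := by
  classical
  have hc : Fintype.card F = Fintype.card F25 := by rw [hF, f25_card]
  obtain ⟨e⟩ : Nonempty (F ≃+* F25) := ⟨FiniteField.ringEquivOfCardEq hc⟩
  have key := dec25 (e (v 0)) (e (v 1)) (e (v 2))
  have hz : ∀ x y : F, x = y ↔ e x = e y := fun x y => e.injective.eq_iff.symm
  have hreal : (∀ i j : Fin 3, e (v i) * e (v j) ^ 5 = e (v j) * e (v i) ^ 5) ↔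
      (e (v 0) * e (v 1) ^ 5 = e (v 1) * e (v 0) ^ 5 ∧ e (v 0) * e (v 2) ^ 5 = e (v 2) * e (v 0) ^ 5 ∧
        e (v 1) * e (v 2) ^ 5 = e (v 2) * e (v 1) ^ 5) := by
    constructor
    · intro h; exact ⟨h 0 1, h 0 2, h 1 2⟩
    · rintro ⟨h1, h2, h3⟩ i j
      have h3' : ∀ i : Fin 3, i = 0 ∨ i = 1 ∨ i = 2 := by decide
      rcases h3' i with rfl | rfl | rfl <;> rcases h3' j with rfl | rfl | rfl
      · rfl
      · exact h1
      · exact h2
      · exact h1.symm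
      · rfl
      · exact h3
      · exact h2.symm
      · exact h3.symm
      · rfl
  unfold InX5 InX5' nrm sg2 prd bet
  simp only [hz, map_add, map_mul, map_pow, map_one, map_zero, map_sub, map_ofNat, Nat.reduceAdd,
    ne_eq, hreal]
  constructor
  · rintro ⟨h1, h2⟩
    exact ⟨h1, (key h1).mp h2⟩
  · rintro ⟨h1, h2⟩
    exact ⟨h1, (key h1).mpr h2⟩

end Cfsg.Agent.Lib.Helper57.SU3K
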