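import Cfsg.Agent.Lib.Helper64.StBDefs

/-!
# K-S2311-A3: every element of `N` is `a * d * b` with `d` `(J,K)`-reduced
-/

set_option autoImplicit false

namespace Cfsg.Agent.Lib.Helper57.StB

open Cfsg Cfsg.Agent.Lib.Helper08 Cfsg.Agent.Lib.Helper64.StB

variable {G : Type*} [Group G] (P : Cfsg.BNPair G)

theorem eqv_inv {n m : G} (hn : n ∈ P.N) (hm : m ∈ P.N) (h : Eqv P n m) : Eqv P n⁻¹ m⁻¹ := by
  have h1 : n⁻¹ * m ∈ P.B := h
  have h2 : n⁻¹ * m ∈ P.N := P.N.mul_mem (P.N.inv_mem hn) hm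
  have h3 := conj_mem_B P hn (P.B.inv_mem h1) (P.N.inv_mem h2)
  have e : n * (n⁻¹ * m)⁻¹ * n⁻¹ = n⁻¹⁻¹ * m⁻¹ := by group
  rw [e] at h3
  exact h3

theorem eqv_reverse_prod : ∀ l : List G, (∀ s ∈ l, s ∈ P.S) →
    Eqv P l.reverse.prod (l.prod)⁻¹ := by
  intro l
  induction l with
  | nil => intro _; simp [Eqv_refl]
  | cons s l ih =>
    intro hl
    have hs : s ∈ P.S := hl s (List.mem_cons_self)
    have hl' : ∀ a ∈ l, a ∈ P.S := fun a ha => hl a (List.mem_cons_of_mem _ ha)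
    have hrev : ∀ a ∈ l.reverse, a ∈ P.S := fun a ha => hl' a (List.mem_reverse.mp ha)
    have h1 := ih hl'
    rw [List.reverse_cons, List.prod_append, List.prod_singleton, List.prod_cons, mul_inv_rev]
    have h2 : Eqv P (l.reverse.prod * s) (l.prod⁻¹ * s) :=
      Eqv_mul_right P (prod_mem_N P hrev) (P.N.inv_mem (prod_mem_N P hl')) (P.subset hs) h1
    have h3 : Eqv P (l.prod⁻¹ * s) (l.prod⁻¹ * s⁻¹) :=
      Eqv_mul_left P _ (Eqv_symm P (Eqv_inv_S P hs))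
    exact Eqv_trans P h2 h3

theorem len_inv_le {n : G} (hn : n ∈ P.N) : len P n⁻¹ ≤ len P n := by
  obtain ⟨l, hl, hw⟩ := exists_word_len P hn
  have h1 : Eqv P l.reverse.prod n⁻¹ :=
    Eqv_trans P (eqv_reverse_prod P l hw.1) (eqv_inv P (prod_mem_N P hw.1) hn hw.2)
  have h2 : IsWord P l.reverse n⁻¹ :=
    ⟨fun a ha => hw.1 a (List.mem_reverse.mp ha), h1⟩
  have h3 := len_le P h2
  rw [List.length_reverse, hl] at h3
  exact h3

theorem len_inv' {n : G} (hn : n ∈ P.N) : len P n⁻¹ = len P n := by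
  apply le_antisymm (len_inv_le P hn)
  have := len_inv_le P (P.N.inv_mem hn)
  rwa [inv_inv] at this

theorem len_mul_S_ne' {t n : G} (ht : t ∈ P.S) (hn : n ∈ P.N) : len P (n * t) ≠ len P n := by
  have hnt : n * t ∈ P.N := P.N.mul_mem hn (P.subset ht)
  have hn' : n⁻¹ ∈ P.N := P.N.inv_mem hn
  have h1 : len P (n * t) = len P (t * n⁻¹) := by
    rw [← len_inv' P hnt, mul_inv_rev]
    exact len_congr P (Eqv_inv_mul P ht hn')
  rw [h1, ← len_inv' P hn]
  exact len_S_mul_ne P ht hn'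

/-- K-A3. -/
theorem exists_red {J K : Set G} (hJ : J ⊆ P.S) (hK : K ⊆ P.S) {n : G} (hn : n ∈ P.N) :
    ∃ a ∈ Subgroup.closure J, ∃ b ∈ Subgroup.closure K, ∃ d, RedJK P J K d ∧ Eqv P n (a * d * b) := by
  classical
  have hex : ∃ k : ℕ, ∃ a ∈ Subgroup.closure J, ∃ b ∈ Subgroup.closure K, ∃ d ∈ P.N,
      len P d = k ∧ Eqv P n (a * d * b) :=
    ⟨len P n, 1, Subgroup.one_mem _, 1, Subgroup.one_mem _, n, hn, rfl, by simp [Eqv_refl]⟩
  obtain ⟨a, ha, b, hb, d, hd, hk, hE⟩ := Nat.find_spec hex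
  have hmin : ∀ a' ∈ Subgroup.closure J, ∀ b' ∈ Subgroup.closure K, ∀ d' ∈ P.N,
      Eqv P n (a' * d' * b') → len P d ≤ len P d' := by
    intro a' ha' b' hb' d' hd' hE'
    rw [hk]
    exact Nat.find_min' hex ⟨a', ha', b', hb', d', hd', rfl, hE'⟩
  refine ⟨a, ha, b, hb, d, ⟨hd, ?_, ?_⟩, hE⟩
  · intro s hs
    have hsS : s ∈ P.S := hJ hs
    have hsJ : s ∈ Subgroup.closure J := Subgroup.subset_closure hs
    have h1 : len P d ≤ len P (s * d) := by
      apply hmin (a * s⁻¹) (Subgroup.mul_mem _ ha (Subgroup.inv_mem _ hsJ)) b hb (s * d)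
        (P.N.mul_mem (P.subset hsS) hd)
      have e : a * s⁻¹ * (s * d) * b = a * d * b := by group
      rw [e]; exact hE
    exact lt_of_le_of_ne h1 (len_S_mul_ne P hsS hd).symm
  · intro t ht
    have htS : t ∈ P.S := hK ht
    have htK : t ∈ Subgroup.closure K := Subgroup.subset_closure ht
    have h1 : len P d ≤ len P (d * t) := by
      apply hmin a ha (t⁻¹ * b) (Subgroup.mul_mem _ (Subgroup.inv_mem _ htK) hb) (d * t)
        (P.N.mul_mem hd (P.subset htS))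
      have e : a * (d * t) * (t⁻¹ * b) = a * d * b := by group
      rw [e]; exact hE
    exact lt_of_le_of_ne h1 (len_mul_S_ne' P htS hd).symm

end Cfsg.Agent.Lib.Helper57.StB
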