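import Mathlib
import Cfsg.Prelude.Def_HallClasses
import Cfsg.Agent.Lib.Helper38.HallAlt.Defs

/-!
# K-HA-G3 : a Hall `π`-subgroup of `Alt(α)` contains a `p`-cycle for each odd prime `p ∈ π`, `p ≤ |α|`
-/

set_option autoImplicit false
open Cfsg
open scoped Pointwise

namespace Cfsg.Agent.Lib.Helper57.HallAlt
open Cfsg.Agent.Lib.Helper38.HallAlt

/-- **K-HA-G3** (253802). -/
theorem alt_exists_cycle_mem (π : Set ℕ) {α : Type} [Finite α] (H : Subgroup (Equiv.Perm α))
    (hH : AltHall π H) (p : ℕ) (hp : p.Prime) (hp2 : p ≠ 2) (hpπ : p ∈ π) (hpn : p ≤ Nat.card α) :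
    ∃ g ∈ H, g.IsCycle ∧ {x | g x ≠ x}.ncard = p := by
  classical
  have : Fintype α := Fintype.ofFinite α
  have hpF : Fact p.Prime := ⟨hp⟩
  have hnt : Nontrivial α := by
    rw [← Fintype.one_lt_card_iff_nontrivial, ← Nat.card_eq_fintype_card]
    exact lt_of_lt_of_le hp.one_lt hpn
  -- the index of `H`
  have hidx : ¬ p ∣ H.index := by
    have hA : (altSub α).index = 2 := by
      rw [altSub_eq]; exact alternatingGroup.index_eq_two
    rw [← Subgroup.relIndex_mul_index hH.1, hA]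
    intro hdvd
    rcases (Nat.Prime.dvd_mul hp).mp hdvd with h | h
    · exact hH.2.2 p hp hpπ h
    · exact hp2 ((Nat.prime_dvd_prime_iff_eq hp Nat.prime_two).mp h)
  -- a `p`-cycle
  obtain ⟨c, hc⟩ : ∃ c : Equiv.Perm α, c.cycleType = {p} := by
    rw [Equiv.Perm.exists_with_cycleType_iff]
    refine ⟨?_, ?_⟩
    · rw [Multiset.sum_singleton, ← Nat.card_eq_fintype_card]; exact hpn
    · intro a ha
      rw [Multiset.mem_singleton] at ha
      rw [ha]; exact hp.two_le
  have hcyc : c.IsCycle := by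
    rw [← Equiv.Perm.card_cycleType_eq_one, hc, Multiset.card_singleton]
  have hsupp : c.support.card = p := by
    rw [← Equiv.Perm.sum_cycleType, hc, Multiset.sum_singleton]
  have hord : orderOf c = p := by
    rw [← Equiv.Perm.lcm_cycleType, hc, Multiset.lcm_singleton, normalize_eq]
  -- `⟨c⟩` lies in a Sylow `p`-subgroup
  have hcp : IsPGroup p (Subgroup.zpowers c) := by
    apply IsPGroup.of_card (n := 1)
    rw [Nat.card_zpowers, hord, pow_one]
  obtain ⟨P, hP⟩ := hcp.exists_le_sylow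
  -- a Sylow `p`-subgroup of `H` is Sylow in `Sym α`
  let Q : Sylow p H := default
  have hQp : IsPGroup p ((Q : Subgroup H).map H.subtype) := Q.isPGroup'.map _
  have hQi : ¬ p ∣ ((Q : Subgroup H).map H.subtype).index := by
    rw [Subgroup.index_map_subtype]
    intro hdvd
    rcases (Nat.Prime.dvd_mul hp).mp hdvd with h | h
    · exact Q.not_dvd_index h
    · exact hidx h
  let Q' : Sylow p (Equiv.Perm α) := hQp.toSylow hQi
  obtain ⟨σ, hσ⟩ := MulAction.exists_smul_eq (Equiv.Perm α) P Q'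
  have hmem : σ * c * σ⁻¹ ∈ (Q' : Subgroup (Equiv.Perm α)) := by
    rw [← hσ, Sylow.smul_def, Sylow.pointwise_smul_def]
    have := Subgroup.smul_mem_pointwise_smul c (MulAut.conj σ) (P : Subgroup (Equiv.Perm α))
      (hP (Subgroup.mem_zpowers c))
    rwa [MulAut.smul_def, MulAut.conj_apply] at this
  have hmemH : σ * c * σ⁻¹ ∈ H := by
    have h1 : (Q' : Subgroup (Equiv.Perm α)) = (Q : Subgroup H).map H.subtype := rfl
    rw [h1] at hmem
    exact Subgroup.map_subtype_le _ hmem
  refine ⟨σ * c * σ⁻¹, hmemH, hcyc.conj, ?_⟩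
  have h2 : {x | (σ * c * σ⁻¹) x ≠ x} = ((σ * c * σ⁻¹).support : Set α) := by
    ext x
    rw [Finset.mem_coe, Equiv.Perm.mem_support]; rfl
  rw [h2, Set.ncard_coe_finset, Equiv.Perm.card_support_conj, hsupp]

end Cfsg.Agent.Lib.Helper57.HallAlt
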