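import Cfsg.Agent.Lib.Helper38.OhP.Defs
import Cfsg.Agent.Lib.Helper98.Os3

/-!
# K-OhP LEAF FC0 (keystone 597409, architect helper38): the shape of an isometry of odd prime order

`exists_shape_of` is LEAF FC0 with the instance of LEAF S1 (`type_of_le_V1_q` for `U = V1 r y`) taken as the
explicit hypothesis `S1`.
-/

set_option autoImplicit false
set_option linter.unusedVariables false

namespace Cfsg.Agent.Lib.Helper57.OhP

open Module Cfsg.Agent.Lib.Helper98.Elus Cfsg.Agent.Lib.Helper98.Sy Cfsg.Agent.Lib.Helper38.OhP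

universe u
variable {F : Type u} [Field F] {V : Type u} [AddCommGroup V] [Module F V]

theorem inv_top_fc0 (y : V →ₗ[F] V) : Inv y (⊤ : Submodule F V) := fun _ _ => Submodule.mem_top

/-- LEAF FC0 with LEAF S1 for `U = V1 r y` as a hypothesis. -/
theorem exists_shape_of [Fintype F] [FiniteDimensional F V] (Q : QuadraticForm F V)
    (hV : NonDeg (pB Q) ⊤) (hVp : PlusQ Q ⊤) (p f : ℕ) [Fact p.Prime] (hF : Fintype.card F = p ^ f)
    (r : ℕ) [Fact r.Prime] (hpr : p ≠ r) (hr2 : r ≠ 2) (hrF : (r : F) ≠ 0) (y : V →ₗ[F] V)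
    (hy : y ^ r = 1) (hy1 : y ≠ 1) (hiso : QIso Q y)
    (i c : ℕ) (hi : i = orderOf ((Fintype.card F : ℕ) : ZMod r)) (hc : c = cOf i)
    (d : ℕ) (hdim : finrank F V = 2 * d)
    (S1 : NonDeg (pB Q) (V1 r y) →
      cOf (orderOf ((Fintype.card F : ℕ) : ZMod r)) ∣ finrank F (V1 r y) ∧
      (PlusQ Q (V1 r y) ↔ tPlus (orderOf ((Fintype.card F : ℕ) : ZMod r))
        (finrank F (V1 r y) / cOf (orderOf ((Fintype.card F : ℕ) : ZMod r))))) :
    ∃ T : ℕ, 1 ≤ T ∧ T * c ≤ 2 * d ∧ finrank F (V1 r y) = T * c ∧ finrank F (V0 y) = 2 * d - T * c ∧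
      (0 < 2 * d - T * c ∨ tPlus i T) := by
  have hR : (pB Q).IsRefl := Cfsg.Agent.Lib.Helper98.Os.isRefl_of_symm (pB_symm Q)
  have hparts := Cfsg.Agent.Lib.Helper98.Oh.nonDeg_inf_parts_refl hR r hrF y hy hiso.iso ⊤ hV
    (inv_top_fc0 y)
  rw [top_inf_eq, top_inf_eq] at hparts
  obtain ⟨hnd0, hnd1⟩ := hparts
  have hort : Ort (pB Q) (V0 y) (V1 r y) := ort_V0_V1 r hrF y hy hiso.iso
  have hsup : V0 y ⊔ V1 r y = ⊤ := V0_sup_V1 r hrF y hy
  have hsum : finrank F (V0 y) + finrank F (V1 r y) = 2 * d := by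
    have h1 := Cfsg.Agent.Lib.Helper98.Os.finrank_sup_of_ort hR (V0 y) (V1 r y) hnd0 hnd1 hort
    rw [hsup, finrank_top, hdim] at h1
    exact h1.symm
  obtain ⟨hdvd, htype⟩ := S1 hnd1
  rw [← hi, ← hc] at hdvd htype
  have hT : finrank F (V1 r y) = finrank F (V1 r y) / c * c := (Nat.div_mul_cancel hdvd).symm
  generalize finrank F (V1 r y) / c = T at hT htype ⊢
  refine ⟨T, ?_, ?_, hT, ?_, ?_⟩
  · -- `T ≥ 1` as `y ≠ 1`
    by_contra hlt
    have hT0 : T = 0 := by omega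
    have h0 : finrank F (V1 r y) = 0 := by rw [hT, hT0, zero_mul]
    have hbot : V1 r y = ⊥ := Submodule.finrank_eq_zero.mp h0
    rw [hbot, sup_bot_eq] at hsup
    apply hy1
    apply LinearMap.ext
    intro v
    have hv : v ∈ V0 y := by rw [hsup]; exact Submodule.mem_top
    rw [(mem_V0 y v).mp hv]
    rfl
  · omega
  · omega
  · by_cases hpos : 0 < 2 * d - T * c
    · exact Or.inl hpos
    · right
      have h0 : finrank F (V0 y) = 0 := by omega
      have hbot : V0 y = ⊥ := Submodule.finrank_eq_zero.mp h0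
      rw [hbot, bot_sup_eq] at hsup
      apply htype.mp
      rw [hsup]
      exact hVp

end Cfsg.Agent.Lib.Helper57.OhP
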