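import Mathlib
import Cfsg.Agent.Lib.Helper38.SpF.Defs

/-!
# K-SpF-B2 (597507): `k` an odd prime not dividing `q`: `cOf (ord_k q) ≤ k - 1`
-/

set_option autoImplicit false

namespace Cfsg.Agent.Lib.Helper57.SpF

open Cfsg.Agent.Lib.Helper38.SpF

/-- K-SpF-B2 (597507). -/
theorem arith_eq (q k : ℕ) [Fact k.Prime] (hk2 : k ≠ 2) (hkq : ¬ k ∣ q) :
    cOf (orderOf (q : ZMod k)) ≤ k - 1 := by
  have hk : k.Prime := Fact.out
  have hq0 : (q : ZMod k) ≠ 0 := by
    intro h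
    exact hkq ((ZMod.natCast_eq_zero_iff q k).mp h)
  have h1 : (q : ZMod k) ^ (k - 1) = 1 := ZMod.pow_card_sub_one_eq_one hq0
  have hdvd : orderOf (q : ZMod k) ∣ k - 1 := orderOf_dvd_of_pow_eq_one h1
  have hpos : 0 < k - 1 := by have := hk.two_le; omega
  unfold cOf
  split_ifs with hev
  · exact Nat.le_of_dvd hpos hdvd
  · have hodd : Odd (orderOf (q : ZMod k)) := Nat.not_even_iff_odd.mp hev
    have hkodd : Odd k := hk.odd_of_ne_two hk2
    have h2 : 2 ∣ k - 1 := by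
      obtain ⟨m, hm⟩ := hkodd
      exact ⟨m, by omega⟩
    have hcop : Nat.Coprime 2 (orderOf (q : ZMod k)) := by
      rw [Nat.coprime_two_left]
      exact hodd
    exact Nat.le_of_dvd hpos (hcop.mul_dvd_of_dvd_of_dvd h2 hdvd)

end Cfsg.Agent.Lib.Helper57.SpF
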