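import Mathlib
import Cfsg.Agent.Lib.Helper40.NilCovDefs

/-!
# K-S3894-R9: no line is fixed by all of `SL_n(F)`, `n ≥ 2`
-/

set_option autoImplicit false

namespace Cfsg.Agent.Lib.Helper57.S3894R9

open Matrix Cfsg.Agent.Lib.Helper40.NilCov

variable {F : Type*} [Field F]

/-- K-S3894-R9.  No line is fixed by all of `SL_n(F)`, `n ≥ 2` (use a transvection). -/
theorem exists_sl_not_fixesLine (n : ℕ) (hn : 2 ≤ n) (v : Fin n → F) (hv : v ≠ 0) :
    ∃ s : Matrix.SpecialLinearGroup (Fin n) F, ¬ FixesLine (s : Matrix (Fin n) (Fin n) F) v := by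
  classical
  obtain ⟨i, hi⟩ : ∃ i, v i ≠ 0 := by
    by_contra hcon
    apply hv
    funext i
    by_contra h
    exact hcon ⟨i, h⟩
  obtain ⟨j, hj⟩ : ∃ j : Fin n, j ≠ i := by
    by_cases h0 : (i : ℕ) = 0
    · refine ⟨⟨1, by omega⟩, ?_⟩
      intro h
      have := congrArg Fin.val h
      simp at this
      omega
    · refine ⟨⟨0, by omega⟩, ?_⟩
      intro h
      have := congrArg Fin.val h
      simp at this
      omega
  refine ⟨⟨Matrix.transvection j i (1 : F), Matrix.det_transvection_of_ne _ _ hj 1⟩, ?_⟩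
  rintro ⟨c, hc⟩
  have hc' : Matrix.transvection j i (1 : F) *ᵥ v = c • v := hc
  have key : ∀ k, (Matrix.transvection j i (1 : F) *ᵥ v) k = v k + (if k = j then v i else 0) := by
    intro k
    rw [Matrix.transvection, Matrix.add_mulVec, Matrix.one_mulVec, Matrix.single_mulVec,
      Pi.add_apply, Function.update_apply, one_mul]
    rfl
  have e1 := key i
  have e2 := key j
  rw [hc', Pi.smul_apply, smul_eq_mul, if_neg (Ne.symm hj), add_zero] at e1
  rw [hc', Pi.smul_apply, smul_eq_mul, if_pos rfl] at e2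
  have hc1 : c = 1 := by
    have : (c - 1) * v i = 0 := by linear_combination e1
    rcases mul_eq_zero.mp this with h | h
    · exact sub_eq_zero.mp h
    · exact absurd h hi
  rw [hc1, one_mul] at e2
  apply hi
  linear_combination -e2

end Cfsg.Agent.Lib.Helper57.S3894R9
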