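import Mathlib
import Cfsg.Prelude.Def_GeometricClasses
import Cfsg.Agent.Lib.Helper04.BurnsidePQ

/-!
# K-SpAsch-Ex: `GL₂(F₃)` is solvable (its order is `48 = 2⁴ · 3`)
-/

set_option autoImplicit false

namespace Cfsg.Agent.Lib.Helper57.SpAsch

open Cfsg Cfsg.Geo
open scoped Matrix Kronecker MatrixGroups

variable {F : Type*} [Field F] [Fintype F] {n : ℕ}

/-- **K-SpAsch-Ex**. -/
theorem isSolvable_gl_two_three (hq : Fintype.card F = 3) : Group.IsSolvable (GL (Fin 2) F) := by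
  have hcard : Nat.card (GL (Fin 2) F) = 2 ^ 4 * 3 ^ 1 := by
    rw [Matrix.card_GL_field, hq]
    simp [Fin.prod_univ_two]
  exact Cfsg.Agent.Lib.Helper04.burnside_paqb 2 3 4 1 Nat.prime_two Nat.prime_three hcard

end Cfsg.Agent.Lib.Helper57.SpAsch
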