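import Mathlib
import Cfsg.Prelude.Def_GeometricClasses
import Cfsg.Agent.Lib.Helper61.AschDefs
import Cfsg.Agent.Lib.Helper43.SpAschDefs
import Cfsg.Agent.Lib.Helper43.SpAschDefs2

/-!
# K-SpAsch-T9: transport of the symplectic residual class along a bijection of index types
-/

set_option autoImplicit false

namespace Cfsg.Agent.Lib.Helper57.SpAsch

open Cfsg Cfsg.Geo Cfsg.Agent.Lib.Helper61.Asch Cfsg.Agent.Lib.Helper43.SpAsch
open scoped Matrix Kronecker MatrixGroups

variable {ι κ : Type} [Fintype ι] [DecidableEq ι] [Fintype κ] [DecidableEq κ] {F : Type*} [Field F]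

theorem glMap_symm_glMap (e : ι ≃ κ) (g : GL ι F) : glMap e.symm (glMap e g) = g := by
  apply Units.ext
  rw [glMap_val, glMap_val]
  ext i j
  simp

theorem glMap_glMap_symm (e : ι ≃ κ) (g : GL κ F) : glMap e (glMap e.symm g) = g := by
  have := glMap_symm_glMap e.symm g
  simpa using this

theorem glMap_mem_scalars (e : ι ≃ κ) {g : GL ι F} (hg : g ∈ scalars ι F) :
    glMap e g ∈ scalars κ F := by
  rw [mem_scalars_iff] at hg ⊢
  obtain ⟨c, hc⟩ := hg
  refine ⟨c, ?_⟩
  rw [glMap_val, hc]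
  ext i j
  simp [Matrix.one_apply]

theorem glMap_mem_scalars_iff (e : ι ≃ κ) {g : GL ι F} :
    glMap e g ∈ scalars κ F ↔ g ∈ scalars ι F := by
  constructor
  · intro h
    have := glMap_mem_scalars e.symm h
    rwa [glMap_symm_glMap] at this
  · exact glMap_mem_scalars e

theorem glMap_mulVec' (e : ι ≃ κ) (g : GL ι F) (v : ι → F) :
    ((glMap e g : GL κ F) : Matrix κ κ F) *ᵥ (v ∘ e.symm) =
      ((g : Matrix ι ι F) *ᵥ v) ∘ e.symm := by
  rw [glMap_mulVec]
  congr 2
  funext i
  simp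

theorem mem_matrixSet_map (e : ι ≃ κ) (P : Subgroup (GL ι F)) {s : Matrix κ κ F}
    (hs : s ∈ matrixSet (P.map (glMap e).toMonoidHom)) :
    ∃ x ∈ P, s = ((glMap e x : GL κ F) : Matrix κ κ F) := by
  obtain ⟨y, hy, rfl⟩ := hs
  obtain ⟨x, hx, rfl⟩ := hy
  exact ⟨x, hx, rfl⟩

theorem matrixSet_map_mem (e : ι ≃ κ) (P : Subgroup (GL ι F)) {x : GL ι F} (hx : x ∈ P) :
    ((glMap e x : GL κ F) : Matrix κ κ F) ∈ matrixSet (P.map (glMap e).toMonoidHom) :=
  ⟨glMap e x, ⟨x, hx, rfl⟩, rfl⟩

/-- the quotient of `P` by its scalars is transported -/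
noncomputable def quotEquiv (e : ι ≃ κ) (P : Subgroup (GL ι F)) :
    (↥P ⧸ (scalars ι F).subgroupOf P) ≃*
      (↥(P.map (glMap e).toMonoidHom) ⧸ (scalars κ F).subgroupOf (P.map (glMap e).toMonoidHom)) :=
  QuotientGroup.congr _ _ ((glMap e).subgroupMap P) (by
    ext ⟨y, hy⟩
    rw [Subgroup.mem_map, Subgroup.mem_subgroupOf]
    constructor
    · rintro ⟨x, hx, hxy⟩
      rw [Subgroup.mem_subgroupOf] at hx
      have : y = glMap e (x : GL ι F) := by
        have := congrArg Subtype.val hxy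
        exact this.symm
      show y ∈ scalars κ F
      rw [this]
      exact glMap_mem_scalars e hx
    · intro hys
      obtain ⟨x, hx, hxy⟩ := hy
      refine ⟨⟨x, hx⟩, ?_, ?_⟩
      · rw [Subgroup.mem_subgroupOf]
        have h1 : glMap e x ∈ scalars κ F := by
          have : (glMap e).toMonoidHom x = y := hxy
          show (glMap e).toMonoidHom x ∈ scalars κ F
          rw [this]; exact hys
        exact (glMap_mem_scalars_iff e).mp h1
      · apply Subtype.ext
        exact hxy)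

theorem isResidualCore_map (e : ι ≃ κ) {H P : Subgroup (GL ι F)} (h : IsResidualCore H P) :
    IsResidualCore (H.map (glMap e).toMonoidHom) (P.map (glMap e).toMonoidHom) where
  le := Subgroup.map_mono h.le
  normal := by
    rintro _ ⟨a, ha, rfl⟩ _ ⟨x, hx, rfl⟩
    refine ⟨a * x * a⁻¹, h.normal a ha x hx, ?_⟩
    simp
  perfect := by
    rw [← Subgroup.map_commutator, h.perfect]
  simple := by
    have := h.simple
    exact (quotEquiv e P).symm.isSimpleGroup
  nonabelian := by
    intro hc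
    apply h.nonabelian
    refine ⟨⟨fun a b => ?_⟩⟩
    apply (quotEquiv e P).injective
    rw [map_mul, map_mul]
    exact hc.is_comm.comm _ _
  centralizer_scalar := by
    rintro _ ⟨a, ha, rfl⟩ hcen
    show glMap e a ∈ scalars κ F
    apply glMap_mem_scalars e
    apply h.centralizer_scalar a ha
    intro x hx
    have h1 := hcen (glMap e x) ⟨x, hx, rfl⟩
    have h2 : (glMap e).toMonoidHom a * glMap e x * ((glMap e).toMonoidHom a)⁻¹ * (glMap e x)⁻¹ =
        glMap e (a * x * a⁻¹ * x⁻¹) := by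
      simp
    rw [h2] at h1
    exact (glMap_mem_scalars_iff e).mp h1
  absIrred := by
    obtain ⟨hirr, hcent⟩ := h.absIrred
    constructor
    · intro W' hW'
      obtain ⟨L, hL⟩ : ∃ L : (κ → F) ≃ₗ[F] (ι → F), ∀ v, L v = v ∘ e :=
        ⟨LinearEquiv.funCongrLeft F F e, fun v => rfl⟩
      have hW : ∀ s ∈ matrixSet P, (W'.map (L : (κ → F) →ₗ[F] (ι → F))).map (Matrix.toLin' s) ≤
          W'.map (L : (κ → F) →ₗ[F] (ι → F)) := by
        rintro s ⟨x, hx, rfl⟩ w hw
        obtain ⟨w1, hw1, rfl⟩ := hw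
        obtain ⟨v', hv', rfl⟩ := hw1
        have h1 : (Matrix.toLin' ((glMap e x : GL κ F) : Matrix κ κ F)) v' ∈ W' := by
          apply hW' _ (matrixSet_map_mem e P hx)
          exact ⟨v', hv', rfl⟩
        refine ⟨_, h1, ?_⟩
        show L _ = Matrix.toLin' _ (L v')
        rw [hL, hL, Matrix.toLin'_apply, Matrix.toLin'_apply, glMap_mulVec]
        funext i
        simp
      rcases hirr _ hW with h0 | h0
      · left
        exact Submodule.map_eq_bot_iff.mp h0
      · right
        exact Submodule.map_eq_top_iff.mp h0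
    · intro M' hM'
      have hM : ∀ s ∈ matrixSet P, (Matrix.reindex e.symm e.symm M') * s =
          s * (Matrix.reindex e.symm e.symm M') := by
        rintro s ⟨x, hx, rfl⟩
        have h1 := hM' _ (matrixSet_map_mem e P hx)
        rw [glMap_val] at h1
        have h2 := congrArg (Matrix.reindex e.symm e.symm) h1
        simp only [Matrix.reindex_apply, Equiv.symm_symm] at h2 ⊢
        rw [← Matrix.submatrix_mul_equiv _ _ _ e _, ← Matrix.submatrix_mul_equiv _ _ _ e _] at h2
        simpa using h2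
      obtain ⟨c, hc⟩ := hcent _ hM
      refine ⟨c, ?_⟩
      have h3 := congrArg (Matrix.reindex e e) hc
      ext i j
      have h4 := congrFun (congrFun h3 i) j
      simpa [Matrix.one_apply] using h4
  no_subfield := by
    intro F₀ hF₀ hreal
    apply h.no_subfield F₀ hF₀
    obtain ⟨B', hB'⟩ := hreal
    refine ⟨glMap e.symm B', ?_⟩
    rintro s ⟨x, hx, rfl⟩ i j
    have h1 := hB' _ (matrixSet_map_mem e P hx) (e i) (e j)
    have h2 : (B' : Matrix κ κ F) * ((glMap e x : GL κ F) : Matrix κ κ F) *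
        ((B'⁻¹ : GL κ F) : Matrix κ κ F) = ((B' * glMap e x * B'⁻¹ : GL κ F) : Matrix κ κ F) := by
      simp
    have h3 : ((glMap e.symm B' : GL ι F) : Matrix ι ι F) * (x : Matrix ι ι F) *
        (((glMap e.symm B')⁻¹ : GL ι F) : Matrix ι ι F) =
        ((glMap e.symm (B' * glMap e x * B'⁻¹) : GL ι F) : Matrix ι ι F) := by
      rw [map_mul, map_mul, glMap_symm_glMap, map_inv]
      simp
    rw [h2] at h1
    rw [h3, glMap_val]
    simpa using h1

theorem comp_symm_ne_zero (e : ι ≃ κ) {v : ι → F} (hv : v ≠ 0) : v ∘ e.symm ≠ 0 := by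
  intro h0
  apply hv
  funext i
  have := congrFun h0 (e i)
  simpa using this

theorem comp_comp_symm (e : ι ≃ κ) (x : κ → F) : (x ∘ e) ∘ e.symm = x := by
  funext i
  simp

theorem residual_forward (e : ι ≃ κ) (H : Subgroup (GL ι F)) (h : InSymplecticResidualClass H) :
    InSymplecticResidualClass (H.map (glMap e).toMonoidHom) := by
  obtain ⟨P, hcore, hnoQ, hnoU⟩ := h
  refine ⟨P.map (glMap e).toMonoidHom, isResidualCore_map e hcore, ?_, ?_⟩
  · rintro ⟨Q', hQ', hfix⟩
    apply hnoQ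
    have key : ∀ u v : ι → F, QuadraticMap.polar (fun w : ι → F => Q' (w ∘ e.symm)) u v =
        QuadraticMap.polar Q' (u ∘ e.symm) (v ∘ e.symm) := fun u v => rfl
    refine ⟨fun v => Q' (v ∘ e.symm), ⟨?_, ⟨?_, ?_, ?_, ?_⟩, ?_⟩, ?_⟩
    · intro c v
      exact hQ'.smul c (v ∘ e.symm)
    · intro x y v
      rw [key, key, key]
      exact hQ'.polar_bilinear.add_left _ _ _
    · intro c x v
      rw [key, key]
      exact hQ'.polar_bilinear.smul_left c _ _
    · intro v x y
      rw [key, key, key]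
      exact hQ'.polar_bilinear.add_right _ _ _
    · intro c v x
      rw [key, key]
      exact hQ'.polar_bilinear.smul_right c _ _
    · intro v hv
      obtain ⟨⟨x1, hx1⟩, ⟨x2, hx2⟩⟩ := hQ'.nondegenerate _ (comp_symm_ne_zero e hv)
      refine ⟨⟨x1 ∘ e, ?_⟩, ⟨x2 ∘ e, ?_⟩⟩
      · rw [key, comp_comp_symm]; exact hx1
      · rw [key, comp_comp_symm]; exact hx2
    · rintro s ⟨x, hx, rfl⟩ v
      have h1 := hfix _ (matrixSet_map_mem e P hx) (v ∘ e.symm)
      rw [glMap_mulVec'] at h1
      exact h1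
  · rintro ⟨σ, f', hf', hfix⟩
    apply hnoU
    refine ⟨σ, fun u v => f' (u ∘ e.symm) (v ∘ e.symm), ⟨hf'.ne_refl, hf'.involutive, ?_, ?_, ?_, ?_⟩, ?_⟩
    · intro x y v
      exact hf'.add_left _ _ _
    · intro c x v
      exact hf'.smul_left c _ _
    · intro v w
      exact hf'.herm _ _
    · intro v hv
      obtain ⟨⟨x1, hx1⟩, ⟨x2, hx2⟩⟩ := hf'.nondegenerate _ (comp_symm_ne_zero e hv)
      refine ⟨⟨x1 ∘ e, ?_⟩, ⟨x2 ∘ e, ?_⟩⟩
      · show f' ((x1 ∘ e) ∘ e.symm) (v ∘ e.symm) ≠ 0
        rw [comp_comp_symm]; exact hx1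
      · show f' (v ∘ e.symm) ((x2 ∘ e) ∘ e.symm) ≠ 0
        rw [comp_comp_symm]; exact hx2
    · rintro s ⟨x, hx, rfl⟩ u v
      have h1 := hfix _ (matrixSet_map_mem e P hx) (u ∘ e.symm) (v ∘ e.symm)
      rw [glMap_mulVec', glMap_mulVec'] at h1
      exact h1

section Final

variable [Fintype F]

/-- **K-SpAsch-T9**. -/
theorem residual_transport (e : ι ≃ κ) (H : Subgroup (GL ι F))
    (h : InSymplecticResidualClass (H.map (glMap e).toMonoidHom)) : InSymplecticResidualClass H := by
  have h1 := residual_forward e.symm _ h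
  have h2 : (H.map (glMap e).toMonoidHom).map (glMap e.symm).toMonoidHom = H := by
    ext g
    constructor
    · rintro ⟨_, ⟨x, hx, rfl⟩, rfl⟩
      show glMap e.symm (glMap e x) ∈ H
      rw [glMap_symm_glMap]; exact hx
    · intro hg
      exact ⟨glMap e g, ⟨g, hg, rfl⟩, glMap_symm_glMap e g⟩
  rwa [h2] at h1

end Final

end Cfsg.Agent.Lib.Helper57.SpAsch
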