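import Mathlib
import Cfsg.Prelude.Def_GeometricClasses
import Cfsg.Agent.Lib.Helper61.AschDefs
import Cfsg.Agent.Lib.Helper61.AschUDefs
import Cfsg.Agent.Lib.Helper19.Unitary
import Cfsg.Agent.Lib.Helper40.GUConj

/-!
# K-S5663-C6a: a rational absolutely irreducible group with rational multipliers has a
Gram matrix that is rational up to a scalar
-/

set_option autoImplicit false

namespace Cfsg.Agent.Lib.Helper57.AschU

open Cfsg Cfsg.Geo Cfsg.Agent.Lib.Helper61.Asch Cfsg.Agent.Lib.Helper61.AschU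
open scoped Matrix Kronecker MatrixGroups

section Ent

variable {F : Type*} [Field F] {n : ℕ}

local notation "Mat" => Matrix (Fin n) (Fin n) F

/-- a functional over the subfield applied to every entry -/
noncomputable def ent (F₁ : Subfield F) (ℓ : F →ₗ[F₁] F₁) (M : Mat) : Mat :=
  Matrix.of fun i j => ((ℓ (M i j) : F₁) : F)

theorem ent_apply (F₁ : Subfield F) (ℓ : F →ₗ[F₁] F₁) (M : Mat) (i j : Fin n) :
    ent F₁ ℓ M i j = ((ℓ (M i j) : F₁) : F) := rfl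

theorem ell_mul (F₁ : Subfield F) (ℓ : F →ₗ[F₁] F₁) (a y : F) (ha : a ∈ F₁) :
    ((ℓ (a * y) : F₁) : F) = a * ((ℓ y : F₁) : F) := by
  have h : a * y = (⟨a, ha⟩ : F₁) • y := by
    rw [Subfield.smul_def]; rfl
  rw [h, map_smul, smul_eq_mul, Subfield.coe_mul]

theorem ent_mul_left (F₁ : Subfield F) (ℓ : F →ₗ[F₁] F₁) (A M : Mat) (hA : ∀ i j, A i j ∈ F₁) :
    ent F₁ ℓ (A * M) = A * ent F₁ ℓ M := by
  ext i j
  rw [ent_apply, Matrix.mul_apply, Matrix.mul_apply, map_sum]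
  rw [show ((∑ k, ℓ (A i k * M k j) : F₁) : F) = ∑ k, ((ℓ (A i k * M k j) : F₁) : F) from by
    push_cast; rfl]
  apply Finset.sum_congr rfl
  intro k _
  rw [ell_mul F₁ ℓ _ _ (hA i k), ent_apply]

theorem ent_mul_right (F₁ : Subfield F) (ℓ : F →ₗ[F₁] F₁) (M D : Mat) (hD : ∀ i j, D i j ∈ F₁) :
    ent F₁ ℓ (M * D) = ent F₁ ℓ M * D := by
  ext i j
  rw [ent_apply, Matrix.mul_apply, Matrix.mul_apply, map_sum]
  rw [show ((∑ k, ℓ (M i k * D k j) : F₁) : F) = ∑ k, ((ℓ (M i k * D k j) : F₁) : F) from by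
    push_cast; rfl]
  apply Finset.sum_congr rfl
  intro k _
  rw [mul_comm (M i k), ell_mul F₁ ℓ _ _ (hD k j), ent_apply, mul_comm]

theorem ent_smul (F₁ : Subfield F) (ℓ : F →ₗ[F₁] F₁) (c : F) (M : Mat) (hc : c ∈ F₁) :
    ent F₁ ℓ (c • M) = c • ent F₁ ℓ M := by
  ext i j
  rw [ent_apply, Matrix.smul_apply, Matrix.smul_apply, smul_eq_mul, smul_eq_mul,
    ell_mul F₁ ℓ _ _ hc, ent_apply]

/-- two matrices defining the same sesquilinear pairing are equal -/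
theorem eq_of_pairing_eq (φ : F →+* F) (M N : Mat)
    (h : ∀ u v : Fin n → F, u ⬝ᵥ (M *ᵥ (φ ∘ v)) = u ⬝ᵥ (N *ᵥ (φ ∘ v))) : M = N := by
  ext i j
  have h1 := h (Pi.single i 1) (Pi.single j 1)
  have h2 : (φ ∘ (Pi.single j (1 : F) : Fin n → F)) = Pi.single j 1 := by
    funext k
    rw [Function.comp_apply]
    by_cases hk : k = j
    · subst hk; simp
    · simp [Pi.single_eq_of_ne hk]
  rw [h2] at h1
  simpa using h1

end Ent

section Main

variable {F : Type*} [Field F] [Fintype F] {n q : ℕ}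

local notation "V" => (Fin n → F)
local notation "Mat" => Matrix (Fin n) (Fin n) F
local notation "𝔥" => hermForm n F q

/-- K-S5663-C6a. -/
theorem exists_formRational (hF : Fintype.card F = q ^ 2) (X : Subgroup (GL (Fin n) F)) (hX : spanAlg X = ⊤)
    (F₁ : Subfield F) (B : GL (Fin n) F)
    (hB : ∀ s ∈ matrixSet X, ∀ i j, ((B : Mat) * s * ((B⁻¹ : GL (Fin n) F) : Mat)) i j ∈ F₁)
    (hmult : ∀ x ∈ X, ∃ c : F, c ∈ F₁ ∧ IsSim 𝔥 x c) :
    ∃ ζ : F, ζ ≠ 0 ∧ IsFormRationalStructure 𝔥 F₁ ζ B⁻¹ := by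
  classical
  obtain ⟨φ, hφ⟩ := Cfsg.Agent.Lib.Helper19.exists_frobQ hF
  have hφF₁ : ∀ y : F, y ∈ F₁ → φ y ∈ F₁ := by
    intro y hy
    rw [hφ]; exact pow_mem hy q
  obtain ⟨Bm, hBm⟩ : ∃ Bm : Mat, Bm = (B : Mat) := ⟨_, rfl⟩
  obtain ⟨C, hC⟩ : ∃ C : Mat, C = ((B⁻¹ : GL (Fin n) F) : Mat) := ⟨_, rfl⟩
  have hBC : Bm * C = 1 := by
    rw [hBm, hC, ← Matrix.GeneralLinearGroup.coe_mul, mul_inv_cancel]; rfl
  have hCB : C * Bm = 1 := by
    rw [hBm, hC, ← Matrix.GeneralLinearGroup.coe_mul, inv_mul_cancel]; rfl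
  obtain ⟨G, hG⟩ : ∃ G : Mat, G = Cᵀ * C.map φ := ⟨_, rfl⟩
  obtain ⟨Ginv, hGinv⟩ : ∃ Ginv : Mat, Ginv = Bm.map φ * Bmᵀ := ⟨_, rfl⟩
  have hmap1 : (1 : Mat).map φ = 1 := by
    ext i j
    by_cases hij : i = j
    · subst hij; simp
    · simp [Matrix.one_apply_ne hij]
  have hGG : G * Ginv = 1 := by
    rw [hG, hGinv]
    calc Cᵀ * C.map φ * (Bm.map φ * Bmᵀ) = Cᵀ * ((C.map φ) * (Bm.map φ)) * Bmᵀ := by
          simp only [Matrix.mul_assoc]
      _ = Cᵀ * ((C * Bm).map φ) * Bmᵀ := by rw [Matrix.map_mul]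
      _ = 1 := by
          rw [hCB, hmap1, Matrix.mul_one, ← Matrix.transpose_mul, hBC, Matrix.transpose_one]
  have hGG' : Ginv * G = 1 := by
    rw [mul_eq_one_comm]; exact hGG
  have hform : ∀ u v : V, 𝔥 (C *ᵥ u) (C *ᵥ v) = u ⬝ᵥ (G *ᵥ (φ ∘ v)) := by
    intro u v
    rw [hG]
    exact Cfsg.Agent.Lib.Helper40.GUConj.hermForm_mulVec_eq φ hφ C u v
  -- rationality of a matrix `M` gives the rational structure
  have hfinal : ∀ (ζ : F) (M : Mat), M = ζ • G → (∀ i j, M i j ∈ F₁) →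
      IsFormRationalStructure 𝔥 F₁ ζ B⁻¹ := by
    intro ζ M hM hMrat u v hu hv
    rw [← hC, hform]
    have h1 : ζ * (u ⬝ᵥ (G *ᵥ (φ ∘ v))) = u ⬝ᵥ (M *ᵥ (φ ∘ v)) := by
      rw [hM, Matrix.smul_mulVec, dotProduct_smul, smul_eq_mul]
    rw [h1]
    unfold dotProduct Matrix.mulVec dotProduct
    apply Subfield.sum_mem
    intro i _
    apply Subfield.mul_mem _ (hu i)
    apply Subfield.sum_mem
    intro j _
    exact Subfield.mul_mem _ (hMrat i j) (hφF₁ _ (hv j))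
  by_cases hG0 : G = 0
  · refine ⟨1, one_ne_zero, hfinal 1 0 (by rw [hG0, smul_zero]) ?_⟩
    intro i j
    exact Subfield.zero_mem _
  obtain ⟨i₀, j₀, hij⟩ : ∃ i j, G i j ≠ 0 := by
    by_contra hno
    apply hG0
    ext i j
    by_contra hne
    exact hno ⟨i, j, hne⟩
  obtain ⟨ℓ, hℓ⟩ := Module.Projective.exists_dual_ne_zero F₁ hij
  obtain ⟨M₀, hM₀⟩ : ∃ M₀ : Mat, M₀ = ent F₁ ℓ G := ⟨_, rfl⟩
  have hM₀rat : ∀ i j, M₀ i j ∈ F₁ := by
    intro i j
    rw [hM₀, ent_apply]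
    exact (ℓ (G i j)).2
  have hM₀ne : M₀ i₀ j₀ ≠ 0 := by
    rw [hM₀, ent_apply]
    intro h0
    apply hℓ
    exact Subtype.ext h0
  obtain ⟨N, hN⟩ : ∃ N : Mat, N = M₀ * Ginv := ⟨_, rfl⟩
  have hNG : N * G = M₀ := by
    rw [hN, Matrix.mul_assoc, hGG', Matrix.mul_one]
  -- `N` commutes with the transposes of the rational matrices of `X`
  have hcommX : ∀ x ∈ X, N * (Bm * (x : Mat) * C)ᵀ = (Bm * (x : Mat) * C)ᵀ * N := by
    intro x hx
    obtain ⟨c, hc, hsim⟩ := hmult x hx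
    obtain ⟨x₀, hx₀⟩ : ∃ x₀ : Mat, x₀ = Bm * (x : Mat) * C := ⟨_, rfl⟩
    obtain ⟨y₀, hy₀⟩ : ∃ y₀ : Mat, y₀ = Bm * ((x⁻¹ : GL (Fin n) F) : Mat) * C := ⟨_, rfl⟩
    rw [← hx₀]
    have hxy : x₀ * y₀ = 1 := by
      rw [hx₀, hy₀]
      calc Bm * (x : Mat) * C * (Bm * ((x⁻¹ : GL (Fin n) F) : Mat) * C)
          = Bm * ((x : Mat) * (C * Bm) * ((x⁻¹ : GL (Fin n) F) : Mat)) * C := by
            simp only [Matrix.mul_assoc]
        _ = Bm * ((x : Mat) * ((x⁻¹ : GL (Fin n) F) : Mat)) * C := by rw [hCB, Matrix.mul_one]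
        _ = 1 := by
            rw [← Matrix.GeneralLinearGroup.coe_mul, mul_inv_cancel]
            show Bm * 1 * C = 1
            rw [Matrix.mul_one, hBC]
    have hx₀rat : ∀ i j, x₀ i j ∈ F₁ := by
      intro i j
      rw [hx₀, hBm, hC]
      exact hB _ ⟨x, hx, rfl⟩ i j
    have hx₀Trat : ∀ i j, x₀ᵀ i j ∈ F₁ := fun i j => hx₀rat j i
    have hx₀φrat : ∀ i j, (x₀.map φ) i j ∈ F₁ := fun i j => hφF₁ _ (hx₀rat i j)
    -- the relation for `G`
    have hrelG : x₀ᵀ * G * x₀.map φ = c • G := by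
      apply eq_of_pairing_eq φ
      intro u v
      have e1 : (C * x₀)ᵀ * (C * x₀).map φ = x₀ᵀ * G * x₀.map φ := by
        rw [Matrix.transpose_mul, Matrix.map_mul, hG]
        simp only [Matrix.mul_assoc]
      have e2 : C * x₀ = (x : Mat) * C := by
        rw [hx₀, ← Matrix.mul_assoc, ← Matrix.mul_assoc, hCB, Matrix.one_mul]
      have e3 := Cfsg.Agent.Lib.Helper40.GUConj.hermForm_mulVec_eq (q := q) φ hφ (C * x₀) u v
      rw [e1] at e3
      rw [← e3, e2, ← Matrix.mulVec_mulVec, ← Matrix.mulVec_mulVec, hsim, hform,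
        Matrix.smul_mulVec, dotProduct_smul, smul_eq_mul]
    -- the relation for `M₀`
    have hrelM : x₀ᵀ * M₀ * x₀.map φ = c • M₀ := by
      have h1 := congrArg (ent F₁ ℓ) hrelG
      rw [ent_mul_right F₁ ℓ _ _ hx₀φrat, ent_mul_left F₁ ℓ _ _ hx₀Trat, ent_smul F₁ ℓ _ _ hc,
        ← hM₀] at h1
      exact h1
    have h1 : x₀ᵀ * N * (G * x₀.map φ) = N * x₀ᵀ * (G * x₀.map φ) := by
      calc x₀ᵀ * N * (G * x₀.map φ) = x₀ᵀ * (N * G) * x₀.map φ := by
            simp only [Matrix.mul_assoc]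
        _ = c • M₀ := by rw [hNG, hrelM]
        _ = N * (c • G) := by rw [Matrix.mul_smul, hNG]
        _ = N * (x₀ᵀ * G * x₀.map φ) := by rw [hrelG]
        _ = N * x₀ᵀ * (G * x₀.map φ) := by simp only [Matrix.mul_assoc]
    have hR : (G * x₀.map φ) * (y₀.map φ * Ginv) = 1 := by
      calc (G * x₀.map φ) * (y₀.map φ * Ginv) = G * (x₀.map φ * y₀.map φ) * Ginv := by
            simp only [Matrix.mul_assoc]
        _ = G * ((x₀ * y₀).map φ) * Ginv := by rw [Matrix.map_mul]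
        _ = 1 := by rw [hxy, hmap1, Matrix.mul_one, hGG]
    have h2 := congrArg (fun W => W * (y₀.map φ * Ginv)) h1
    simp only [Matrix.mul_assoc] at h2
    rw [← Matrix.mul_assoc G, hR] at h2
    simp only [Matrix.mul_one] at h2
    exact h2.symm
  -- hence with all matrices
  have hcommAdj : ∀ y : Mat, y ∈ Algebra.adjoin F (matrixSet X) →
      N * (Bm * y * C)ᵀ = (Bm * y * C)ᵀ * N := by
    intro y hy
    induction hy using Algebra.adjoin_induction with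
    | mem y hy =>
      obtain ⟨x, hx, rfl⟩ := hy
      exact hcommX x hx
    | algebraMap r =>
      have : Bm * (algebraMap F Mat r) * C = algebraMap F Mat r := by
        rw [← Algebra.commutes, Matrix.mul_assoc, hBC, Matrix.mul_one]
      rw [this]
      have h2 : (algebraMap F Mat r)ᵀ = algebraMap F Mat r := by
        rw [Matrix.algebraMap_eq_diagonal]; exact Matrix.diagonal_transpose _
      rw [h2]
      exact (Algebra.commutes r N).symm
    | add y z _ _ hy hz =>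
      rw [Matrix.mul_add, Matrix.add_mul, Matrix.transpose_add, Matrix.mul_add, Matrix.add_mul,
        hy, hz]
    | mul y z _ _ hy hz =>
      have : Bm * (y * z) * C = (Bm * y * C) * (Bm * z * C) := by
        calc Bm * (y * z) * C = Bm * (y * 1 * z) * C := by rw [Matrix.mul_one]
          _ = Bm * (y * (C * Bm) * z) * C := by rw [hCB]
          _ = (Bm * y * C) * (Bm * z * C) := by simp only [Matrix.mul_assoc]
      rw [this, Matrix.transpose_mul, ← Matrix.mul_assoc, hz, Matrix.mul_assoc, hy,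
        ← Matrix.mul_assoc]
  have hcommAll : ∀ W : Mat, N * W = W * N := by
    intro W
    have h1 : C * Wᵀ * Bm ∈ Algebra.adjoin F (matrixSet X) := by
      have : Algebra.adjoin F (matrixSet X) = ⊤ := hX
      rw [this]; exact Algebra.mem_top
    have h2 := hcommAdj _ h1
    have h3 : Bm * (C * Wᵀ * Bm) * C = Wᵀ := by
      calc Bm * (C * Wᵀ * Bm) * C = (Bm * C) * Wᵀ * (Bm * C) := by simp only [Matrix.mul_assoc]
        _ = Wᵀ := by rw [hBC, Matrix.one_mul, Matrix.mul_one]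
    rw [h3, Matrix.transpose_transpose] at h2
    exact h2
  obtain ⟨lam, hlam⟩ : N ∈ Set.range (Matrix.scalar (Fin n)) :=
    Matrix.mem_range_scalar_iff_commute_single'.mpr (fun i j => (hcommAll _).symm)
  have hM₀G : M₀ = lam • G := by
    rw [← hNG, ← hlam, Matrix.scalar_apply, ← Matrix.smul_one_eq_diagonal, Matrix.smul_mul,
      Matrix.one_mul]
  have hlam0 : lam ≠ 0 := by
    rintro rfl
    apply hM₀ne
    rw [hM₀G, zero_smul]; rfl
  exact ⟨lam, hlam0, hfinal lam M₀ hM₀G hM₀rat⟩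

end Main

end Cfsg.Agent.Lib.Helper57.AschU
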