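import Cfsg.Agent.Lib.Helper44.SpUTools

set_option autoImplicit false
set_option linter.unusedSimpArgs false
set_option linter.unusedVariables false
set_option linter.unusedSectionVars false

/-!
# K-SpU2-A2 (keystone 566506, architect helper44): `exists_bad`

If `g ∉ N(K)` then some hermitian-isotropic `u ≠ 0` has `g δ u ∉ F[δ] g u`
(leaves A1 and N1 are the hypotheses `hA1`, `hN1`).
-/

namespace Cfsg.Agent.Lib.Helper57.SpU

open Matrix Cfsg.Agent.Lib.Helper18 Cfsg.Agent.Lib.Helper11.SpMax Cfsg.Agent.Lib.Helper44.SpU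
open Cfsg.Agent.Lib.Helper43.UF

variable {F : Type*} [Field F] [Fintype F] {m : ℕ}

local notation "V" => (Fin m ⊕ Fin m → F)
local notation "ff" => Cfsg.sympForm m F
local notation "GLm" => Matrix.GeneralLinearGroup (Fin m ⊕ Fin m) F
local notation "Mat" => Matrix (Fin m ⊕ Fin m) (Fin m ⊕ Fin m) F

theorem exists_bad (U : SData m F) (hm : 7 ≤ m) (K : Subalgebra F Mat)
    (hA1 : ∀ Jp : Module.End F V,
      (∀ u : V, u ≠ 0 → Nf U u = 0 → ∃ γ ε : F, Jp u = γ • u + ε • (NU U).J u) →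
      ∃ γ ε : F, ∀ x, Jp x = γ • x + ε • (NU U).J x)
    (hN1 : ∀ g : GLm, (∃ a b : F, ((g⁻¹ : GLm) : Mat) * U.δ * (g : Mat) = a • (1 : Mat) + b • U.δ) →
      g ∈ Cfsg.Geo.subalgebraNormalizer K)
    (g : GLm) (hgN : g ∉ Cfsg.Geo.subalgebraNormalizer K) :
    ∃ u : V, u ≠ 0 ∧ KI U u ∧
      g.1 *ᵥ (U.δ *ᵥ u) ∉ Submodule.span F {g.1 *ᵥ u, U.δ *ᵥ (g.1 *ᵥ u)} := by
  classical
  by_contra hcon
  apply hgN
  apply hN1
  -- the matrix `ψ = g⁻¹ δ g`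
  have hψ : ∀ x : V, (((g⁻¹ : GLm) : Mat) * U.δ * (g : Mat)) *ᵥ x
      = (g⁻¹ : GLm).1 *ᵥ (U.δ *ᵥ (g.1 *ᵥ x)) := by
    intro x
    rw [← Matrix.mulVec_mulVec, ← Matrix.mulVec_mulVec]
  have hkey : ∀ u : V, u ≠ 0 → Nf U u = 0 → ∃ γ ε : F,
      (Matrix.mulVecLin (((g⁻¹ : GLm) : Mat) * U.δ * (g : Mat))) u = γ • u + ε • (NU U).J u := by
    intro u hu0 hu
    have hmem : g.1 *ᵥ (U.δ *ᵥ u) ∈ Submodule.span F {g.1 *ᵥ u, U.δ *ᵥ (g.1 *ᵥ u)} := by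
      by_contra hnot
      exact hcon ⟨u, hu0, hu, hnot⟩
    obtain ⟨α, β, hαβ⟩ := Submodule.mem_span_pair.mp hmem
    -- apply `g⁻¹`
    have h1 : U.δ *ᵥ u = α • u + β • ((g⁻¹ : GLm).1 *ᵥ (U.δ *ᵥ (g.1 *ᵥ u))) := by
      have h2 := congrArg (fun w => (g⁻¹ : GLm).1 *ᵥ w) hαβ
      simp only [Matrix.mulVec_add, Matrix.mulVec_smul, gl_inv_act] at h2
      exact h2.symm
    have hβ : β ≠ 0 := by
      intro hβ0
      rw [hβ0, zero_smul, add_zero] at h1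
      -- `δ u = α u` gives `d = α²`
      have h3 : U.d • u = (α * α) • u := by
        rw [← U.sq_apply, h1, Matrix.mulVec_smul, h1, smul_smul]
      have h4 : (U.d - α * α) • u = 0 := by rw [sub_smul, h3, sub_self]
      rcases smul_eq_zero.mp h4 with h5 | h5
      · exact U.nsq ⟨α, sub_eq_zero.mp h5⟩
      · exact hu0 h5
    refine ⟨-(β⁻¹ * α), β⁻¹, ?_⟩
    rw [Matrix.mulVecLin_apply, hψ, NU_J, h1]
    rw [smul_add, smul_smul, smul_smul, inv_mul_cancel₀ hβ, one_smul, neg_smul]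
    abel
  obtain ⟨γ, ε, hγε⟩ := hA1 _ hkey
  refine ⟨γ, ε, ?_⟩
  apply Matrix.mulVec_injective
  funext x
  have := hγε x
  rw [Matrix.mulVecLin_apply, NU_J] at this
  rw [this, Matrix.add_mulVec, Matrix.smul_mulVec, Matrix.smul_mulVec, Matrix.one_mulVec]

end Cfsg.Agent.Lib.Helper57.SpU
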