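import Mathlib

/-!
# K-4188-A3 (keystone 418803, architect helper70): the Frattini index is an isomorphism invariant
-/

set_option autoImplicit false

namespace Cfsg.Agent.Lib.Helper57.AG

/-- the Frattini subgroup is mapped onto the Frattini subgroup by an isomorphism -/
theorem map_frattini_equiv {X Y : Type*} [Group X] [Group Y] (e : X ≃* Y) :
    (frattini X).map (e : X →* Y) = frattini Y := by
  have h := OrderIso.map_radical (MulEquiv.mapSubgroup e)
  exact h

/-- A3: the Frattini index is an isomorphism invariant. -/
theorem frattini_index_congr {X Y : Type*} [Group X] [Group Y] (e : X ≃* Y) :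
    (frattini X).index = (frattini Y).index := by
  rw [← map_frattini_equiv e, Subgroup.index_map_equiv]

end Cfsg.Agent.Lib.Helper57.AG
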