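/-
K-SLO-5 (keystone 598105, S5981): `i = ord_r(q)` even, `n = i * t`: a fixed-point-free element of
order `r` of `SL_n(q)` with `t` equal irreducible blocks has no `GL`-conjugate in the similarity
group of a nondegenerate quadratic form whose type is not `(-1)^t`.
-/
import Mathlib
import Cfsg.Prelude.Def_Classical
import Cfsg.Prelude.Def_GeometricClasses
import Cfsg.Agent.Lib.Helper49.SLODefs
import Cfsg.Agent.Lib.Helper49.SimDerange
import Cfsg.Agent.Lib.Helper49.OrthCountPM
import Cfsg.Agent.Lib.Helper49.OrthExist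
import Cfsg.Agent.S2568

set_option autoImplicit false

namespace Cfsg.Agent.Lib.Helper57.SLO

open Polynomial Module Matrix Cfsg.Agent.Lib.Helper49 Cfsg.Agent.Lib.Helper49.SLO

variable {F : Type*} [Field F] [Fintype F]

theorem derange_even {p : ℕ} [Fact p.Prime] [CharP F p] {q : ℕ} (hq : Fintype.card F = q)
    (hodd : Odd q) (n : ℕ) (hn : 3 ≤ n) (Q : (Fin n → F) → F)
    (hQ : Cfsg.Geo.IsNondegenerateQuadraticForm Q) (r : ℕ) [Fact r.Prime] (hr2 : r ≠ 2)
    (hrp : r ≠ p) (i : ℕ) (hi : i = orderOf (q : ZMod r)) (hev : Even i) (t : ℕ)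
    (hit : i * t = n)
    (hmodel : (Odd t ∧ ∃ (m : ℕ) (φ : (Fin n → F) ≃ₗ[F] (Fin m ⊕ Fin m → F)),
        ∀ v, Cfsg.quadFormPlus m F (φ v) = Q v) ∨
      (Even t ∧ ∃ (m : ℕ) (a b : F) (φ : (Fin n → F) ≃ₗ[F] ((Fin m ⊕ Fin m) ⊕ Fin 2 → F)),
        (∀ x y : F, x ^ 2 + a * x * y + b * y ^ 2 = 0 → x = 0 ∧ y = 0) ∧
        ∀ v, Cfsg.quadFormMinus m F a b (φ v) = Q v)) :
    ∃ x : GL (Fin n) F, x ∈ Cfsg.Geo.specialLinear (Fin n) F ∧ x ^ r = 1 ∧
      (∀ z : F, (x : Matrix (Fin n) (Fin n) F) ≠ z • (1 : Matrix (Fin n) (Fin n) F)) ∧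
      ∀ g : GL (Fin n) F, g⁻¹ * x * g ∉ Cfsg.Geo.quadSimilarityGroup Q := by
  classical
  have hr : r.Prime := Fact.out
  have hp : p.Prime := Fact.out
  obtain ⟨f', _, hqf⟩ := FiniteField.card F p
  rw [hq] at hqf
  have hK : Fintype.card F = p ^ (f' : ℕ) := by rw [hq, hqf]
  have hi' : i = orderOf ((p ^ (f' : ℕ) : ℕ) : ZMod r) := by rw [hi, hqf]
  have hiF : i = orderOf ((Fintype.card F : ℕ) : ZMod r) := by rw [hi, hq]
  have D := Cfsg.Agent.S2568.factorData hK r i hrp hi'
  have hmon : ∀ P ∈ (UniqueFactorizationMonoid.normalizedFactors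
      (Polynomial.cyclotomic r F)).toFinset, P.Monic := by
    intro P hP
    have hP1 := Multiset.mem_toFinset.mp hP
    rw [← UniqueFactorizationMonoid.normalize_normalized_factor P hP1]
    exact Polynomial.monic_normalize
      (UniqueFactorizationMonoid.irreducible_of_normalized_factor P hP1).ne_zero
  have hne : (UniqueFactorizationMonoid.normalizedFactors
      (Polynomial.cyclotomic r F)).toFinset.Nonempty := by
    rw [Finset.nonempty_iff_ne_empty]
    intro hempty
    have h1 := D.prod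
    rw [hempty, Finset.prod_empty, mul_one] at h1
    have h2 := congrArg Polynomial.natDegree h1
    have e1 : (Polynomial.X - 1 : Polynomial F).natDegree = 1 := by
      rw [← Polynomial.C_1]; exact Polynomial.natDegree_X_sub_C 1
    have e2 : (Polynomial.X ^ r - 1 : Polynomial F).natDegree = r := by
      rw [← Polynomial.C_1]; exact Polynomial.natDegree_X_pow_sub_C
    rw [e1, e2] at h2
    have := hr.two_le
    omega
  have hq1 : 1 ≤ q := by rw [← hq]; exact Fintype.card_pos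
  have hi1 : i ≠ 1 := by
    intro h1
    rw [h1] at hev
    exact absurd hev (by decide)
  have hrq : ¬ r ∣ Fintype.card F - 1 := by
    intro h
    apply hi1
    rw [hi, orderOf_eq_one_iff]
    rw [hq, ← ZMod.natCast_eq_zero_iff, Nat.cast_sub hq1, Nat.cast_one, sub_eq_zero] at h
    exact h
  have hrF : (r : F) ≠ 0 := by
    intro h0
    rw [CharP.cast_eq_zero_iff F p] at h0
    exact hrp ((Nat.prime_dvd_prime_iff_eq hp hr).mp h0).symm
  have hipos : 1 ≤ i := D.hi
  have htpos : 1 ≤ t := by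
    rcases Nat.eq_zero_or_pos t with h | h
    · rw [h, mul_zero] at hit; omega
    · exact h
  set PP := (UniqueFactorizationMonoid.normalizedFactors (Polynomial.cyclotomic r F)).toFinset
    with hPP
  obtain ⟨P₀, hP₀⟩ := hne
  let a : PP → ℕ := fun P => if P = ⟨P₀, hP₀⟩ then t else 0
  have hsum : ∑ P, a P = t := by
    rw [Finset.sum_ite_eq' Finset.univ (⟨P₀, hP₀⟩ : PP) (fun _ => t)]
    simp
  obtain ⟨x, hxr, hκ⟩ := D.exists_realize hr.pos n a (by rw [hsum, hit])
  have hκ₀ : kdim (Matrix.toLin' (x : Matrix (Fin n) (Fin n) F)) P₀ = i * t := by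
    have := hκ ⟨P₀, hP₀⟩
    simp only [a, if_true] at this
    exact this
  have hgr : (x : Matrix (Fin n) (Fin n) F) ^ r = 1 := by
    rw [← Units.val_pow_eq_pow_val, hxr, Units.val_one]
  have hdet : (x : Matrix (Fin n) (Fin n) F).det = 1 := by
    apply root_eq_one_of_not_dvd hr hrq
    rw [← Matrix.det_pow, hgr, Matrix.det_one]
  refine ⟨x, ?_, hxr, ?_, ?_⟩
  · unfold Cfsg.Geo.specialLinear
    rw [MonoidHom.mem_ker]
    apply Units.ext
    rw [Matrix.GeneralLinearGroup.val_det_apply, hdet]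
    rfl
  · intro z hz
    have h1 : (z ^ r) • (1 : Matrix (Fin n) (Fin n) F) = 1 := by
      have h0 := hgr
      rw [hz, _root_.smul_pow, one_pow] at h0
      exact h0
    have h2 : z ^ r = 1 := by
      have := congrFun (congrFun h1 ⟨0, by omega⟩) ⟨0, by omega⟩
      simpa using this
    have h3 := root_eq_one_of_not_dvd hr hrq z h2
    rw [h3, one_smul] at hz
    rw [hz, kdim_toLin'_one P₀ (D.X_sub_one_not_dvd hP₀), hit] at hκ₀
    omega
  · intro g hy
    obtain ⟨φ, ψ, c, hc0, hQφ, hsim, hφψ, hψφ, hkd, hpow⟩ := sim_conj_data Q hQ x g hy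
    have hφr : φ ^ r = 1 := by
      have h0 := hpow r 1 (by rw [hxr, one_smul]; rfl)
      rw [one_smul] at h0
      exact h0
    have hcr : c ^ r = 1 := mult_pow_eq_one (by omega) Q hQ φ c hsim r hφr
    have hc1 : c = 1 := root_eq_one_of_not_dvd hr hrq c hcr
    have hQφ' : ∀ v, Q (φ v) = Q v := by
      intro v
      rw [hQφ, hc1, one_mul]
    rcases hmodel with ⟨hto, m, φ₀, hφ₀⟩ | ⟨hte, m, a₀, b₀, φ₀, hab, hφ₀⟩
    · -- plus type, `t` odd
      let Q₁ : QuadraticForm F (Fin n → F) :=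
        (Helper50.QPlus m F).comp (φ₀ : (Fin n → F) →ₗ[F] (Fin m ⊕ Fin m → F))
      have hQ₁ : ∀ v, Q₁ v = Q v := fun v => hφ₀ v
      obtain ⟨gm, hgm, hkm⟩ := exists_isometryGroup_of_similar (Helper50.QPlus m F) Q₁ φ
        (fun v => by rw [hQ₁, hQ₁, hQφ']) r hr.pos hφr φ₀ 1 (fun v => by rw [one_mul]; rfl)
      have hdim : n = 2 * m := by
        have h1 := φ₀.finrank_eq
        rw [Module.finrank_fin_fun, Module.finrank_pi, card_plus_index] at h1
        exact h1
      have h5 := (D.orth_plus_even_iff p hmon hr2 hrF hiF hev m a).mp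
        ⟨gm, hgm, fun P => by rw [hkm, hkd]; exact hκ P⟩
      rw [hsum, hit] at h5
      exact h5.2 hdim hto
    · -- minus type, `t` even
      let Q₁ : QuadraticForm F (Fin n → F) :=
        (Helper50.QMinus m F a₀ b₀).comp
          (φ₀ : (Fin n → F) →ₗ[F] ((Fin m ⊕ Fin m) ⊕ Fin 2 → F))
      have hQ₁ : ∀ v, Q₁ v = Q v := fun v => hφ₀ v
      obtain ⟨gm, hgm, hkm⟩ := exists_isometryGroup_of_similar (Helper50.QMinus m F a₀ b₀) Q₁ φ
        (fun v => by rw [hQ₁, hQ₁, hQφ']) r hr.pos hφr φ₀ 1 (fun v => by rw [one_mul]; rfl)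
      have hdim : n = 2 * (m + 1) := by
        have h1 := φ₀.finrank_eq
        rw [Module.finrank_fin_fun, Module.finrank_pi, card_minus_index] at h1
        exact h1
      have h5 := (D.orth_minus_even_iff p hmon hr2 hrF hiF hev m a₀ b₀ hab a).mp
        ⟨gm, hgm, fun P => by rw [hkm, hkd]; exact hκ P⟩
      rw [hsum, hit] at h5
      exact h5.2 hdim hte

end Cfsg.Agent.Lib.Helper57.SLO
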