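import Mathlib
import Cfsg.Prelude.Def_GeometricClasses

/-!
# K-SpO-6: minus type, `d` even: an involution of `Sp_{2d}(q)`, `q` even, with no conjugate in the
similarity group of `Q`
-/

set_option autoImplicit false

namespace Cfsg.Agent.Lib.Helper57.SpO

open Matrix

section Unip

variable {F : Type*} [Field F] {d : ℕ}

/-- the matrix of `b ↦ b ∘ π` -/
def permMat (π : Fin d → Fin d) : Matrix (Fin d) (Fin d) F :=
  Matrix.of fun i k => if k = π i then 1 else 0

theorem permMat_mulVec (π : Fin d → Fin d) (b : Fin d → F) :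
    permMat π *ᵥ b = fun i => b (π i) := by
  funext i
  simp [permMat, Matrix.mulVec, dotProduct]

/-- the unipotent matrix `[[1, P], [0, 1]]` -/
def unipMat (π : Fin d → Fin d) : Matrix (Fin d ⊕ Fin d) (Fin d ⊕ Fin d) F :=
  Matrix.fromBlocks 1 (permMat π) 0 1

theorem unipMat_mulVec (π : Fin d → Fin d) (v : Fin d ⊕ Fin d → F) :
    unipMat π *ᵥ v =
      Sum.elim (fun i => v (Sum.inl i) + v (Sum.inr (π i))) (fun i => v (Sum.inr i)) := by
  unfold unipMat
  rw [Matrix.fromBlocks_mulVec, permMat_mulVec]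
  funext j
  cases j <;> simp

theorem unipMat_mul_self [CharP F 2] (π : Fin d → Fin d) :
    unipMat (F := F) π * unipMat π = 1 := by
  unfold unipMat
  rw [Matrix.fromBlocks_multiply]
  have : permMat (F := F) π + permMat π = 0 := by
    ext i k
    exact CharTwo.add_self_eq_zero _
  simp [this, Matrix.fromBlocks_one]

/-- the unipotent involution as an element of the general linear group -/
def unipGL [CharP F 2] (π : Fin d → Fin d) : GL (Fin d ⊕ Fin d) F :=
  ⟨unipMat π, unipMat π, unipMat_mul_self π, unipMat_mul_self π⟩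

theorem unipGL_val [CharP F 2] (π : Fin d → Fin d) :
    ((unipGL (F := F) π : GL (Fin d ⊕ Fin d) F) : Matrix (Fin d ⊕ Fin d) (Fin d ⊕ Fin d) F) =
      unipMat π := rfl

theorem sum_perm_mul_self_eq_zero [CharP F 2] (π : Fin d → Fin d) (hπ2 : ∀ i, π (π i) = i)
    (hπ : ∀ i, π i ≠ i) (b : Fin d → F) : ∑ i, b (π i) * b i = 0 := by
  refine Finset.sum_involution (fun i _ => π i) ?_ ?_ ?_ ?_
  · intro i _
    rw [hπ2, mul_comm (b i)]
    exact CharTwo.add_self_eq_zero _
  · intro i _ _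
    exact hπ i
  · intro i _
    exact Finset.mem_univ _
  · intro i _
    exact hπ2 i

theorem exists_fpf_involution (hd : Even d) :
    ∃ π : Fin d → Fin d, (∀ i, π (π i) = i) ∧ ∀ i, π i ≠ i := by
  obtain ⟨j, rfl⟩ := hd
  refine ⟨fun i => finSumFinEquiv (Sum.swap (finSumFinEquiv.symm i)), ?_, ?_⟩
  · intro i
    simp
  · intro i h
    have h1 := congrArg finSumFinEquiv.symm h
    rw [Equiv.symm_apply_apply] at h1
    cases hs : finSumFinEquiv.symm i with
    | inl a => rw [hs] at h1; simp at h1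
    | inr a => rw [hs] at h1; simp at h1

theorem sympForm_apply (u v : Fin d ⊕ Fin d → F) :
    Cfsg.sympForm d F u v =
      ∑ i, (u (Sum.inr i) * v (Sum.inl i) - u (Sum.inl i) * v (Sum.inr i)) := by
  unfold Cfsg.sympForm Matrix.J
  rw [Matrix.fromBlocks_mulVec]
  simp only [dotProduct, Fintype.sum_sum_type, Sum.elim_inl, Sum.elim_inr]
  simp only [Matrix.zero_mulVec, Matrix.neg_mulVec, Matrix.one_mulVec, zero_add, add_zero,
    Pi.neg_apply, Function.comp_apply, Finset.sum_sub_distrib]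
  simp only [mul_neg, Finset.sum_neg_distrib]
  ring

end Unip

section Main

variable {F : Type*} [Field F] [CharP F 2] {d : ℕ}

theorem unipGL_mem_spGL (π : Fin d → Fin d) (hπ2 : ∀ i, π (π i) = i) :
    unipGL (F := F) π ∈ Cfsg.spGL d F := by
  intro u v
  show Cfsg.sympForm d F (unipMat π *ᵥ u) (unipMat π *ᵥ v) = Cfsg.sympForm d F u v
  rw [unipMat_mulVec, unipMat_mulVec, sympForm_apply, sympForm_apply]
  simp only [Sum.elim_inl, Sum.elim_inr]
  have key : ∑ i, u (Sum.inr (π i)) * v (Sum.inr i) = ∑ i, u (Sum.inr i) * v (Sum.inr (π i)) := by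
    let σ : Equiv.Perm (Fin d) := ⟨π, π, hπ2, hπ2⟩
    rw [← Equiv.sum_comp σ (fun i => u (Sum.inr i) * v (Sum.inr (π i)))]
    apply Finset.sum_congr rfl
    intro i _
    show u (Sum.inr (π i)) * v (Sum.inr i) = u (Sum.inr (π i)) * v (Sum.inr (π (π i)))
    rw [hπ2]
  have h1 : ∀ i, u (Sum.inr i) * (v (Sum.inl i) + v (Sum.inr (π i))) -
      (u (Sum.inl i) + u (Sum.inr (π i))) * v (Sum.inr i) =
      (u (Sum.inr i) * v (Sum.inl i) - u (Sum.inl i) * v (Sum.inr i)) +
      (u (Sum.inr i) * v (Sum.inr (π i)) - u (Sum.inr (π i)) * v (Sum.inr i)) := by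
    intro i; ring
  simp_rw [h1]
  rw [Finset.sum_add_distrib, Finset.sum_sub_distrib (fun i => u (Sum.inr i) * v (Sum.inr (π i))),
    key, sub_self, add_zero]

theorem sympForm_unip_self (π : Fin d → Fin d) (hπ2 : ∀ i, π (π i) = i) (hπ : ∀ i, π i ≠ i)
    (w : Fin d ⊕ Fin d → F) : Cfsg.sympForm d F (unipMat π *ᵥ w) w = 0 := by
  rw [unipMat_mulVec, sympForm_apply]
  simp only [Sum.elim_inl, Sum.elim_inr]
  have h1 : ∀ i, w (Sum.inr i) * w (Sum.inl i) - (w (Sum.inl i) + w (Sum.inr (π i))) * w (Sum.inr i) =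
      -(w (Sum.inr (π i)) * w (Sum.inr i)) := by
    intro i; ring
  simp_rw [h1]
  rw [Finset.sum_neg_distrib, sum_perm_mul_self_eq_zero π hπ2 hπ (fun i => w (Sum.inr i)), neg_zero]

/-- the embedding of the left half -/
def inlLin (d : ℕ) (F : Type*) [Field F] : (Fin d → F) →ₗ[F] (Fin d ⊕ Fin d → F) where
  toFun a := Sum.elim a 0
  map_add' a b := by funext j; cases j <;> simp
  map_smul' c a := by funext j; cases j <;> simp

theorem inlLin_apply (a : Fin d → F) : inlLin d F a = Sum.elim a 0 := rfl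

theorem inlLin_injective : Function.Injective (inlLin d F) := by
  intro a b h
  funext i
  have := congrFun h (Sum.inl i)
  simpa [inlLin_apply] using this

end Main

section Final

variable {F : Type*} [Field F] [Fintype F] [CharP F 2]

/-- K-SpO-6 (id 598306): minus type, `d` even: an involution of `Sp_{2d}(q)` with no conjugate in `H`. -/
theorem exists_bad_invol (d : ℕ) (hd : 2 ≤ d) (hde : Even d) (Q : (Fin d ⊕ Fin d → F) → F)
    (hQ : Cfsg.Geo.IsNondegenerateQuadraticForm Q)
    (hQf : ∀ u v, QuadraticMap.polar Q u v = Cfsg.sympForm d F u v)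
    (hminus : ¬ Cfsg.Geo.IsPlusTypeOn Q ⊤) :
    ∃ x ∈ Cfsg.spGL d F,
      ((x ^ 2 : GL (Fin d ⊕ Fin d) F) : Matrix (Fin d ⊕ Fin d) (Fin d ⊕ Fin d) F) = 1 ∧
      (∀ z : F, (x : Matrix (Fin d ⊕ Fin d) (Fin d ⊕ Fin d) F) ≠
        z • (1 : Matrix (Fin d ⊕ Fin d) (Fin d ⊕ Fin d) F)) ∧
      ∀ g ∈ Cfsg.spGL d F, g⁻¹ * x * g ∉ Cfsg.Geo.quadSimilarityGroup Q := by
  obtain ⟨π, hπ2, hπ⟩ := exists_fpf_involution hde
  have i0 : Fin d := ⟨0, by omega⟩
  refine ⟨unipGL π, unipGL_mem_spGL π hπ2, ?_, ?_, ?_⟩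
  · rw [pow_two, Units.val_mul, unipGL_val, unipMat_mul_self]
  · intro z hz
    have h1 := congrFun (congrFun hz (Sum.inl i0)) (Sum.inr (π i0))
    rw [unipGL_val] at h1
    simp [unipMat, permMat] at h1
  · intro g hg hmem
    apply hminus
    obtain ⟨c, hc⟩ := hmem
    obtain ⟨gm, hgm⟩ : ∃ gm : Matrix (Fin d ⊕ Fin d) (Fin d ⊕ Fin d) F, gm = (g : Matrix _ _ F) :=
      ⟨_, rfl⟩
    obtain ⟨gi, hgi⟩ : ∃ gi : Matrix (Fin d ⊕ Fin d) (Fin d ⊕ Fin d) F,
        gi = ((g⁻¹ : GL (Fin d ⊕ Fin d) F) : Matrix _ _ F) := ⟨_, rfl⟩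
    have hgg : gm * gi = 1 := by
      rw [hgm, hgi, ← Units.val_mul, mul_inv_cancel]; rfl
    have hgg' : gi * gm = 1 := by
      rw [hgm, hgi, ← Units.val_mul, inv_mul_cancel]; rfl
    have hym : ((g⁻¹ * unipGL π * g : GL (Fin d ⊕ Fin d) F) : Matrix _ _ F) = gi * unipMat π * gm := by
      rw [Units.val_mul, Units.val_mul, unipGL_val, hgm, hgi]
    rw [hym] at hc
    have hy2 : ∀ v : Fin d ⊕ Fin d → F, (gi * unipMat π * gm) *ᵥ ((gi * unipMat π * gm) *ᵥ v) = v := by
      intro v
      rw [Matrix.mulVec_mulVec]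
      have : gi * unipMat π * gm * (gi * unipMat π * gm) = 1 := by
        calc gi * unipMat π * gm * (gi * unipMat π * gm)
            = gi * (unipMat π * (gm * gi) * unipMat π) * gm := by simp only [Matrix.mul_assoc]
          _ = 1 := by rw [hgg, Matrix.mul_one, unipMat_mul_self, Matrix.mul_one, hgg']
      rw [this, Matrix.one_mulVec]
    -- a vector on which `Q` does not vanish
    obtain ⟨v₀, hv₀⟩ : ∃ v₀, Q v₀ ≠ 0 := by
      by_contra hno
      have hzero : ∀ v, Q v = 0 := by
        intro v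
        by_contra hv
        exact hno ⟨v, hv⟩
      have hne : (Pi.single (Sum.inl i0) (1 : F) : Fin d ⊕ Fin d → F) ≠ 0 := by
        intro h0
        have := congrFun h0 (Sum.inl i0)
        simp at this
      obtain ⟨⟨a, ha⟩, _⟩ := hQ.nondegenerate _ hne
      apply ha
      unfold QuadraticMap.polar
      rw [hzero, hzero, hzero]; ring
    have hc1 : (c : F) = 1 := by
      have h1 := hc ((gi * unipMat π * gm) *ᵥ v₀)
      rw [hy2, hc] at h1
      have h2 : ((c : F) * (c : F) - 1) * Q v₀ = 0 := by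
        rw [sub_mul, one_mul, mul_assoc, ← h1, sub_self]
      have h3 : (c : F) * (c : F) - 1 = 0 := by
        rcases mul_eq_zero.mp h2 with h | h
        · exact h
        · exact absurd h hv₀
      have h4 : ((c : F) + 1) * ((c : F) + 1) = 0 := by
        have h5 : (c : F) + (c : F) = 0 := CharTwo.add_self_eq_zero _
        have h6 : (1 : F) + 1 = 0 := CharTwo.add_self_eq_zero _
        linear_combination h3 + h5 + h6
      have h7 : (c : F) + 1 = 0 := by
        rcases mul_eq_zero.mp h4 with h | h <;> exact h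
      have h8 : (1 : F) + 1 = 0 := CharTwo.add_self_eq_zero _
      linear_combination h7 - h8
    -- `Q` vanishes on `y v + v`
    have hvan : ∀ v : Fin d ⊕ Fin d → F, Q ((gi * unipMat π * gm) *ᵥ v + v) = 0 := by
      intro v
      have h1 : Q ((gi * unipMat π * gm) *ᵥ v + v) =
          Q ((gi * unipMat π * gm) *ᵥ v) + Q v +
            QuadraticMap.polar Q ((gi * unipMat π * gm) *ᵥ v) v := by
        unfold QuadraticMap.polar; ring
      rw [h1, hc, hc1, one_mul, hQf, CharTwo.add_self_eq_zero, zero_add]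
      have h2 := hg ((gi * unipMat π * gm) *ᵥ v) v
      have h3 : (glToMat (Fin d ⊕ Fin d) F g) *ᵥ ((gi * unipMat π * gm) *ᵥ v) =
          unipMat π *ᵥ (gm *ᵥ v) := by
        show (g : Matrix _ _ F) *ᵥ ((gi * unipMat π * gm) *ᵥ v) = unipMat π *ᵥ (gm *ᵥ v)
        rw [← hgm, Matrix.mulVec_mulVec, Matrix.mulVec_mulVec]
        congr 1
        rw [← Matrix.mul_assoc, ← Matrix.mul_assoc, hgg, Matrix.one_mul]
      have h4 : (glToMat (Fin d ⊕ Fin d) F g) *ᵥ v = gm *ᵥ v := by
        rw [hgm]; rfl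
      rw [h3, h4] at h2
      rw [← h2]
      exact sympForm_unip_self π hπ2 hπ _
    -- the totally singular subspace
    have hψinj : Function.Injective ((Matrix.mulVecLin gi) ∘ₗ (inlLin d F)) := by
      intro a b hab
      apply inlLin_injective
      have h1 : gi *ᵥ (inlLin d F a) = gi *ᵥ (inlLin d F b) := hab
      have h2 := congrArg (fun z => gm *ᵥ z) h1
      simp only [Matrix.mulVec_mulVec, hgg, Matrix.one_mulVec] at h2
      exact h2
    refine ⟨LinearMap.range ((Matrix.mulVecLin gi) ∘ₗ (inlLin d F)), le_top, ?_, ?_⟩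
    · rintro w ⟨a, rfl⟩
      show Q (gi *ᵥ (inlLin d F a)) = 0
      have h1 : gi *ᵥ (inlLin d F a) =
          (gi * unipMat π * gm) *ᵥ (gi *ᵥ (Sum.elim 0 (fun i => a (π i)))) +
            gi *ᵥ (Sum.elim 0 (fun i => a (π i))) := by
        rw [Matrix.mulVec_mulVec, Matrix.mul_assoc, Matrix.mul_assoc, hgg, Matrix.mul_one,
          ← Matrix.mulVec_mulVec, ← Matrix.mulVec_add]
        congr 1
        rw [unipMat_mulVec, inlLin_apply]
        funext j
        cases j with
        | inl i => simp [hπ2]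
        | inr i =>
          simp only [Sum.elim_inr, Pi.add_apply, Pi.zero_apply]
          exact (CharTwo.add_self_eq_zero _).symm
      rw [h1]
      exact hvan _
    · rw [LinearMap.finrank_range_of_inj hψinj, finrank_top, Module.finrank_fin_fun,
        Module.finrank_fintype_fun_eq_card, Fintype.card_sum, Fintype.card_fin]
      ring

end Final

end Cfsg.Agent.Lib.Helper57.SpO
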