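import Mathlib
import Cfsg.Agent.Lib.Helper49.StOpDefs

/-!
K-StOp-M4 (keystone 254814, S2548 pack, architect helper49): a monomial upper triangular isometry of
the plus type quadratic form is diagonal (port of `Helper48.StSp.mem_T_of_monWith`).
-/

set_option autoImplicit false
set_option linter.unusedSectionVars false
set_option linter.unusedVariables false

namespace Cfsg.Agent.Lib.Helper57.StOp

open Cfsg Cfsg.Agent.Lib.Helper49.StOp

variable {m : ℕ} {F : Type*} [Field F]

/-- a permutation which does not increase positions is the identity -/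
theorem perm_eq_one_of_pos_le (σ : Equiv.Perm (OI m))
    (h : ∀ b, pos m (σ b) ≤ pos m b) : ∀ b, σ b = b := by
  have hsum : ∑ b, pos m (σ b) = ∑ b, pos m b := Equiv.sum_comp σ (pos m)
  have heq := (Finset.sum_eq_sum_iff_of_le (s := Finset.univ) (f := fun b => pos m (σ b))
    (g := fun b => pos m b) (fun b _ => h b)).mp hsum
  intro b
  exact pos_injective m (heq b (Finset.mem_univ b))

theorem mem_T_of_monWith (g : OG m F) (σ : Equiv.Perm (OI m)) (h : MonWith m F g σ)
    (hg : g ∈ Bsub m F) : g ∈ Tsub m F := by
  obtain ⟨hmon, -⟩ := h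
  have hB := (mem_Bsub_iff g).1 hg
  have hle : ∀ b, pos m (σ b) ≤ pos m b := by
    intro b
    by_contra hlt
    have hlt' : pos m b < pos m (σ b) := not_le.mp hlt
    exact (hmon (σ b) b).2 rfl (hB (σ b) b hlt')
  have hσ := perm_eq_one_of_pos_le σ hle
  rw [mem_Tsub_iff]
  intro a b hab
  by_contra hne
  have := (hmon a b).1 hne
  rw [hσ b] at this
  exact hab this

end Cfsg.Agent.Lib.Helper57.StOp
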