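import Cfsg.Agent.Lib.Helper49.StSUDefs

/-!
# K-StSU LEAF C3a (keystone 254615, architect helper49): squares of the simple reflections lie in `B`

Each simple reflection has a monomial matrix for an involutive permutation of the positions, so its
square is diagonal.
-/

set_option autoImplicit false
set_option linter.unusedSectionVars false
set_option linter.unusedVariables false

namespace Cfsg.Agent.Lib.Helper57.StSU

open Cfsg Cfsg.Agent.Lib.Helper49.StSU

variable {n : ℕ} {F : Type*} [Field F] {q : ℕ}

/-- the square of a monomial matrix for an involutive map of the positions is diagonal -/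
theorem mul_self_offdiag (M : Matrix (Fin n) (Fin n) F) (π : ℕ → ℕ)
    (hM : ∀ x y : Fin n, M x y ≠ 0 → x.val = π y.val)
    (hπ : ∀ v : ℕ, v < n → π v < n → π (π v) = v) (x y : Fin n) (hxy : x ≠ y) :
    (M * M) x y = 0 := by
  rw [Matrix.mul_apply]
  apply Finset.sum_eq_zero
  intro z _
  by_contra hne
  have h1 : M x z ≠ 0 := fun h => hne (by rw [h, zero_mul])
  have h2 : M z y ≠ 0 := fun h => hne (by rw [h, mul_zero])
  have e1 := hM x z h1
  have e2 := hM z y h2
  apply hxy
  apply Fin.ext
  rw [e1, e2]
  exact hπ y.val y.isLt (by rw [← e2]; exact z.isLt)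

theorem tau_tau (i : ℕ) (hi : i + 1 < n / 2) (v : ℕ) (hv : v < n) :
    tau n i (tau n i v) = v := by
  unfold tau
  split_ifs <;> omega

/-- LEAF C3a. -/
theorem sq_mem_B (ok : Ok n F q) (s : GJ n F q) (hs : s ∈ Sset n F q) : s * s ∈ Bsub n F q := by
  rw [mem_Bsub_iff]
  intro a b hab
  have hne : a ≠ b := ne_of_gt hab
  rw [mat_mul]
  rcases hs with ⟨i, hi, rfl⟩ | ⟨hn, rfl⟩
  · rw [ok.short i hi]
    apply mul_self_offdiag (sShortMat n F i) (tau n i) _ _ a b hne
    · intro x y hxy
      by_contra hc
      apply hxy
      unfold sShortMat
      rw [if_neg hc]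
    · intro v hv _
      exact tau_tau i hi v hv
  · rw [ok.last hn]
    unfold sLastMat
    split_ifs with hpar
    · -- `n` even
      apply mul_self_offdiag (sEvenMat n F (aPar F q))
        (fun v => if v = n / 2 then n / 2 - 1 else if v = n / 2 - 1 then n / 2 else v) _ _ a b hne
      · intro x y hxy
        unfold sEvenMat at hxy
        have hk : 1 ≤ n / 2 := by omega
        split_ifs at hxy with h1 h2 h3
        · obtain ⟨h1a, h1b⟩ := h1
          simp only [h1b, if_true]
          exact h1a
        · obtain ⟨h2a, h2b⟩ := h2
          have hne' : ¬ (n / 2 - 1 = n / 2) := by omega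
          simp only [h2b, hne', if_false, if_true]
          exact h2a
        · obtain ⟨h3a, h3b, h3c⟩ := h3
          have e : y.val = x.val := by rw [h3a]
          have hy1 : ¬ (y.val = n / 2) := by rw [e]; exact h3c
          have hy2 : ¬ (y.val = n / 2 - 1) := by rw [e]; exact h3b
          simp only [hy1, hy2, if_false]
          exact e.symm
        · exact absurd rfl hxy
      · intro v hv _
        have hk : 1 ≤ n / 2 := by omega
        show (if (if v = n / 2 then n / 2 - 1 else if v = n / 2 - 1 then n / 2 else v) = n / 2
            then n / 2 - 1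
          else if (if v = n / 2 then n / 2 - 1 else if v = n / 2 - 1 then n / 2 else v) = n / 2 - 1
            then n / 2 else (if v = n / 2 then n / 2 - 1 else if v = n / 2 - 1 then n / 2 else v))
          = v
        split_ifs <;> omega
    · -- `n` odd
      apply mul_self_offdiag (sOddMat n F)
        (fun v => if v = n / 2 + 1 then n / 2 - 1 else if v = n / 2 - 1 then n / 2 + 1 else v)
        _ _ a b hne
      · intro x y hxy
        unfold sOddMat at hxy
        split_ifs at hxy with h1 h2 h3
        · rcases h1 with ⟨h1a, h1b⟩ | ⟨h1a, h1b⟩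
          · simp only [h1b, if_true]
            exact h1a
          · have hne' : ¬ (n / 2 - 1 = n / 2 + 1) := by omega
            simp only [h1b, hne', if_false, if_true]
            exact h1a
        · obtain ⟨h2a, h2b⟩ := h2
          have hk : 1 ≤ n / 2 := by omega
          have hy1 : ¬ (y.val = n / 2 + 1) := by omega
          have hy2 : ¬ (y.val = n / 2 - 1) := by omega
          simp only [hy1, hy2, if_false]
          omega
        · obtain ⟨h3a, h3b, h3c, h3d⟩ := h3
          have e : y.val = x.val := by rw [h3a]
          have hy1 : ¬ (y.val = n / 2 + 1) := by rw [e]; exact h3d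
          have hy2 : ¬ (y.val = n / 2 - 1) := by rw [e]; exact h3b
          simp only [hy1, hy2, if_false]
          exact e.symm
        · exact absurd rfl hxy
      · intro v hv _
        show (if (if v = n / 2 + 1 then n / 2 - 1 else if v = n / 2 - 1 then n / 2 + 1 else v)
              = n / 2 + 1 then n / 2 - 1
          else if (if v = n / 2 + 1 then n / 2 - 1 else if v = n / 2 - 1 then n / 2 + 1 else v)
              = n / 2 - 1 then n / 2 + 1
          else (if v = n / 2 + 1 then n / 2 - 1 else if v = n / 2 - 1 then n / 2 + 1 else v)) = v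
        split_ifs <;> omega

end Cfsg.Agent.Lib.Helper57.StSU
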