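import Mathlib
import Cfsg.Agent.Lib.Helper57.KLCent

/-!
# Members of the Alperin–Goldschmidt family are radical

For `T` in the Alperin–Goldschmidt family of `P` and `M = N_G(T)`: a subgroup `N₁ ≤ M` normalized by
`M` all of whose elements have a `p`-power power in `C_G(T)` lies in `C_G(T) T`.
-/

set_option autoImplicit false
open Cfsg
open Cfsg.Agent.Lib.Helper16
open Cfsg.Agent.Lib.Helper41

namespace Cfsg.Agent.Lib.Helper57.GT

section rad

variable {p : ℕ} [Fact p.Prime] {G : Type*} [Group G] [Finite G]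

omit [Fact (Nat.Prime p)] [Finite G] in
/-- an element of order prime to `p` centralizing the `p`-group `T₁` and acting trivially on
`T / T₁` centralizes `T` -/
theorem centralizes_of_chain (T₁ : Subgroup G) (hT₁p : IsPGroup p T₁) (T : Subgroup G)
    (v : G) (hv : (orderOf v).Coprime p) (hvq : ∀ q ∈ T₁, v * q * v⁻¹ = q)
    (hvT : ∀ t ∈ T, t⁻¹ * (v * t * v⁻¹) ∈ T₁) :
    v ∈ Subgroup.centralizer (T : Set G) := by
  rw [Subgroup.mem_centralizer_iff]
  intro t ht
  set c := t⁻¹ * (v * t * v⁻¹) with hc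
  have hcQ : c ∈ T₁ := hvT t ht
  have hvc : v * c * v⁻¹ = c := hvq c hcQ
  have hvck : ∀ k : ℕ, v * c ^ k * v⁻¹ = c ^ k := by
    intro k
    have : v * c ^ k * v⁻¹ = (v * c * v⁻¹) ^ k := by
      rw [conj_pow]
    rw [this, hvc]
  have hvt : v * t * v⁻¹ = t * c := by rw [hc]; group
  have hpow2 : ∀ k : ℕ, v ^ k * t * (v ^ k)⁻¹ = t * c ^ k := by
    intro k
    induction k with
    | zero => simp
    | succ k ih =>
      calc v ^ (k + 1) * t * (v ^ (k + 1))⁻¹ = v * (v ^ k * t * (v ^ k)⁻¹) * v⁻¹ := by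
            rw [pow_succ']; group
        _ = v * (t * c ^ k) * v⁻¹ := by rw [ih]
        _ = (v * t * v⁻¹) * (v * c ^ k * v⁻¹) := by group
        _ = t * c * c ^ k := by rw [hvt, hvck]
        _ = t * c ^ (k + 1) := by rw [pow_succ']; group
  have hcn : c ^ orderOf v = 1 := by
    have := hpow2 (orderOf v)
    rw [pow_orderOf_eq_one] at this
    have h3 : t = t * c ^ orderOf v := by simpa using this
    exact (mul_eq_left.mp h3.symm)
  obtain ⟨j, hj⟩ := hT₁p ⟨c, hcQ⟩
  have hj' : c ^ p ^ j = 1 := by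
    have := congrArg Subtype.val hj
    simpa using this
  have hc1 : c = 1 := by
    have h1 : orderOf c ∣ orderOf v := orderOf_dvd_of_pow_eq_one hcn
    have h2 : orderOf c ∣ p ^ j := orderOf_dvd_of_pow_eq_one hj'
    have h3 : (orderOf v).Coprime (p ^ j) := Nat.Coprime.pow_right j hv
    have : orderOf c = 1 := Nat.eq_one_of_dvd_coprimes h3 h1 h2
    exact orderOf_eq_one_iff.mp this
  rw [hc1, mul_one] at hvt
  calc t * v = (v * t * v⁻¹) * v := by rw [hvt]
    _ = v * t := by group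

/-- members of the Alperin–Goldschmidt family are radical: a subgroup of `N_G(T)`, normalized by
`N_G(T)`, whose elements have `p`-power powers in `C_G(T)`, lies in `C_G(T) T` -/
theorem ag_radical (P : Sylow p G) {T : Subgroup G} (hT : T ∈ agFamily p P)
    (N₁ : Subgroup G) (hN₁M : N₁ ≤ Subgroup.normalizer (T : Set G))
    (hN₁n : (N₁.subgroupOf (Subgroup.normalizer (T : Set G))).Normal)
    (hpp : ∀ v ∈ N₁, ∃ a : ℕ, v ^ p ^ a ∈ Subgroup.centralizer (T : Set G))
    (u : G) (huN₁ : u ∈ N₁) :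
    ∃ k ∈ Subgroup.centralizer (T : Set G), ∃ t₀ ∈ T, u = k * t₀ := by
  have hp : p.Prime := Fact.out
  set M := Subgroup.normalizer (T : Set G) with hM
  have hu : u ∈ M := hN₁M huN₁
  have hTp : IsPGroup p T := P.2.to_le hT.1
  have hidp := ag_isInternalDirectProduct P hT
  obtain ⟨hK'L, hTL, hcomm, hdisj, hsup⟩ := hidp
  have hK'comm : ∀ k ∈ relPPrimeCore p M, k ∈ Subgroup.centralizer (T : Set G) := by
    intro k hk
    rw [Subgroup.mem_centralizer_iff]
    intro t ht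
    exact (hcomm k hk t ht).symm
  have hTK : T ≤ Subgroup.normalizer ((relPPrimeCore p M : Subgroup G) : Set G) := by
    intro t ht
    rw [mem_normalizer_iff_lc]
    exact lc_relPPrimeCore (Subgroup.le_normalizer ht)
  -- the exponent of `T`
  obtain ⟨e, he⟩ : ∃ e : ℕ, ∀ t ∈ T, t ^ p ^ e = 1 := by
    obtain ⟨e, he⟩ := (IsPGroup.iff_card.mp hTp)
    refine ⟨e, fun t ht => ?_⟩
    have : (⟨t, ht⟩ : ↥T) ^ Nat.card ↥T = 1 := pow_card_eq_one'
    rw [he] at this
    have := congrArg Subtype.val this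
    simpa using this
  -- every element of `N₁` has a `p`-power power in `O_{p'}(M)`
  have hpow : ∀ x ∈ N₁.subgroupOf M, ∃ a : ℕ, x ^ p ^ a ∈ pPrimeCore p ↥M := by
    intro x hx
    rw [Subgroup.mem_subgroupOf] at hx
    obtain ⟨a, ha⟩ := hpp _ hx
    have hvL : (x : G) ^ p ^ a ∈ relPPrimePCore p M :=
      ag_centralizer_le P hT.1 hT.2.1 hT.2.2.1 ha
    rw [← hsup] at hvL
    obtain ⟨k, hk, t₀, ht₀, hvk⟩ := (mem_sup_of_le_normalizer hTK).mp hvL
    have hkt : Commute k t₀ := hcomm k hk t₀ ht₀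
    have h1 : ((x : G) ^ p ^ a) ^ p ^ e = k ^ p ^ e := by
      rw [hvk, hkt.mul_pow, he t₀ ht₀, mul_one]
    have h2 : (x : G) ^ p ^ (a + e) ∈ relPPrimeCore p M := by
      rw [pow_add, pow_mul, h1]
      exact Subgroup.pow_mem _ hk _
    obtain ⟨k₀, hk₀, hk₀x⟩ := h2
    refine ⟨a + e, ?_⟩
    have : x ^ p ^ (a + e) = k₀ := Subtype.ext (by simpa using hk₀x.symm)
    rw [this]; exact hk₀
  have hle := le_pPrimePCore_of_pow_mem (p := p) (pPrimeCore p ↥M) (N₁.subgroupOf M)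
    inferInstance hN₁n (Cfsg.Agent.Lib.Helper40.pPrimeCore_card_coprime' p ↥M) hpow
  have huL : u ∈ relPPrimePCore p M := by
    refine ⟨⟨u, hu⟩, hle ?_, rfl⟩
    rw [Subgroup.mem_subgroupOf]
    exact huN₁
  rw [← hsup] at huL
  obtain ⟨k, hk, t₀, ht₀, huk⟩ := (mem_sup_of_le_normalizer hTK).mp huL
  exact ⟨k, hK'comm k hk, t₀, ht₀, huk⟩

/-- in the situation of `ag_radical`, the elements of `N₁` lying in `P` lie in `T` -/
theorem ag_radical_mem (P : Sylow p G) {T : Subgroup G} (hT : T ∈ agFamily p P)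
    (N₁ : Subgroup G) (hN₁M : N₁ ≤ Subgroup.normalizer (T : Set G))
    (hN₁n : (N₁.subgroupOf (Subgroup.normalizer (T : Set G))).Normal)
    (hpp : ∀ v ∈ N₁, ∃ a : ℕ, v ^ p ^ a ∈ Subgroup.centralizer (T : Set G))
    (u : G) (huN₁ : u ∈ N₁) (huP : u ∈ (P : Subgroup G)) : u ∈ T := by
  obtain ⟨k, hk, t₀, ht₀, rfl⟩ := ag_radical P hT N₁ hN₁M hN₁n hpp u huN₁
  have hkP : k ∈ (P : Subgroup G) := by
    have : k = (k * t₀) * t₀⁻¹ := by group
    rw [this]
    exact Subgroup.mul_mem _ huP (Subgroup.inv_mem _ (hT.1 ht₀))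
  exact T.mul_mem (hT.2.2.1 ⟨hkP, hk⟩) ht₀

/-- version for subgroups whose elements of order prime to `p` centralize `T` -/
theorem ag_radical_mem' (P : Sylow p G) {T : Subgroup G} (hT : T ∈ agFamily p P)
    (N₁ : Subgroup G) (hN₁M : N₁ ≤ Subgroup.normalizer (T : Set G))
    (hN₁n : (N₁.subgroupOf (Subgroup.normalizer (T : Set G))).Normal)
    (hpp : ∀ v ∈ N₁, (orderOf v).Coprime p → v ∈ Subgroup.centralizer (T : Set G))
    (u : G) (huN₁ : u ∈ N₁) (huP : u ∈ (P : Subgroup G)) : u ∈ T := by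
  have hp : p.Prime := Fact.out
  apply ag_radical_mem P hT N₁ hN₁M hN₁n _ u huN₁ huP
  intro x hx
  set n := orderOf x with hn
  have hn0 : n ≠ 0 := (orderOf_pos x).ne'
  set a := n.factorization p with ha
  have hdvd : p ^ a ∣ n := Nat.ordProj_dvd n p
  have hcop : (n / p ^ a).Coprime p := (Nat.coprime_ordCompl hp hn0).symm
  have hord : orderOf (x ^ p ^ a) = n / p ^ a :=
    orderOf_pow_of_dvd (pow_ne_zero _ hp.ne_zero) hdvd
  exact ⟨a, hpp _ (Subgroup.pow_mem _ hx _) (by rw [hord]; exact hcop)⟩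

/-- a subgroup `Y ≤ P` normalized by `P`... : if `N_Y(T) ≤ T` then `Y ≤ T` -/
theorem le_of_inf_normalizer_le (P : Sylow p G) {T Y : Subgroup G} (hTP : T ≤ (P : Subgroup G))
    (hYP : Y ≤ (P : Subgroup G)) (hYn : (P : Subgroup G) ≤ Subgroup.normalizer (Y : Set G))
    (h : Y ⊓ Subgroup.normalizer (T : Set G) ≤ T) : Y ≤ T := by
  by_contra hle
  set S := T ⊔ Y with hS
  have hSP : S ≤ (P : Subgroup G) := sup_le hTP hYP
  have hne : T ≠ S := by
    intro h'
    apply hle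
    rw [h']; exact le_sup_right
  have hlt := lt_inf_normalizer_of_ne (P.2.to_le hSP) (le_sup_left : T ≤ S) hne
  obtain ⟨x, hx, hxT⟩ := SetLike.exists_of_lt hlt
  have hTY : T ≤ Subgroup.normalizer (Y : Set G) := hTP.trans hYn
  have hx1 : x ∈ T ⊔ Y := hx.1
  rw [sup_comm] at hx1
  obtain ⟨y, hy, t, ht, rfl⟩ := (mem_sup_of_le_normalizer hTY).mp hx1
  apply hxT
  have hyN : y ∈ Subgroup.normalizer (T : Set G) := by
    have : y = (y * t) * t⁻¹ := by group
    rw [this]
    exact Subgroup.mul_mem _ hx.2 (Subgroup.inv_mem _ (Subgroup.le_normalizer ht))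
  exact T.mul_mem (h ⟨hy, hyN⟩) ht

end rad

end Cfsg.Agent.Lib.Helper57.GT
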