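import Mathlib
import Cfsg.Agent.Lib.Helper57.KLQd
import Cfsg.Agent.Lib.Helper57.PStableAll
import Cfsg.Agent.Lib.Helper02.NPStab

/-!
# Groups whose automizers of `p`-subgroups are `SL₂(p)`-free

`AutFree p X`: for no `p`-subgroup `Q` of `X` does `N_X(Q) / C_X(Q)` involve `SL₂(p)` (in the form:
no subgroup `H ≤ N_X(Q)` has a homomorphism onto `SL₂(p)` killing `C_H(Q)`).  The class is closed
under subgroups and quotients, and its members are `p`-stable on their normal `p`-subgroups; so the
Kessar–Linckelmann induction applies to it.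
-/

set_option autoImplicit false
open Cfsg
open Cfsg.Agent.Lib.Helper16
open Cfsg.Agent.Lib.Helper41

universe u

namespace Cfsg.Agent.Lib.Helper57.GT

/-- no automizer of a `p`-subgroup involves `SL₂(p)` -/
def AutFree (p : ℕ) [Fact p.Prime] (X : Type u) [Group X] : Prop :=
  ∀ Q : Subgroup X, IsPGroup p Q → ∀ (H : Subgroup X)
    (f : ↥H →* Matrix.SpecialLinearGroup (Fin 2) (ZMod p)),
    H ≤ Subgroup.normalizer (Q : Set X) →
    (∀ h : ↥H, (h : X) ∈ Subgroup.centralizer (Q : Set X) → f h = 1) → ¬ Function.Surjective f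

section lift

/-- Frattini lifting: a `p`-subgroup of a homomorphic image is the image of a `p`-subgroup whose
normalizer covers the normalizer of the image -/
theorem exists_lift_pSubgroup {X Y : Type*} [Group X] [Finite X] [Group Y] (π : X →* Y)
    (hπ : Function.Surjective π) {p : ℕ} [Fact p.Prime] (Qb : Subgroup Y) (hQb : IsPGroup p Qb) :
    ∃ Q : Subgroup X, IsPGroup p Q ∧ Q.map π = Qb ∧
      ∀ y ∈ Subgroup.normalizer (Qb : Set Y), ∃ n ∈ Subgroup.normalizer (Q : Set X), π n = y := by
  set Nb := Subgroup.normalizer (Qb : Set Y) with hNb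
  set K := Nb.comap π with hK
  set f : ↥K →* ↥Nb := π.subgroupComap Nb with hf
  have hfs : Function.Surjective f := π.subgroupComap_surjective_of_surjective Nb hπ
  have hQ'p : IsPGroup p (Qb.subgroupOf Nb) := hQb.comap_subtype
  obtain ⟨P, hPp, hPmap, hPcov⟩ :=
    Cfsg.Agent.Lib.Helper02.NPStab.exists_lift_of_normal f hfs (Qb.subgroupOf Nb) hQ'p
  refine ⟨P.map K.subtype, hPp.map _, ?_, ?_⟩
  · have h1 : (P.map K.subtype).map π = (P.map f).map Nb.subtype := by
      rw [Subgroup.map_map, Subgroup.map_map]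
      rfl
    rw [h1, hPmap, Subgroup.subgroupOf_map_subtype]
    exact inf_eq_left.mpr Subgroup.le_normalizer
  · intro y hy
    obtain ⟨n, hn, hny⟩ := hPcov ⟨y, hy⟩
    refine ⟨(n : X), ?_, congrArg Subtype.val hny⟩
    apply Subgroup.le_normalizer_map K.subtype
    exact ⟨n, hn, rfl⟩

end lift

section closure

variable {p : ℕ} [Fact p.Prime]

theorem AutFree.subgroup {X : Type u} [Group X] (h : AutFree p X) (Y : Subgroup X) :
    AutFree p ↥Y := by
  intro Q hQ H f hHN hker hsurj
  have hinj : Function.Injective Y.subtype := Y.subtype_injective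
  set e := Subgroup.equivMapOfInjective H Y.subtype hinj with he
  have hecoe : ∀ h : ↥H, ((e h : ↥(H.map Y.subtype)) : X) = ((h : ↥Y) : X) := fun h => rfl
  apply h (Q.map Y.subtype) (hQ.map _) (H.map Y.subtype) (f.comp e.symm.toMonoidHom)
  · exact (Subgroup.map_mono hHN).trans (Subgroup.le_normalizer_map Y.subtype)
  · intro h' hh'
    obtain ⟨h₀, rfl⟩ := e.surjective h'
    show f (e.symm (e h₀)) = 1
    rw [MulEquiv.symm_apply_apply]
    apply hker
    rw [Subgroup.mem_centralizer_iff]
    intro q hq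
    apply Subtype.ext
    have := Subgroup.mem_centralizer_iff.mp hh' (q : X) ⟨q, hq, rfl⟩
    rw [hecoe] at this
    exact this
  · intro s
    obtain ⟨h₀, rfl⟩ := hsurj s
    exact ⟨e h₀, by show f (e.symm (e h₀)) = f h₀; rw [MulEquiv.symm_apply_apply]⟩

theorem AutFree.quotient {X : Type u} [Group X] [Finite X] (h : AutFree p X) (N : Subgroup X)
    [N.Normal] : AutFree p (X ⧸ N) := by
  intro Qb hQb Hb fb hHN hker hsurj
  set π := QuotientGroup.mk' N with hπ
  have hπs : Function.Surjective π := QuotientGroup.mk'_surjective N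
  obtain ⟨Q, hQp, hQmap, hQcov⟩ := exists_lift_pSubgroup π hπs Qb hQb
  set H := Hb.comap π ⊓ Subgroup.normalizer (Q : Set X) with hH
  set g : ↥H →* ↥Hb := (π.subgroupComap Hb).comp (Subgroup.inclusion inf_le_left) with hg
  have hgval : ∀ x : ↥H, ((g x : ↥Hb) : X ⧸ N) = π (x : X) := fun x => rfl
  apply h Q hQp H (fb.comp g) inf_le_right
  · intro x hx
    show fb (g x) = 1
    apply hker
    rw [hgval, Subgroup.mem_centralizer_iff]
    intro qb hqb
    have hqb' : qb ∈ Q.map π := by rw [hQmap]; exact hqb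
    obtain ⟨q, hq, rfl⟩ := hqb'
    have := Subgroup.mem_centralizer_iff.mp hx q hq
    rw [← map_mul, ← map_mul, this]
  · intro s
    obtain ⟨hb, rfl⟩ := hsurj s
    obtain ⟨n, hn, hnb⟩ := hQcov (hb : X ⧸ N) (hHN hb.2)
    have hnc : n ∈ Hb.comap π := by
      rw [Subgroup.mem_comap, hnb]; exact hb.2
    have hnH : n ∈ H := ⟨hnc, hn⟩
    refine ⟨⟨n, hnH⟩, ?_⟩
    show fb (g ⟨n, hnH⟩) = fb hb
    congr 1
    exact Subtype.ext hnb

/-- members of the class are `p`-stable on their normal `p`-subgroups -/
theorem AutFree.isPStableOn {X : Type u} [Group X] [Finite X] (hp : p ≠ 2) (h : AutFree p X)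
    (V : Subgroup X) [V.Normal] (hV : IsPGroup p V) : Cfsg.IsPStableOn p V := by
  intro a hq
  by_contra hcon
  set C := Subgroup.centralizer (V : Set X) with hC
  have hquad : Cfsg.Agent.Lib.Helper02.PStab.QuadG (PStableAll.quotAct V)
      (QuotientGroup.mk a : X ⧸ C) := by
    intro v
    apply Subtype.ext
    rw [PStableAll.quotAct_mk, Subgroup.coe_mul, Subgroup.coe_inv, PStableAll.quotAct_mk]
    exact Cfsg.Agent.Lib.Helper52.conj_comm_of_quadratic V a hq v v.2
  have hinv := Cfsg.Agent.Lib.Helper02.NPStab.involves_SL2_of_quadG hp hV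
    (PStableAll.quotAct V) (PStableAll.quotAct_injective V) (QuotientGroup.mk a) hquad
    (fun N hN hNp haN => hcon (ZJ.le_pCore hN hNp haN))
  obtain ⟨Kb, fb, hfb⟩ := Cfsg.Agent.Lib.Helper90.exists_hom_of_involves hinv
  set π := QuotientGroup.mk' C with hπ
  have hπs : Function.Surjective π := QuotientGroup.mk'_surjective C
  set H := Kb.comap π with hH
  set g : ↥H →* ↥Kb := π.subgroupComap Kb with hg
  have hgs : Function.Surjective g := π.subgroupComap_surjective_of_surjective Kb hπs
  apply h V hV H (fb.comp g)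
  · intro x _
    have : Subgroup.normalizer (V : Set X) = ⊤ := Subgroup.normalizer_eq_top V
    rw [this]; trivial
  · intro x hx
    show fb (g x) = 1
    have : g x = 1 := by
      apply Subtype.ext
      show π (x : X) = 1
      rw [hπ, QuotientGroup.mk'_apply, QuotientGroup.eq_one_iff]
      exact hx
    rw [this, map_one]
  · exact hfb.comp hgs

/-- the class of groups with `SL₂(p)`-free automizers is a class to which the induction applies -/
theorem stabClass_autFree (hp : p ≠ 2) {Q : ∀ (X : Type u) [Group X], Subgroup X → Prop}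
    (hQ : GoodFam p Q) : StabClass p Q (fun (X : Type u) [Group X] => AutFree p X) where
  sub := fun _ _ _ hX K => hX.subgroup K
  quot := fun _ _ _ hX N _ => hX.quotient N
  zj := fun X _ _ hX hc P D hD =>
    ZJ.WW_normal_sc hp (hQ.good X) hc P
      (ZJ.stableFor_of_isPStableOn (fun V _ hV => hX.isPStableOn hp V hV) (P : Subgroup X)) D hD

/-- control of strong fusion by `N(W(D))` in groups with `SL₂(p)`-free automizers -/
theorem ctlAll_of_autFree (hp : p ≠ 2) {Q : ∀ (X : Type u) [Group X], Subgroup X → Prop}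
    (hQ : GoodFam p Q) (X : Type u) [Group X] [Finite X] (hX : AutFree p X) : CtlAll p Q X :=
  ctlAll_of_stabClass hQ (stabClass_autFree hp hQ) X hX

end closure

end Cfsg.Agent.Lib.Helper57.GT
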