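import Mathlib
import Cfsg.Agent.Lib.Helper57.SL2Aut

/-!
# The hypothesis "no `N_G(Q) / C_G(Q)` involves `SL₂(p)`" in explicit form gives `AutFree`
-/

set_option autoImplicit false
open Cfsg

universe u

namespace Cfsg.Agent.Lib.Helper57.GT

section hyp

variable {p : ℕ} [Fact p.Prime] {G : Type u} [Group G]

theorem autFree_of_hyp
    (hfree : ∀ Q : Subgroup G, IsPGroup p ↥Q → ¬ ∃ (H K : Subgroup G) (_ : (K.subgroupOf H).Normal),
      Subgroup.centralizer (Q : Set G) ≤ K ∧ K ≤ H ∧ H ≤ Subgroup.normalizer (Q : Set G) ∧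
      Nonempty ((↥H ⧸ K.subgroupOf H) ≃* Matrix.SpecialLinearGroup (Fin 2) (ZMod p))) :
    AutFree p G := by
  intro Q hQ H f hHN hker hsurj
  apply hfree Q hQ
  set N := Subgroup.normalizer (Q : Set G) with hN
  set C := Subgroup.centralizer (Q : Set G) with hC
  have hCN : C ≤ N := Subgroup.centralizer_le_normalizer (Q : Set G)
  have hC'n : (C.subgroupOf N).Normal := by
    rw [Subgroup.normal_subgroupOf_iff hCN]
    intro c n hc hn
    exact Cfsg.Agent.Lib.Helper41.conj_mem_centralizer hn hc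
  set π := QuotientGroup.mk' (C.subgroupOf N) with hπ
  have hπs : Function.Surjective π := QuotientGroup.mk'_surjective _
  have hπ1 : ∀ x : ↥N, π x = 1 ↔ (x : G) ∈ C := by
    intro x
    rw [hπ, QuotientGroup.mk'_apply, QuotientGroup.eq_one_iff, Subgroup.mem_subgroupOf]
  set j : ↥H →* ↥N ⧸ C.subgroupOf N := π.comp (Subgroup.inclusion hHN) with hj
  have hjs : Function.Surjective j.rangeRestrict := j.rangeRestrict_surjective
  have hjker : j.rangeRestrict.ker ≤ f.ker := by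
    intro x hx
    rw [MonoidHom.mem_ker] at hx ⊢
    have h1 : j x = 1 := by
      have := congrArg Subtype.val hx
      simpa using this
    have h2 : ((Subgroup.inclusion hHN x : ↥N) : G) ∈ C := (hπ1 _).mp h1
    exact hker x h2
  set fb : ↥j.range →* Matrix.SpecialLinearGroup (Fin 2) (ZMod p) :=
    (j.rangeRestrict.liftOfSurjective hjs) ⟨f, hjker⟩ with hfb
  have hfbj : ∀ x : ↥H, fb (j.rangeRestrict x) = f x := by
    intro x
    rw [hfb]
    exact MonoidHom.liftOfRightInverse_comp_apply _ _ _ _ x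
  have hfbs : Function.Surjective fb := by
    intro s
    obtain ⟨x, rfl⟩ := hsurj s
    exact ⟨_, hfbj x⟩
  set H₁ : Subgroup ↥N := j.range.comap π with hH₁
  set g₁ : ↥H₁ →* Matrix.SpecialLinearGroup (Fin 2) (ZMod p) :=
    fb.comp (π.subgroupComap j.range) with hg₁
  have hg₁s : Function.Surjective g₁ :=
    hfbs.comp (π.subgroupComap_surjective_of_surjective j.range hπs)
  set i : ↥H₁ →* G := N.subtype.comp H₁.subtype with hi
  have hinj : Function.Injective i :=
    (Subgroup.subtype_injective N).comp (Subgroup.subtype_injective H₁)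
  set e : ↥H₁ ≃* ↥i.range := MonoidHom.ofInjective hinj with he
  set f₀ : ↥i.range →* Matrix.SpecialLinearGroup (Fin 2) (ZMod p) :=
    g₁.comp e.symm.toMonoidHom with hf₀
  have hf₀s : Function.Surjective f₀ := by
    intro s
    obtain ⟨k, rfl⟩ := hg₁s s
    exact ⟨e k, by simp [f₀]⟩
  have hkereq : (f₀.ker.map i.range.subtype).subgroupOf i.range = f₀.ker := by
    rw [Subgroup.subgroupOf]
    exact Subgroup.comap_map_eq_self_of_injective (Subgroup.subtype_injective _) _
  have hnorm : ((f₀.ker.map i.range.subtype).subgroupOf i.range).Normal := by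
    rw [hkereq]; infer_instance
  refine ⟨i.range, f₀.ker.map i.range.subtype, hnorm, ?_, ?_, ?_, ?_⟩
  · -- `C ≤ K`
    intro c hc
    have hcN : c ∈ N := hCN hc
    have hcH₁ : (⟨c, hcN⟩ : ↥N) ∈ H₁ := by
      rw [hH₁, Subgroup.mem_comap, (hπ1 _).mpr hc]
      exact Subgroup.one_mem _
    have hci : i ⟨⟨c, hcN⟩, hcH₁⟩ = c := rfl
    refine ⟨⟨c, ⟨⟨⟨c, hcN⟩, hcH₁⟩, hci⟩⟩, ?_, rfl⟩
    apply MonoidHom.mem_ker.mpr
    have h1 : e.symm ⟨c, ⟨⟨⟨c, hcN⟩, hcH₁⟩, hci⟩⟩ = ⟨⟨c, hcN⟩, hcH₁⟩ := by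
      rw [MulEquiv.symm_apply_eq]
      exact Subtype.ext hci.symm
    show g₁ (e.symm _) = 1
    rw [h1]
    show fb (π.subgroupComap j.range ⟨⟨c, hcN⟩, hcH₁⟩) = 1
    have h2 : π.subgroupComap j.range ⟨⟨c, hcN⟩, hcH₁⟩ = 1 := by
      apply Subtype.ext
      show π ⟨c, hcN⟩ = 1
      exact (hπ1 _).mpr hc
    rw [h2, map_one]
  · exact Subgroup.map_subtype_le _
  · rintro _ ⟨x, rfl⟩
    exact (x : ↥N).2
  · exact ⟨(QuotientGroup.quotientMulEquivOfEq hkereq).trans
      (QuotientGroup.quotientKerEquivOfSurjective f₀ hf₀s)⟩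

end hyp

end Cfsg.Agent.Lib.Helper57.GT
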