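import Cfsg.Agent.Lib.Helper57.AutSqStruct2

/-!
# K-S5289-D2: no automorphism of `G(p,n;s)` acts on `S/A` by `l` with `l² ≠ 1`
-/

set_option autoImplicit false

namespace Cfsg.Agent.Lib.Helper57.AutSq

open Cfsg Cfsg.Agent.Lib.Helper89
open scoped Pointwise

variable {Ω : Type*} [Group Ω] {S : Subgroup Ω} {p n s : ℕ} {x y z : Ω}

/-- elements of the closure of two commuting elements of finite order -/
theorem exists_of_mem_closure_pair {u v : Ω} {N M : ℕ} (hN : 0 < N) (hM : 0 < M)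
    (hu : u ^ N = 1) (hv : v ^ M = 1) (huv : u * v = v * u) {a : Ω}
    (ha : a ∈ Subgroup.closure ({u, v} : Set Ω)) : ∃ j k : ℕ, a = u ^ j * v ^ k := by
  have hAsup : Subgroup.closure ({u, v} : Set Ω) = Subgroup.zpowers u ⊔ Subgroup.zpowers v := by
    rw [Subgroup.zpowers_eq_closure, Subgroup.zpowers_eq_closure, ← Subgroup.closure_union]
    rfl
  have hyn : Subgroup.zpowers u ≤ Subgroup.normalizer (Subgroup.zpowers v : Set Ω) := by
    refine le_trans ?_ (Subgroup.centralizer_le_normalizer (Subgroup.zpowers v : Set Ω))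
    rw [Subgroup.zpowers_le, Subgroup.mem_centralizer_iff]
    intro h hh
    obtain ⟨k, rfl⟩ := Subgroup.mem_zpowers_iff.1 hh
    exact ((show Commute u v from huv).zpow_right k).eq.symm
  have hAset : ((Subgroup.zpowers u ⊔ Subgroup.zpowers v : Subgroup Ω) : Set Ω)
      = (Subgroup.zpowers u : Set Ω) * (Subgroup.zpowers v : Set Ω) :=
    Subgroup.coe_mul_of_left_le_normalizer_right _ _ hyn
  rw [hAsup] at ha
  have ha' : a ∈ ((Subgroup.zpowers u ⊔ Subgroup.zpowers v : Subgroup Ω) : Set Ω) := ha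
  rw [hAset] at ha'
  obtain ⟨u', hu', v', hv', rfl⟩ := ha'
  obtain ⟨j, rfl⟩ := exists_pow_of_mem_zpowers hN hu hu'
  obtain ⟨k, rfl⟩ := exists_pow_of_mem_zpowers hM hv hv'
  exact ⟨j, k, rfl⟩

theorem y_mem_D : y ∈ Subgroup.closure ({y, z ^ p ^ (n - 3)} : Set Ω) :=
  Subgroup.subset_closure (by simp)

theorem c_mem_D : z ^ p ^ (n - 3) ∈ Subgroup.closure ({y, z ^ p ^ (n - 3)} : Set Ω) :=
  Subgroup.subset_closure (by simp)

theorem zc_le_D :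
    Subgroup.zpowers (z ^ p ^ (n - 3)) ≤ Subgroup.closure ({y, z ^ p ^ (n - 3)} : Set Ω) := by
  rw [Subgroup.zpowers_le]; exact c_mem_D

theorem D_le_A :
    Subgroup.closure ({y, z ^ p ^ (n - 3)} : Set Ω) ≤ Subgroup.closure ({y, z} : Set Ω) := by
  rw [Subgroup.closure_le]
  rintro g (rfl | rfl)
  · exact y_mem_A
  · exact c_mem_A

theorem yc_comm (D : DData S p n s x y z) : y * z ^ p ^ (n - 3) = z ^ p ^ (n - 3) * y :=
  ((show Commute y z from D.yz).pow_right _).eq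

theorem exists_of_mem_D (D : DData S p n s x y z) [Fact p.Prime] {d : Ω}
    (hd : d ∈ Subgroup.closure ({y, z ^ p ^ (n - 3)} : Set Ω)) :
    ∃ j t : ℕ, d = y ^ j * (z ^ p ^ (n - 3)) ^ t :=
  exists_of_mem_closure_pair (prime_pos' (p := p)) (prime_pos' (p := p)) D.yp (c_pow D)
    (yc_comm D) hd

theorem D_exp (D : DData S p n s x y z) [Fact p.Prime] {d : Ω}
    (hd : d ∈ Subgroup.closure ({y, z ^ p ^ (n - 3)} : Set Ω)) : d ^ p = 1 := by
  obtain ⟨j, t, rfl⟩ := exists_of_mem_D D hd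
  have hc : Commute (y ^ j) ((z ^ p ^ (n - 3)) ^ t) :=
    (show Commute y (z ^ p ^ (n - 3)) from yc_comm D).pow_pow j t
  rw [hc.mul_pow, ← pow_mul, mul_comm j p, pow_mul, D.yp, one_pow, one_mul, ← pow_mul,
    mul_comm t p, pow_mul, c_pow D, one_pow]

/-- `dr (x ^ i)` maps `A` into `D` -/
theorem drxi_A (D : DData S p n s x y z) [Fact p.Prime] (i : ℕ) {u : Ω}
    (hu : u ∈ Subgroup.closure ({y, z} : Set Ω)) :
    dr (x ^ i) u ∈ Subgroup.closure ({y, z ^ p ^ (n - 3)} : Set Ω) := by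
  obtain ⟨j, k, rfl⟩ := exists_of_mem_A D hu
  rw [drxi_mul D i (Subgroup.pow_mem _ y_mem_A j) (Subgroup.pow_mem _ z_mem_A k),
    drxi_pow D i y_mem_A, drxi_pow D i z_mem_A, drxi_y D]
  obtain ⟨w, hw, hz⟩ := drxi_z D i
  rw [hz]
  refine Subgroup.mul_mem _ (Subgroup.pow_mem _ (Subgroup.pow_mem _ (Subgroup.pow_mem _ c_mem_D _) _) _)
    (Subgroup.pow_mem _ (Subgroup.mul_mem _ (Subgroup.pow_mem _ y_mem_D _) (zc_le_D hw)) _)

theorem drxi_c (D : DData S p n s x y z) (i t : ℕ) : dr (x ^ i) ((z ^ p ^ (n - 3)) ^ t) = 1 := by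
  apply dr_of_comm
  exact zc_central D _ (Subgroup.pow_mem _ (Subgroup.mem_zpowers _) t) _ (S.pow_mem D.hxS i)

/-- `dr (x ^ i)` maps `D` into `<c>` -/
theorem drxi_D (D : DData S p n s x y z) [Fact p.Prime] (i : ℕ) {d : Ω}
    (hd : d ∈ Subgroup.closure ({y, z ^ p ^ (n - 3)} : Set Ω)) :
    dr (x ^ i) d ∈ Subgroup.zpowers (z ^ p ^ (n - 3)) := by
  obtain ⟨j, t, rfl⟩ := exists_of_mem_D D hd
  rw [drxi_mul D i (Subgroup.pow_mem _ y_mem_A j) (Subgroup.pow_mem _ c_mem_A t),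
    drxi_pow D i y_mem_A, drxi_y D, drxi_c D, mul_one]
  exact Subgroup.pow_mem _ (Subgroup.pow_mem _ (cs_mem D) _) _

/-- the second displacement of `z` -/
theorem drxi_drxi_z (D : DData S p n s x y z) [Fact p.Prime] (i : ℕ) :
    dr (x ^ i) (dr (x ^ i) z) = (z ^ p ^ (n - 3)) ^ (s * i * i) := by
  obtain ⟨w, hw, hz⟩ := drxi_z D i
  obtain ⟨t, rfl⟩ := exists_pow_of_mem_zpowers (prime_pos' (p := p)) (c_pow D) hw
  rw [hz, drxi_mul D i (Subgroup.pow_mem _ y_mem_A i) (Subgroup.pow_mem _ c_mem_A t),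
    drxi_pow D i y_mem_A, drxi_y D, drxi_c D, mul_one, ← pow_mul, ← pow_mul, mul_assoc]

theorem coe_dr (g u : ↥S) : ((dr g u : ↥S) : Ω) = dr (g : Ω) (u : Ω) := rfl

end Cfsg.Agent.Lib.Helper57.AutSq

namespace Cfsg.Agent.Lib.Helper57

open Cfsg Cfsg.Agent.Lib.Helper89
open Cfsg.Agent.Lib.Helper57.AutSq

variable {Ω : Type*} [Group Ω] {S : Subgroup Ω} {p n s : ℕ} {x y z : Ω}

/-- every automorphism of `S` maps `z` into `A = ⟨y, z⟩` -/
theorem AutSq.aut_z_mem_A [Fact p.Prime] (D : DData S p n s x y z) (φ : MulAut S) (z' : ↥S)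
    (hz' : (z' : Ω) = z) : ((φ z' : ↥S) : Ω) ∈ Subgroup.closure ({y, z} : Set Ω) := by
  obtain ⟨x', hx'⟩ : ∃ x' : ↥S, (x' : Ω) = x := ⟨⟨x, D.hxS⟩, rfl⟩
  obtain ⟨y', hy'⟩ : ∃ y' : ↥S, (y' : Ω) = y := ⟨⟨y, D.hyS⟩, rfl⟩
  apply mem_A_of_comm D (φ z').2
  have hyc : y' = x'⁻¹ * z' * x'⁻¹⁻¹ * z'⁻¹ := by
    apply Subtype.ext
    rw [Subgroup.coe_mul, Subgroup.coe_mul, Subgroup.coe_mul, Subgroup.coe_inv, Subgroup.coe_inv,
      Subgroup.coe_inv, Subgroup.coe_inv, hx', hy', hz', inv_inv, D.rel2]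
    group
  have hψ : ((φ.symm y' : ↥S) : Ω) ∈ Subgroup.closure ({y, z} : Set Ω) := by
    obtain ⟨g, hg⟩ : ∃ g : ↥S, g = (φ.symm x')⁻¹ := ⟨_, rfl⟩
    obtain ⟨h, hh⟩ : ∃ h : ↥S, h = φ.symm z' := ⟨_, rfl⟩
    have h0 : φ.symm y' = g * h * g⁻¹ * h⁻¹ := by
      rw [hyc, hg, hh]; simp only [map_mul, map_inv]
    rw [h0, Subgroup.coe_mul, Subgroup.coe_mul, Subgroup.coe_mul, Subgroup.coe_inv,
      Subgroup.coe_inv]
    exact comm_mem_A D g.2 h.2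
  have h1 : (φ.symm y' : ↥S) * z' = z' * φ.symm y' := by
    apply Subtype.ext
    rw [Subgroup.coe_mul, Subgroup.coe_mul, hz']
    exact A_comm D _ hψ z z_mem_A
  have h2 := congrArg φ h1
  rw [map_mul, map_mul, MulEquiv.apply_symm_apply] at h2
  have h3 := congrArg Subtype.val h2
  rw [Subgroup.coe_mul, Subgroup.coe_mul, hy'] at h3
  exact h3.symm

/-- K-S5289-D2: no automorphism of `G(p,n;s)` acts on `S/A` by a scalar `l` with `l² ≠ 1`. -/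
theorem DData.aut_sq [Fact p.Prime] (D : DData S p n s x y z) (φ : MulAut S) (r : Ω) (hrS : r ∈ S)
    (hr : r * y ≠ y * r) (l : ℕ) (a : Ω) (haS : a ∈ S) (hay : a * y = y * a)
    (hφ : ((φ ⟨r, hrS⟩ : S) : Ω) = r ^ l * a) : l * l ≡ 1 [MOD p] := by
  have hp : p.Prime := Fact.out
  have hn := D.hn
  obtain ⟨i, hi, a1, ha1, hra⟩ := exists_of_not_comm D hrS hr
  obtain ⟨z', hz'⟩ : ∃ z' : ↥S, (z' : Ω) = z := ⟨⟨z, D.hzS⟩, rfl⟩
  obtain ⟨y', hy'⟩ : ∃ y' : ↥S, (y' : Ω) = y := ⟨⟨y, D.hyS⟩, rfl⟩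
  obtain ⟨a', ha'⟩ : ∃ a' : ↥S, (a' : Ω) = a := ⟨⟨a, haS⟩, rfl⟩
  obtain ⟨r', hr', hφr'⟩ : ∃ r' : ↥S, (r' : Ω) = r ∧ ((φ r' : ↥S) : Ω) = r ^ l * a :=
    ⟨⟨r, hrS⟩, rfl, hφ⟩
  obtain ⟨A', hA'⟩ : ∃ A' : Subgroup ↥S, ∀ u : ↥S,
      u ∈ A' ↔ (u : Ω) ∈ Subgroup.closure ({y, z} : Set Ω) :=
    ⟨(Subgroup.closure ({y, z} : Set Ω)).subgroupOf S, fun _ => Subgroup.mem_subgroupOf⟩
  obtain ⟨D', hD'⟩ : ∃ D' : Subgroup ↥S, ∀ u : ↥S,
      u ∈ D' ↔ (u : Ω) ∈ Subgroup.closure ({y, z ^ p ^ (n - 3)} : Set Ω) :=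
    ⟨(Subgroup.closure ({y, z ^ p ^ (n - 3)} : Set Ω)).subgroupOf S,
      fun _ => Subgroup.mem_subgroupOf⟩
  have hφzA := AutSq.aut_z_mem_A D φ z' hz'
  obtain ⟨j, k, hjk⟩ := exists_of_mem_A D hφzA
  have hcoe_c : ((z' ^ p ^ (n - 3) : ↥S) : Ω) = z ^ p ^ (n - 3) := by
    rw [Subgroup.coe_pow, hz']
  have hAab : ∀ u ∈ A', ∀ v ∈ A', u * v = v * u :=
    fun u hu v hv => Subtype.ext (A_comm D u ((hA' u).mp hu) v ((hA' v).mp hv))
  have hcc : ∀ g : ↥S, g * z' ^ p ^ (n - 3) = z' ^ p ^ (n - 3) * g := by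
    intro g
    apply Subtype.ext
    rw [Subgroup.coe_mul, Subgroup.coe_mul, hcoe_c]
    exact c_central D g g.2
  have hcp : (z' ^ p ^ (n - 3)) ^ p = 1 := by
    apply Subtype.ext
    rw [Subgroup.coe_pow, hcoe_c]
    exact c_pow D
  have hc1 : z' ^ p ^ (n - 3) ≠ 1 := by
    intro h
    have := congrArg Subtype.val h
    rw [hcoe_c] at this
    exact c_ne D this
  have hDA : D' ≤ A' := fun d hd => (hA' d).mpr (D_le_A ((hD' d).mp hd))
  have hDp : ∀ d ∈ D', d ^ p = 1 := by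
    intro d hd
    apply Subtype.ext
    rw [Subgroup.coe_pow]
    exact D_exp D ((hD' d).mp hd)
  have h1 : ∀ u ∈ A', dr r' u ∈ D' := by
    intro u hu
    rw [hD', coe_dr, hr', hra, dr_r_eq D i ha1 ((hA' u).mp hu)]
    exact drxi_A D i ((hA' u).mp hu)
  have h2 : ∀ d ∈ D', dr r' d ∈ Subgroup.zpowers (z' ^ p ^ (n - 3)) := by
    intro d hd
    have hdA := D_le_A ((hD' d).mp hd)
    have h := drxi_D D i ((hD' d).mp hd)
    rw [← dr_r_eq D i ha1 hdA, ← hra, ← hr', ← coe_dr] at h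
    obtain ⟨t, ht⟩ := Subgroup.mem_zpowers_iff.mp h
    refine Subgroup.mem_zpowers_iff.mpr ⟨t, Subtype.ext ?_⟩
    rw [Subgroup.coe_zpow, hcoe_c]
    exact ht
  have haA : a' ∈ A' := (hA' a').mpr (by rw [ha']; exact mem_A_of_comm D haS hay)
  have hφr : φ r' = r' ^ l * a' := by
    apply Subtype.ext
    rw [Subgroup.coe_mul, Subgroup.coe_pow, hr', ha']
    exact hφr'
  have hz : z' ∈ A' := (hA' z').mpr (by rw [hz']; exact z_mem_A)
  have hd0 : y' ^ j ∈ D' := by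
    apply Subgroup.pow_mem
    rw [hD', hy']
    exact y_mem_D
  have hφz : φ z' = z' ^ k * y' ^ j := by
    apply Subtype.ext
    rw [Subgroup.coe_mul, Subgroup.coe_pow, Subgroup.coe_pow, hz', hy', hjk]
    exact ((show Commute y z from D.yz).pow_pow j k).eq
  have hm : p ∣ p ^ (n - 3) := dvd_pow_self p (by omega)
  have hne : dr r' (dr r' z') ≠ 1 := by
    intro h
    have h3 := congrArg Subtype.val h
    rw [coe_dr, coe_dr, hr', hz', Subgroup.coe_one, hra, dr_r_eq D i ha1 z_mem_A,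
      dr_r_eq D i ha1 (drxi_mem_A D i z_mem_A), drxi_drxi_z D i] at h3
    have h4 := orderOf_dvd_of_pow_eq_one h3
    rw [orderOf_c D] at h4
    rcases hp.dvd_mul.mp h4 with h5 | h5
    · rcases hp.dvd_mul.mp h5 with h6 | h6
      · exact D.hs h6
      · exact hi h6
    · exact hi h5
  exact core (G := ↥S) (p := p) A' D' hAab (z' ^ p ^ (n - 3)) hcc hcp hc1 r' hDA hDp h1 h2 φ l a'
    haA hφr z' hz k (y' ^ j) hd0 hφz (p ^ (n - 3)) hm rfl hne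

end Cfsg.Agent.Lib.Helper57
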