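import Mathlib

/-!
# Abstract core for K-S5289-D2

`A` an abelian subgroup of `G` normalized by `r`, `c` central of order `p`; with
`dr r u = u⁻¹ * (r⁻¹ * u * r)`: if `dr r` maps `A` to `D`, `D` to `<c>`, and an automorphism `φ`
maps `r` to `r ^ l * a₀` (`a₀ ∈ A`) and `z` to `z ^ κ * d₀` (`d₀ ∈ D`), `c = z ^ m` with `p ∣ m`, and
`dr r (dr r z) ≠ 1`, then `l * l ≡ 1 [MOD p]`.
-/

set_option autoImplicit false

namespace Cfsg.Agent.Lib.Helper57.AutSq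

variable {G : Type*} [Group G]

/-- the displacement of `u` under conjugation by `r` -/
def dr (r u : G) : G := u⁻¹ * (r⁻¹ * u * r)

theorem conj_eq (r u : G) : r⁻¹ * u * r = u * dr r u := by unfold dr; group

theorem dr_of_comm {r u : G} (h : r * u = u * r) : dr r u = 1 := by
  unfold dr
  have : r⁻¹ * u * r = u := by
    calc r⁻¹ * u * r = r⁻¹ * (u * r) := by group
      _ = r⁻¹ * (r * u) := by rw [h]
      _ = u := by group
  rw [this]; group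

theorem dr_hom (φ : G ≃* G) (r u : G) : φ (dr r u) = dr (φ r) (φ u) := by
  unfold dr; simp only [map_mul, map_inv]

theorem inv_conj_pow (r d : G) (k : ℕ) : (r⁻¹ * d * r) ^ k = r⁻¹ * d ^ k * r := by
  induction k with
  | zero => simp
  | succ k ih => rw [pow_succ, ih, pow_succ]; group

theorem dr_mul (g u v : G) (hc : v * dr g u = dr g u * v) : dr g (u * v) = dr g u * dr g v := by
  have h1 : v⁻¹ * dr g u = dr g u * v⁻¹ := by
    calc v⁻¹ * dr g u = v⁻¹ * (dr g u * v) * v⁻¹ := by group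
      _ = v⁻¹ * (v * dr g u) * v⁻¹ := by rw [hc]
      _ = dr g u * v⁻¹ := by group
  calc dr g (u * v) = v⁻¹ * (u⁻¹ * (g⁻¹ * u * g)) * (g⁻¹ * v * g) := by unfold dr; group
    _ = v⁻¹ * dr g u * (g⁻¹ * v * g) := rfl
    _ = dr g u * v⁻¹ * (g⁻¹ * v * g) := by rw [h1]
    _ = dr g u * dr g v := by unfold dr; group

theorem dr_pow (g u : G) (hc : u * (g⁻¹ * u * g) = (g⁻¹ * u * g) * u) (k : ℕ) :
    dr g (u ^ k) = dr g u ^ k := by
  have hcomm : Commute u⁻¹ (g⁻¹ * u * g) := (Commute.inv_left (show Commute u (g⁻¹ * u * g) from hc))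
  unfold dr
  rw [hcomm.mul_pow, inv_conj_pow, inv_pow]

theorem dr_mul_right_comm (g a u : G) (h : a * (g⁻¹ * u * g) = (g⁻¹ * u * g) * a) :
    dr (g * a) u = dr g u := by
  unfold dr
  have : (g * a)⁻¹ * u * (g * a) = a⁻¹ * ((g⁻¹ * u * g) * a) := by group
  rw [this, ← h]; group

/-- conjugation by `r ^ l`, exact version -/
theorem conj_pow_exact (r u : G) (hd : r⁻¹ * dr r u * r = dr r u)
    (l : ℕ) : (r ^ l)⁻¹ * u * r ^ l = u * dr r u ^ l := by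
  induction l with
  | zero => simp
  | succ k ih =>
    have h1 : (r ^ (k + 1))⁻¹ * u * r ^ (k + 1) = r⁻¹ * ((r ^ k)⁻¹ * u * r ^ k) * r := by
      rw [pow_succ]; group
    rw [h1, ih]
    have h2 : r⁻¹ * (u * dr r u ^ k) * r = (r⁻¹ * u * r) * (r⁻¹ * dr r u * r) ^ k := by
      rw [inv_conj_pow]; group
    rw [h2, hd, conj_eq, pow_succ]
    group

theorem dr_pow_left_exact (r u : G) (hd : r⁻¹ * dr r u * r = dr r u) (l : ℕ) :
    dr (r ^ l) u = dr r u ^ l := by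
  have := conj_pow_exact r u hd l
  unfold dr at this ⊢
  rw [this]; group

/-- conjugation by `r ^ l`, modulo a central subgroup -/
theorem conj_pow_mod (r u : G) (Z : Subgroup G) (hZ : ∀ w ∈ Z, ∀ g : G, g * w = w * g)
    (he : dr r (dr r u) ∈ Z) (l : ℕ) :
    ∃ w ∈ Z, (r ^ l)⁻¹ * u * r ^ l = u * dr r u ^ l * w := by
  induction l with
  | zero => exact ⟨1, Z.one_mem, by simp⟩
  | succ k ih =>
    obtain ⟨w, hw, ih⟩ := ih
    refine ⟨dr r (dr r u) ^ k * w, Z.mul_mem (Z.pow_mem he k) hw, ?_⟩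
    have h1 : (r ^ (k + 1))⁻¹ * u * r ^ (k + 1) = r⁻¹ * ((r ^ k)⁻¹ * u * r ^ k) * r := by
      rw [pow_succ]; group
    rw [h1, ih]
    have h2 : r⁻¹ * (u * dr r u ^ k * w) * r
        = (r⁻¹ * u * r) * (r⁻¹ * dr r u * r) ^ k * (r⁻¹ * w * r) := by
      rw [inv_conj_pow]; group
    have h3 : r⁻¹ * w * r = w := by
      have := hZ w hw r
      calc r⁻¹ * w * r = r⁻¹ * (w * r) := by group
        _ = r⁻¹ * (r * w) := by rw [this]
        _ = w := by group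
    have hcomm : Commute (dr r u) (dr r (dr r u)) := (hZ _ he (dr r u))
    rw [h2, h3, conj_eq r u, conj_eq r (dr r u), hcomm.mul_pow, pow_succ]
    group

/-- conjugation by `r ^ l`, modulo a subgroup commuting with `r` and `dr r u` -/
theorem conj_pow_mod' (r u : G) (Z : Subgroup G) (hZr : ∀ w ∈ Z, r * w = w * r)
    (hZd : ∀ w ∈ Z, dr r u * w = w * dr r u)
    (he : dr r (dr r u) ∈ Z) (l : ℕ) :
    ∃ w ∈ Z, (r ^ l)⁻¹ * u * r ^ l = u * dr r u ^ l * w := by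
  induction l with
  | zero => exact ⟨1, Z.one_mem, by simp⟩
  | succ k ih =>
    obtain ⟨w, hw, ih⟩ := ih
    refine ⟨dr r (dr r u) ^ k * w, Z.mul_mem (Z.pow_mem he k) hw, ?_⟩
    have h1 : (r ^ (k + 1))⁻¹ * u * r ^ (k + 1) = r⁻¹ * ((r ^ k)⁻¹ * u * r ^ k) * r := by
      rw [pow_succ]; group
    rw [h1, ih]
    have h2 : r⁻¹ * (u * dr r u ^ k * w) * r
        = (r⁻¹ * u * r) * (r⁻¹ * dr r u * r) ^ k * (r⁻¹ * w * r) := by
      rw [inv_conj_pow]; group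
    have h3 : r⁻¹ * w * r = w := by
      have := hZr w hw
      calc r⁻¹ * w * r = r⁻¹ * (w * r) := by group
        _ = r⁻¹ * (r * w) := by rw [this]
        _ = w := by group
    have hcomm : Commute (dr r u) (dr r (dr r u)) := hZd _ he
    rw [h2, h3, conj_eq r u, conj_eq r (dr r u), hcomm.mul_pow, pow_succ]
    group

theorem dr_pow_left_mod' (r u : G) (Z : Subgroup G) (hZr : ∀ w ∈ Z, r * w = w * r)
    (hZd : ∀ w ∈ Z, dr r u * w = w * dr r u)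
    (he : dr r (dr r u) ∈ Z) (l : ℕ) :
    ∃ w ∈ Z, dr (r ^ l) u = dr r u ^ l * w := by
  obtain ⟨w, hw, h⟩ := conj_pow_mod' r u Z hZr hZd he l
  refine ⟨w, hw, ?_⟩
  unfold dr at h ⊢
  rw [h]; group

theorem dr_pow_left_mod (r u : G) (Z : Subgroup G) (hZ : ∀ w ∈ Z, ∀ g : G, g * w = w * g)
    (he : dr r (dr r u) ∈ Z) (l : ℕ) :
    ∃ w ∈ Z, dr (r ^ l) u = dr r u ^ l * w := by
  obtain ⟨w, hw, h⟩ := conj_pow_mod r u Z hZ he l
  refine ⟨w, hw, ?_⟩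
  unfold dr at h ⊢
  rw [h]; group

theorem conj_of_comm {r w : G} (h : r * w = w * r) : r⁻¹ * w * r = w := by
  calc r⁻¹ * w * r = r⁻¹ * (w * r) := by group
    _ = r⁻¹ * (r * w) := by rw [h]
    _ = w := by group

/-- the abstract core of K-S5289-D2 -/
theorem core {p : ℕ} [hp : Fact p.Prime] (A D : Subgroup G)
    (hAab : ∀ a ∈ A, ∀ b ∈ A, a * b = b * a)
    (c : G) (hcc : ∀ g : G, g * c = c * g) (hcp : c ^ p = 1) (hc1 : c ≠ 1)
    (r : G) (hDA : D ≤ A) (hDp : ∀ d ∈ D, d ^ p = 1)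
    (h1 : ∀ a ∈ A, dr r a ∈ D) (h2 : ∀ d ∈ D, dr r d ∈ Subgroup.zpowers c)
    (φ : G ≃* G) (l : ℕ) (a0 : G) (ha0 : a0 ∈ A) (hφr : φ r = r ^ l * a0)
    (z : G) (hz : z ∈ A) (κ : ℕ) (d0 : G) (hd0 : d0 ∈ D) (hφz : φ z = z ^ κ * d0)
    (m : ℕ) (hm : p ∣ m) (hzm : z ^ m = c)
    (hne : dr r (dr r z) ≠ 1) : l * l ≡ 1 [MOD p] := by
  have hZ : ∀ w ∈ Subgroup.zpowers c, ∀ g : G, g * w = w * g := by
    intro w hw g
    obtain ⟨k, rfl⟩ := Subgroup.mem_zpowers_iff.mp hw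
    exact (Commute.zpow_right (show Commute g c from hcc g) k)
  have hZA : Subgroup.zpowers c ≤ A := by
    rw [Subgroup.zpowers_le, ← hzm]; exact A.pow_mem hz m
  have hconjA : ∀ a ∈ A, r⁻¹ * a * r ∈ A := by
    intro a ha; rw [conj_eq]; exact A.mul_mem ha (hDA (h1 a ha))
  have hconjAl : ∀ k : ℕ, ∀ a ∈ A, (r ^ k)⁻¹ * a * r ^ k ∈ A := by
    intro k
    induction k with
    | zero => intro a ha; simpa using ha
    | succ k ih =>
      intro a ha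
      have : (r ^ (k + 1))⁻¹ * a * r ^ (k + 1) = r⁻¹ * ((r ^ k)⁻¹ * a * r ^ k) * r := by
        rw [pow_succ]; group
      rw [this]; exact hconjA _ (ih a ha)
  have hdrlA : ∀ a ∈ A, dr (r ^ l) a ∈ A := by
    intro a ha; unfold dr; exact A.mul_mem (A.inv_mem ha) (hconjAl l a ha)
  have hyD : dr r z ∈ D := h1 z hz
  have hyA : dr r z ∈ A := hDA hyD
  have heZ : dr r (dr r z) ∈ Subgroup.zpowers c := h2 _ hyD
  have hdra0 : ∀ u ∈ A, dr (r ^ l * a0) u = dr (r ^ l) u := fun u hu =>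
    dr_mul_right_comm (r ^ l) a0 u (hAab a0 ha0 _ (hconjAl l u hu))
  have hdrmul : ∀ u ∈ A, ∀ v ∈ A, dr (r ^ l) (u * v) = dr (r ^ l) u * dr (r ^ l) v :=
    fun u hu v hv => dr_mul (r ^ l) u v (hAab v hv _ (hdrlA u hu))
  have hdrpow : ∀ u ∈ A, ∀ k : ℕ, dr (r ^ l) (u ^ k) = dr (r ^ l) u ^ k := fun u hu k =>
    dr_pow (r ^ l) u (hAab u hu _ (hconjAl l u hu)) k
  obtain ⟨w1, hw1, hz1⟩ := dr_pow_left_mod r z (Subgroup.zpowers c) hZ heZ l
  have hd0Z : dr r d0 ∈ Subgroup.zpowers c := h2 d0 hd0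
  have hd01 : dr (r ^ l) d0 = dr r d0 ^ l :=
    dr_pow_left_exact r d0 (conj_of_comm (hZ _ hd0Z r)) l
  have hy1 : dr (r ^ l) (dr r z) = dr r (dr r z) ^ l :=
    dr_pow_left_exact r (dr r z) (conj_of_comm (hZ _ heZ r)) l
  have hφy : φ (dr r z) = dr r z ^ (l * κ) * (w1 ^ κ * dr r d0 ^ l) := by
    rw [dr_hom, hφr, hφz, hdra0 _ (A.mul_mem (A.pow_mem hz κ) (hDA hd0)),
      hdrmul _ (A.pow_mem hz κ) _ (hDA hd0), hdrpow z hz κ, hz1, hd01]
    have hcomm : Commute (dr r z ^ l) w1 := (hZ w1 hw1 (dr r z ^ l))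
    rw [hcomm.mul_pow, ← pow_mul]
    group
  have hw3Z : w1 ^ κ * dr r d0 ^ l ∈ Subgroup.zpowers c :=
    Subgroup.mul_mem _ (Subgroup.pow_mem _ hw1 κ) (Subgroup.pow_mem _ hd0Z l)
  have hφe : φ (dr r (dr r z)) = dr r (dr r z) ^ (l * (l * κ)) := by
    rw [dr_hom, hφr, hφy, hdra0 _ (A.mul_mem (A.pow_mem hyA _) (hZA hw3Z)),
      hdrmul _ (A.pow_mem hyA _) _ (hZA hw3Z), hdrpow _ hyA, hy1]
    have : dr (r ^ l) (w1 ^ κ * dr r d0 ^ l) = 1 := dr_of_comm (hZ _ hw3Z (r ^ l))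
    rw [this, mul_one, ← pow_mul]
  have hφc : φ c = c ^ κ := by
    rw [← hzm, map_pow, hφz]
    have hcomm : Commute (z ^ κ) d0 := hAab _ (A.pow_mem hz κ) _ (hDA hd0)
    rw [hcomm.mul_pow]
    obtain ⟨q, rfl⟩ := hm
    rw [pow_mul d0 p q, hDp d0 hd0, one_pow, mul_one, ← pow_mul, mul_comm κ, pow_mul]
  obtain ⟨t, ht⟩ := Subgroup.mem_zpowers_iff.mp heZ
  have hφe2 : φ (dr r (dr r z)) = dr r (dr r z) ^ κ := by
    rw [← ht, map_zpow, hφc, ← zpow_natCast, ← zpow_mul, mul_comm, zpow_mul, zpow_natCast]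
  have hep : dr r (dr r z) ^ p = 1 := by
    rw [← ht, ← zpow_natCast, ← zpow_mul, mul_comm, zpow_mul, zpow_natCast, hcp, one_zpow]
  have hoe : orderOf (dr r (dr r z)) = p := orderOf_eq_prime hep hne
  have hpow : dr r (dr r z) ^ (l * (l * κ)) = dr r (dr r z) ^ κ := by rw [← hφe, hφe2]
  have hmod : l * (l * κ) ≡ κ [MOD p] := by
    rw [← hoe]; exact pow_eq_pow_iff_modEq.mp hpow
  have hκ : ¬ p ∣ κ := by
    intro hdvd
    obtain ⟨q, rfl⟩ := hdvd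
    have : φ c = 1 := by rw [hφc, pow_mul, hcp, one_pow]
    exact hc1 ((MulEquiv.map_eq_one_iff φ).mp this)
  have hcop : Nat.Coprime p κ := (Nat.Prime.coprime_iff_not_dvd hp.out).mpr hκ
  have h3 : l * l * κ ≡ 1 * κ [MOD p] := by rw [one_mul, mul_assoc]; exact hmod
  exact Nat.ModEq.cancel_right_of_coprime hcop h3

end Cfsg.Agent.Lib.Helper57.AutSq
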