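import Mathlib
import Cfsg.Agent.Lib.Helper89.RkTwoDefs
import Cfsg.Agent.Lib.Helper42.S5289D1a2
import Cfsg.Agent.Lib.Helper42.S5289D1b
import Cfsg.Agent.Lib.Helper57.AutSqCore

/-!
# Structure of `G(p,n;s)` needed for K-S5289-D2
-/

set_option autoImplicit false

namespace Cfsg.Agent.Lib.Helper57.AutSq

open Cfsg Cfsg.Agent.Lib.Helper89
open scoped Pointwise

variable {Ω : Type*} [Group Ω] {S : Subgroup Ω} {p n s : ℕ} {x y z : Ω}

/-- natural power representation in `zpowers g` when `g ^ N = 1` -/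
theorem exists_pow_of_mem_zpowers {g u : Ω} {N : ℕ} (hN : 0 < N) (hg : g ^ N = 1)
    (hu : u ∈ Subgroup.zpowers g) : ∃ k : ℕ, u = g ^ k := by
  obtain ⟨k, rfl⟩ := Subgroup.mem_zpowers_iff.mp hu
  refine ⟨(k % (N : ℤ)).toNat, ?_⟩
  have hN' : (N : ℤ) ≠ 0 := by exact_mod_cast hN.ne'
  have h1 : g ^ k = g ^ (k % (N : ℤ)) := by
    conv_lhs => rw [← Int.emod_add_mul_ediv k N, zpow_add, zpow_mul, zpow_natCast, hg, one_zpow,
      mul_one]
  rw [h1, ← zpow_natCast, Int.toNat_of_nonneg (Int.emod_nonneg k hN')]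

theorem prime_pos' [hp : Fact p.Prime] : 0 < p := hp.out.pos

/-- `A = ⟨y, z⟩` consists of the `y ^ j * z ^ k` -/
theorem exists_of_mem_A (D : DData S p n s x y z) [Fact p.Prime] {a : Ω}
    (ha : a ∈ Subgroup.closure ({y, z} : Set Ω)) : ∃ j k : ℕ, a = y ^ j * z ^ k := by
  have hp : p.Prime := Fact.out
  have hAsup : Subgroup.closure ({y, z} : Set Ω) = Subgroup.zpowers y ⊔ Subgroup.zpowers z := by
    rw [Subgroup.zpowers_eq_closure, Subgroup.zpowers_eq_closure, ← Subgroup.closure_union]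
    rfl
  have hyn : Subgroup.zpowers y ≤ Subgroup.normalizer (Subgroup.zpowers z : Set Ω) := by
    refine le_trans ?_ (Subgroup.centralizer_le_normalizer (Subgroup.zpowers z : Set Ω))
    rw [Subgroup.zpowers_le, Subgroup.mem_centralizer_iff]
    intro h hh
    obtain ⟨k, rfl⟩ := Subgroup.mem_zpowers_iff.1 hh
    exact ((show Commute y z from D.yz).zpow_right k).eq.symm
  have hAset : ((Subgroup.zpowers y ⊔ Subgroup.zpowers z : Subgroup Ω) : Set Ω)
      = (Subgroup.zpowers y : Set Ω) * (Subgroup.zpowers z : Set Ω) :=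
    Subgroup.coe_mul_of_left_le_normalizer_right _ _ hyn
  rw [hAsup] at ha
  have ha' : a ∈ ((Subgroup.zpowers y ⊔ Subgroup.zpowers z : Subgroup Ω) : Set Ω) := ha
  rw [hAset] at ha'
  obtain ⟨u, hu, v, hv, rfl⟩ := ha'
  obtain ⟨j, rfl⟩ := exists_pow_of_mem_zpowers hp.pos D.yp hu
  obtain ⟨k, rfl⟩ := exists_pow_of_mem_zpowers (pow_pos hp.pos _) D.zp hv
  exact ⟨j, k, rfl⟩

theorem y_mem_A : y ∈ Subgroup.closure ({y, z} : Set Ω) := Subgroup.subset_closure (by simp)
theorem z_mem_A : z ∈ Subgroup.closure ({y, z} : Set Ω) := Subgroup.subset_closure (by simp)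

theorem A_le_S (D : DData S p n s x y z) : Subgroup.closure ({y, z} : Set Ω) ≤ S := by
  rw [Subgroup.closure_le]
  rintro g (rfl | rfl)
  · exact D.hyS
  · exact D.hzS

/-- `A` is abelian -/
theorem A_comm (D : DData S p n s x y z) [Fact p.Prime] :
    ∀ a ∈ Subgroup.closure ({y, z} : Set Ω), ∀ b ∈ Subgroup.closure ({y, z} : Set Ω),
      a * b = b * a := by
  intro a ha b hb
  obtain ⟨j, k, rfl⟩ := exists_of_mem_A D ha
  obtain ⟨j', k', rfl⟩ := exists_of_mem_A D hb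
  have hyz : Commute y z := D.yz
  have c1 : Commute (y ^ j) (y ^ j') := (Commute.refl y).pow_pow j j'
  have c2 : Commute (y ^ j) (z ^ k') := hyz.pow_pow j k'
  have c3 : Commute (z ^ k) (y ^ j') := hyz.symm.pow_pow k j'
  have c4 : Commute (z ^ k) (z ^ k') := (Commute.refl z).pow_pow k k'
  exact ((c1.mul_right c2).mul_left (c3.mul_right c4)).eq

/-- every element of `S` is `x ^ i * a` with `a ∈ A` -/
theorem exists_of_mem_S (D : DData S p n s x y z) [Fact p.Prime] {g : Ω} (hg : g ∈ S) :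
    ∃ i : ℕ, ∃ a ∈ Subgroup.closure ({y, z} : Set Ω), g = x ^ i * a := by
  have hp : p.Prime := Fact.out
  have hSfin : Finite S :=
    Nat.finite_of_card_ne_zero (by rw [D.card]; exact (pow_pos hp.pos _).ne')
  have hAfin : Finite (Subgroup.closure ({y, z} : Set Ω)) :=
    Finite.of_injective (Subgroup.inclusion (A_le_S D)) (Subgroup.inclusion_injective (A_le_S D))
  have hxn : Subgroup.zpowers x ≤
      Subgroup.normalizer ((Subgroup.closure ({y, z} : Set Ω) : Subgroup Ω) : Set Ω) := by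
    rw [Subgroup.zpowers_le]
    have hfinA : Finite ((Subgroup.closure ({y, z} : Set Ω) : Subgroup Ω) : Set Ω) := hAfin
    have : x⁻¹ ∈ Subgroup.normalizer ((Subgroup.closure ({y, z} : Set Ω) : Subgroup Ω) : Set Ω) := by
      apply Subgroup.mem_normalizer_fintype
      intro a ha
      rw [inv_inv]
      exact Cfsg.Agent.Lib.Helper42.S5289.conj_mem_A D a ha
    simpa using inv_mem this
  have hSsup : S = Subgroup.zpowers x ⊔ Subgroup.closure ({y, z} : Set Ω) := by
    rw [← D.gen, Subgroup.zpowers_eq_closure, ← Subgroup.closure_union]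
    rfl
  have hSset : (S : Set Ω) = (Subgroup.zpowers x : Set Ω) *
      ((Subgroup.closure ({y, z} : Set Ω) : Subgroup Ω) : Set Ω) := by
    conv_lhs => rw [hSsup]
    exact Subgroup.coe_mul_of_left_le_normalizer_right _ _ hxn
  have hg' : g ∈ (S : Set Ω) := hg
  rw [hSset] at hg'
  obtain ⟨u, hu, a, ha, rfl⟩ := hg'
  obtain ⟨i, rfl⟩ := exists_pow_of_mem_zpowers hp.pos D.xp hu
  exact ⟨i, a, ha, rfl⟩

/-- `x ^ i` normalizes `A` -/
theorem conj_pow_mem_A (D : DData S p n s x y z) (i : ℕ) :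
    ∀ a ∈ Subgroup.closure ({y, z} : Set Ω),
      (x ^ i)⁻¹ * a * x ^ i ∈ Subgroup.closure ({y, z} : Set Ω) := by
  induction i with
  | zero => intro a ha; simpa using ha
  | succ k ih =>
    intro a ha
    have : (x ^ (k + 1))⁻¹ * a * x ^ (k + 1) = x⁻¹ * ((x ^ k)⁻¹ * a * x ^ k) * x := by
      rw [pow_succ]; group
    rw [this]
    exact Cfsg.Agent.Lib.Helper42.S5289.conj_mem_A D _ (ih a ha)

theorem conj_pow_mem_A' (D : DData S p n s x y z) (i : ℕ) :
    ∀ a ∈ Subgroup.closure ({y, z} : Set Ω),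
      x ^ i * a * (x ^ i)⁻¹ ∈ Subgroup.closure ({y, z} : Set Ω) := by
  intro a ha
  have h1 : x ^ i * x ^ ((p - 1) * i) = 1 := by
    rw [← pow_add]
    have : i + (p - 1) * i = p * i := by
      have hp1 : 1 ≤ p := by have := D.hp5; omega
      calc i + (p - 1) * i = (1 + (p - 1)) * i := by ring
        _ = p * i := by rw [Nat.add_sub_cancel' hp1]
    rw [this, pow_mul, D.xp, one_pow]
  have h2 : (x ^ i)⁻¹ = x ^ ((p - 1) * i) := inv_eq_of_mul_eq_one_right h1
  have h3 : x ^ i = (x ^ ((p - 1) * i))⁻¹ := by rw [← h2, inv_inv]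
  have := conj_pow_mem_A D ((p - 1) * i) a ha
  rw [← h3, ← h2] at this
  exact this

/-- commutators of elements of `S` lie in `A` -/
theorem comm_mem_A (D : DData S p n s x y z) [Fact p.Prime] {g h : Ω} (hg : g ∈ S) (hh : h ∈ S) :
    g * h * g⁻¹ * h⁻¹ ∈ Subgroup.closure ({y, z} : Set Ω) := by
  obtain ⟨i, a, ha, rfl⟩ := exists_of_mem_S D hg
  obtain ⟨j, b, hb, rfl⟩ := exists_of_mem_S D hh
  have h1 : x ^ i * a * (x ^ j * b) * (x ^ i * a)⁻¹ * (x ^ j * b)⁻¹
      = (x ^ i * a * (x ^ i)⁻¹) * (x ^ (i + j) * (b * a⁻¹) * (x ^ (i + j))⁻¹)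
        * (x ^ j * b⁻¹ * (x ^ j)⁻¹) := by
    rw [pow_add]; group
  rw [h1]
  exact Subgroup.mul_mem _ (Subgroup.mul_mem _ (conj_pow_mem_A' D i a ha)
    (conj_pow_mem_A' D (i + j) _ (Subgroup.mul_mem _ hb (Subgroup.inv_mem _ ha))))
    (conj_pow_mem_A' D j _ (Subgroup.inv_mem _ hb))

end Cfsg.Agent.Lib.Helper57.AutSq
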