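import Cfsg.Agent.Lib.Helper57.AutSqStruct

/-!
# Structure of `G(p,n;s)` needed for K-S5289-D2, part 2: the element `c` and displacements
-/

set_option autoImplicit false

namespace Cfsg.Agent.Lib.Helper57.AutSq

open Cfsg Cfsg.Agent.Lib.Helper89
open scoped Pointwise

variable {Ω : Type*} [Group Ω] {S : Subgroup Ω} {p n s : ℕ} {x y z : Ω}

theorem c_pow (D : DData S p n s x y z) : (z ^ p ^ (n - 3)) ^ p = 1 := by
  have hn := D.hn
  rw [← pow_mul, ← pow_succ, show n - 3 + 1 = n - 2 by omega, D.zp]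

theorem c_ne (D : DData S p n s x y z) [Fact p.Prime] : z ^ p ^ (n - 3) ≠ 1 := by
  have hp : p.Prime := Fact.out
  have hn := D.hn
  intro h
  have h1 := orderOf_dvd_of_pow_eq_one h
  rw [Cfsg.Agent.Lib.Helper42.S5289.orderOf_z_of D] at h1
  have h2 := (Nat.pow_dvd_pow_iff_le_right hp.one_lt).mp h1
  omega

theorem orderOf_c (D : DData S p n s x y z) [Fact p.Prime] : orderOf (z ^ p ^ (n - 3)) = p :=
  orderOf_eq_prime (c_pow D) (c_ne D)

theorem c_mem_A : z ^ p ^ (n - 3) ∈ Subgroup.closure ({y, z} : Set Ω) :=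
  Subgroup.pow_mem _ z_mem_A _

theorem c_central (D : DData S p n s x y z) :
    ∀ g ∈ S, g * z ^ p ^ (n - 3) = z ^ p ^ (n - 3) * g :=
  Cfsg.Agent.Lib.Helper42.S5289.c_central D

theorem zc_central (D : DData S p n s x y z) :
    ∀ w ∈ Subgroup.zpowers (z ^ p ^ (n - 3)), ∀ g ∈ S, g * w = w * g := by
  intro w hw g hg
  obtain ⟨k, rfl⟩ := Subgroup.mem_zpowers_iff.mp hw
  exact (Commute.zpow_right (show Commute g (z ^ p ^ (n - 3)) from c_central D g hg) k)

theorem zc_le_A : Subgroup.zpowers (z ^ p ^ (n - 3)) ≤ Subgroup.closure ({y, z} : Set Ω) := by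
  rw [Subgroup.zpowers_le]; exact c_mem_A

theorem drx_y (D : DData S p n s x y z) : dr x y = (z ^ p ^ (n - 3)) ^ s := by
  unfold dr
  rw [D.rel1, ← pow_mul, mul_comm (p ^ (n - 3)) s]
  group

theorem drx_z (D : DData S p n s x y z) : dr x z = y := by
  unfold dr
  rw [D.rel2, D.yz]
  group

theorem cs_mem (_D : DData S p n s x y z) :
    (z ^ p ^ (n - 3)) ^ s ∈ Subgroup.zpowers (z ^ p ^ (n - 3)) :=
  Subgroup.pow_mem _ (Subgroup.mem_zpowers _) _

/-- `dr (x ^ i) y = (c ^ s) ^ i` -/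
theorem drxi_y (D : DData S p n s x y z) (i : ℕ) :
    dr (x ^ i) y = ((z ^ p ^ (n - 3)) ^ s) ^ i := by
  rw [← drx_y D]
  apply dr_pow_left_exact
  apply conj_of_comm
  rw [drx_y D]
  exact zc_central D _ (cs_mem D) x D.hxS

/-- `dr (x ^ i) z = y ^ i * w` with `w ∈ <c>` -/
theorem drxi_z (D : DData S p n s x y z) (i : ℕ) :
    ∃ w ∈ Subgroup.zpowers (z ^ p ^ (n - 3)), dr (x ^ i) z = y ^ i * w := by
  have h := dr_pow_left_mod' x z (Subgroup.zpowers (z ^ p ^ (n - 3)))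
    (fun w hw => zc_central D w hw x D.hxS)
    (fun w hw => by rw [drx_z D]; exact zc_central D w hw y D.hyS)
    (by rw [drx_z D, drx_y D]; exact cs_mem D) i
  rw [drx_z D] at h
  exact h

/-- multiplicativity of `dr (x ^ i)` on `A` -/
theorem drxi_mul (D : DData S p n s x y z) [Fact p.Prime] (i : ℕ) {u v : Ω}
    (hu : u ∈ Subgroup.closure ({y, z} : Set Ω)) (hv : v ∈ Subgroup.closure ({y, z} : Set Ω)) :
    dr (x ^ i) (u * v) = dr (x ^ i) u * dr (x ^ i) v := by
  apply dr_mul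
  apply A_comm D v hv
  unfold dr
  exact Subgroup.mul_mem _ (Subgroup.inv_mem _ hu) (conj_pow_mem_A D i u hu)

theorem drxi_pow (D : DData S p n s x y z) [Fact p.Prime] (i : ℕ) {u : Ω}
    (hu : u ∈ Subgroup.closure ({y, z} : Set Ω)) (k : ℕ) :
    dr (x ^ i) (u ^ k) = dr (x ^ i) u ^ k :=
  dr_pow (x ^ i) u (A_comm D u hu _ (conj_pow_mem_A D i u hu)) k

theorem drxi_mem_A (D : DData S p n s x y z) (i : ℕ) {u : Ω}
    (hu : u ∈ Subgroup.closure ({y, z} : Set Ω)) :
    dr (x ^ i) u ∈ Subgroup.closure ({y, z} : Set Ω) := by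
  unfold dr
  exact Subgroup.mul_mem _ (Subgroup.inv_mem _ hu) (conj_pow_mem_A D i u hu)

/-- `dr (x ^ i * a) = dr (x ^ i)` on `A` -/
theorem dr_r_eq (D : DData S p n s x y z) [Fact p.Prime] (i : ℕ) {a u : Ω}
    (ha : a ∈ Subgroup.closure ({y, z} : Set Ω)) (hu : u ∈ Subgroup.closure ({y, z} : Set Ω)) :
    dr (x ^ i * a) u = dr (x ^ i) u :=
  dr_mul_right_comm (x ^ i) a u (A_comm D a ha _ (conj_pow_mem_A D i u hu))

/-- the centralizer of `y` in `S` is `A` -/
theorem mem_A_of_comm (D : DData S p n s x y z) [Fact p.Prime] {g : Ω} (hg : g ∈ S)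
    (hgy : g * y = y * g) : g ∈ Subgroup.closure ({y, z} : Set Ω) := by
  have hp : p.Prime := Fact.out
  obtain ⟨i, a, ha, rfl⟩ := exists_of_mem_S D hg
  have hay : a * y = y * a := A_comm D a ha y y_mem_A
  have hxy : x ^ i * y = y * x ^ i := by
    have h1 : x ^ i * y * a = y * x ^ i * a := by
      calc x ^ i * y * a = x ^ i * (y * a) := by group
        _ = x ^ i * (a * y) := by rw [hay]
        _ = x ^ i * a * y := by group
        _ = y * (x ^ i * a) := hgy
        _ = y * x ^ i * a := by group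
    exact mul_right_cancel h1
  have h2 : dr (x ^ i) y = 1 := dr_of_comm hxy
  rw [drxi_y D, ← pow_mul] at h2
  have h3 : p ∣ s * i := by
    have := orderOf_dvd_of_pow_eq_one h2
    rwa [orderOf_c D] at this
  have h4 : p ∣ i := (hp.dvd_mul.mp h3).resolve_left D.hs
  obtain ⟨q, rfl⟩ := h4
  rw [pow_mul, D.xp, one_pow, one_mul]
  exact ha

/-- elements of `S` not commuting with `y` -/
theorem exists_of_not_comm (D : DData S p n s x y z) [Fact p.Prime] {r : Ω} (hr : r ∈ S)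
    (hry : r * y ≠ y * r) :
    ∃ i : ℕ, ¬ p ∣ i ∧ ∃ a ∈ Subgroup.closure ({y, z} : Set Ω), r = x ^ i * a := by
  obtain ⟨i, a, ha, rfl⟩ := exists_of_mem_S D hr
  refine ⟨i, ?_, a, ha, rfl⟩
  rintro ⟨q, rfl⟩
  apply hry
  rw [pow_mul, D.xp, one_pow, one_mul]
  exact A_comm D a ha y y_mem_A

end Cfsg.Agent.Lib.Helper57.AutSq
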