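import Mathlib
import Cfsg.Prelude.Def_OddOrderLocal
import Cfsg.Agent.Lib.Helper71.BG11a

/-!
# K-1381-A (keystone 138101, architect helper71): `M' = U M_σ` is a complement of `K` in `M`
-/

set_option autoImplicit false
set_option linter.unusedSectionVars false

namespace Cfsg.Agent.Lib.Helper57.BG1381

open Cfsg Subgroup

variable {G : Type*} [Group G] [Finite G]

/-- a Hall `κ(M)`-subgroup meets `M_σ` trivially -/
theorem kappaHall_inf_sigmaCore' (hG : IsMinSimpleOddOrder G) {M K : Subgroup G} (hM : IsCoatom M)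
    (hK : IsPiHallOf (kappa M) K M) : K ⊓ sigmaCore M = ⊥ := by
  by_contra hne
  have hcard : Nat.card ↥(K ⊓ sigmaCore M) ≠ 1 := fun h => hne (Subgroup.card_eq_one.mp h)
  obtain ⟨p, hp, hpd⟩ := Nat.exists_prime_and_dvd hcard
  have h1 : p ∈ kappa M := hK.2.1 p hp (hpd.trans (Subgroup.card_dvd_of_le inf_le_left))
  have h2 : p ∈ sigma M :=
    Cfsg.Agent.Lib.Helper71.BG11.sigmaCore_pi hG hM hp (hpd.trans (Subgroup.card_dvd_of_le inf_le_right))
  exact h1.2.2.1 h2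

/-- elements of `A ⊔ N` are products `a * n` when `A` normalizes `N` -/
theorem exists_mul_of_mem_sup' {A N : Subgroup G} (h : A ≤ Subgroup.normalizer (N : Set G))
    {x : G} (hx : x ∈ A ⊔ N) : ∃ a ∈ A, ∃ n ∈ N, x = a * n := by
  have : x ∈ ((A ⊔ N : Subgroup G) : Set G) := hx
  rw [Subgroup.coe_mul_of_left_le_normalizer_right A N h] at this
  obtain ⟨a, ha, n, hn, rfl⟩ := this
  exact ⟨a, ha, n, hn, rfl⟩

/-- KEYSTONE 138101  K-1381-A. -/
theorem derived_compl (hG : IsMinSimpleOddOrder G) {M K U : Subgroup G} (hM : IsCoatom M)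
    (hKU : IsSigmaDecomposition M K U) (hd : ⁅M, M⁆ = U ⊔ sigmaCore M) :
    IsComplIn ⁅M, M⁆ K M := by
  have hUM : U ≤ M := hKU.compl.1
  have hKM : K ≤ M := hKU.hall.1
  have hσM : sigmaCore M ≤ M := Cfsg.Agent.Lib.Helper71.BG11.sigmaCore_le M
  have hMn : M ≤ normalizer (sigmaCore M : Set G) :=
    Cfsg.Agent.Lib.Helper71.BG11.le_normalizer_sigmaCore M
  have hbot : U ⊓ (K ⊔ sigmaCore M) = ⊥ := hKU.compl.2.2.1
  have hKσ : K ⊓ sigmaCore M = ⊥ := kappaHall_inf_sigmaCore' hG hM hKU.hall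
  rw [hd]
  refine ⟨sup_le hUM hσM, hKM, ?_, ?_⟩
  · -- `(U ⊔ M_σ) ⊓ K = ⊥`
    rw [eq_bot_iff]
    intro x hx
    obtain ⟨hx1, hxK⟩ := Subgroup.mem_inf.mp hx
    obtain ⟨u, hu, s, hs, rfl⟩ := exists_mul_of_mem_sup' (hUM.trans hMn) hx1
    have hu1 : u ∈ U ⊓ (K ⊔ sigmaCore M) := by
      refine Subgroup.mem_inf.mpr ⟨hu, ?_⟩
      have e : u = (u * s) * s⁻¹ := by group
      rw [e]
      exact Subgroup.mul_mem _ (Subgroup.mem_sup_left hxK)
        (Subgroup.mem_sup_right (Subgroup.inv_mem _ hs))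
    rw [hbot, Subgroup.mem_bot] at hu1
    rw [hu1, one_mul] at hxK ⊢
    have hs1 : s ∈ K ⊓ sigmaCore M := Subgroup.mem_inf.mpr ⟨hxK, hs⟩
    rw [hKσ] at hs1
    exact hs1
  · -- every element of `M` is a product
    intro m hm
    obtain ⟨u, hu, z, hz, rfl⟩ := hKU.compl.2.2.2 m hm
    -- `z ∈ K ⊔ M_σ`: `z = k s`; we want `z = s' k`
    have hz' : z⁻¹ ∈ K ⊔ sigmaCore M := Subgroup.inv_mem _ hz
    obtain ⟨k, hk, s, hs, hzks⟩ := exists_mul_of_mem_sup' (hKM.trans hMn) hz'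
    -- `z = s⁻¹ k⁻¹`
    have hzeq : z = s⁻¹ * k⁻¹ := by
      have : z = (z⁻¹)⁻¹ := (inv_inv z).symm
      rw [this, hzks, mul_inv_rev]
    refine ⟨u * s⁻¹, Subgroup.mul_mem _ (Subgroup.mem_sup_left hu)
      (Subgroup.mem_sup_right (Subgroup.inv_mem _ hs)), k⁻¹, Subgroup.inv_mem _ hk, ?_⟩
    rw [hzeq, mul_assoc]

end Cfsg.Agent.Lib.Helper57.BG1381
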