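import Cfsg.Agent.Lib.Helper57.CD
import Cfsg.Prelude.Def_BaumannBlocks

set_option autoImplicit false

namespace Cfsg.Agent.Lib.Helper57

open scoped Pointwise

variable {G : Type*} [Group G]

theorem cdm_le_card_sq [Finite G] (R : Subgroup G) : cdm R ≤ Nat.card G * Nat.card G :=
  Nat.mul_le_mul (Subgroup.card_le_card_group _) (Subgroup.card_le_card_group _)

theorem maxCP_bdd [Finite G] :
    BddAbove {k : ℕ | ∃ R : Subgroup G,
      Nat.card ↥R * Nat.card ↥(Subgroup.centralizer (R : Set G)) = k} :=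
  ⟨Nat.card G * Nat.card G, by rintro k ⟨R, rfl⟩; exact cdm_le_card_sq R⟩

theorem cdm_le_maxCP [Finite G] (R : Subgroup G) : cdm R ≤ Cfsg.maxCentralizerProduct G :=
  le_csSup maxCP_bdd ⟨R, rfl⟩

theorem exists_cdm_eq_maxCP [Finite G] : ∃ R : Subgroup G, cdm R = Cfsg.maxCentralizerProduct G := by
  have hne : {k : ℕ | ∃ R : Subgroup G,
      Nat.card ↥R * Nat.card ↥(Subgroup.centralizer (R : Set G)) = k}.Nonempty := ⟨_, ⊥, rfl⟩
  exact Nat.sSup_mem hne maxCP_bdd

theorem isCentralizerLarge_iff (R : Subgroup G) :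
    Cfsg.IsCentralizerLarge R ↔ cdm R = Cfsg.maxCentralizerProduct G := Iff.rfl

end Cfsg.Agent.Lib.Helper57
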