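import Cfsg.Agent.Lib.Helper57.CDMax

set_option autoImplicit false

namespace Cfsg.Agent.Lib.Helper57

open scoped Pointwise

variable {G : Type*} [Group G]

/-- the centre of `R`, as a subgroup of the ambient group -/
def zOf (R : Subgroup G) : Subgroup G := R ⊓ Subgroup.centralizer (R : Set G)

theorem zOf_le (R : Subgroup G) : zOf R ≤ R := inf_le_left

theorem zOf_le_centralizer (R : Subgroup G) : zOf R ≤ Subgroup.centralizer (R : Set G) := inf_le_right

theorem map_center_eq_zOf (R : Subgroup G) : (Subgroup.center ↥R).map R.subtype = zOf R := by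
  ext x
  constructor
  · rintro ⟨z, hz, rfl⟩
    refine Subgroup.mem_inf.mpr ⟨z.2, ?_⟩
    rw [Subgroup.mem_centralizer_iff]
    intro r hr
    have := (Subgroup.mem_center_iff.mp hz) ⟨r, hr⟩
    exact congrArg Subtype.val this
  · intro hx
    obtain ⟨hxR, hxC⟩ := Subgroup.mem_inf.mp hx
    refine ⟨⟨x, hxR⟩, ?_, rfl⟩
    show (⟨x, hxR⟩ : ↥R) ∈ Subgroup.center ↥R
    rw [Subgroup.mem_center_iff]
    intro r
    apply Subtype.ext
    exact hxC r r.2

theorem card_center_eq (R : Subgroup G) : Nat.card (Subgroup.center ↥R) = Nat.card ↥(zOf R) := by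
  rw [← map_center_eq_zOf, Subgroup.card_map_of_injective R.subtype_injective]

/-- the "central" measure |R||Z(R)| -/
noncomputable def clm (R : Subgroup G) : ℕ := Nat.card R * Nat.card ↥(zOf R)

theorem clm_eq (R : Subgroup G) : Nat.card R * Nat.card (Subgroup.center ↥R) = clm R := by
  rw [card_center_eq]; rfl

theorem clm_le_cdm [Finite G] (R : Subgroup G) : clm R ≤ cdm R :=
  Nat.mul_le_mul_left _ (Subgroup.card_le_of_le (zOf_le_centralizer R))

theorem maxCLP_bdd [Finite G] :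
    BddAbove {k : ℕ | ∃ R : Subgroup G, Nat.card ↥R * Nat.card ↥(Subgroup.center ↥R) = k} :=
  ⟨Nat.card G * Nat.card G, by
    rintro k ⟨R, rfl⟩
    rw [clm_eq]
    exact (clm_le_cdm R).trans (cdm_le_card_sq R)⟩

theorem clm_le_maxCLP [Finite G] (R : Subgroup G) : clm R ≤ Cfsg.maxCentralProduct G :=
  le_csSup maxCLP_bdd ⟨R, clm_eq R⟩

theorem exists_clm_eq_maxCLP [Finite G] : ∃ R : Subgroup G, clm R = Cfsg.maxCentralProduct G := by
  have hne : {k : ℕ | ∃ R : Subgroup G,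
      Nat.card ↥R * Nat.card ↥(Subgroup.center ↥R) = k}.Nonempty := ⟨_, ⊥, rfl⟩
  obtain ⟨R, hR⟩ := Nat.sSup_mem hne maxCLP_bdd
  exact ⟨R, by rw [← clm_eq]; exact hR⟩

theorem isCentrallyLarge_iff (R : Subgroup G) :
    Cfsg.IsCentrallyLarge R ↔ clm R = Cfsg.maxCentralProduct G := by
  unfold Cfsg.IsCentrallyLarge
  rw [clm_eq]

theorem zOf_eq_centralizer_of_le {R : Subgroup G} (h : Subgroup.centralizer (R : Set G) ≤ R) :
    zOf R = Subgroup.centralizer (R : Set G) := inf_eq_right.mpr h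

theorem clm_eq_cdm_of_le {R : Subgroup G} (h : Subgroup.centralizer (R : Set G) ≤ R) :
    clm R = cdm R := by
  unfold clm cdm
  rw [zOf_eq_centralizer_of_le h]

/-- the two maxima agree -/
theorem maxCLP_eq_maxCP [Finite G] : Cfsg.maxCentralProduct G = Cfsg.maxCentralizerProduct G := by
  apply le_antisymm
  · obtain ⟨R₁, hR₁⟩ := exists_clm_eq_maxCLP (G := G)
    rw [← hR₁]
    exact (clm_le_cdm R₁).trans (cdm_le_maxCP R₁)
  · obtain ⟨R₀, hR₀⟩ := exists_cdm_eq_maxCP (G := G)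
    obtain ⟨h1, h2⟩ := cd_centralizer _ cdm_le_maxCP R₀ hR₀
    obtain ⟨h3, -, -, -, -⟩ := cd_main _ cdm_le_maxCP R₀ _ hR₀ h1
    set S := R₀ ⊔ Subgroup.centralizer (R₀ : Set G) with hS
    have hCS : Subgroup.centralizer (S : Set G) ≤ S := by
      rw [hS, centralizer_sup_eq, h2]
      exact inf_le_right.trans le_sup_left
    rw [← h3, ← clm_eq_cdm_of_le hCS]
    exact clm_le_maxCLP S

/-- characterization of centrally large subgroups -/
theorem isCentrallyLarge_iff' [Finite G] (Q : Subgroup G) :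
    Cfsg.IsCentrallyLarge Q ↔
      (Cfsg.IsCentralizerLarge Q ∧ Subgroup.centralizer (Q : Set G) ≤ Q) := by
  rw [isCentrallyLarge_iff, isCentralizerLarge_iff, maxCLP_eq_maxCP]
  constructor
  · intro h
    have h1 : cdm Q = Cfsg.maxCentralizerProduct G :=
      le_antisymm (cdm_le_maxCP Q) (h ▸ clm_le_cdm Q)
    refine ⟨h1, ?_⟩
    have h2 : clm Q = cdm Q := h.trans h1.symm
    unfold clm cdm at h2
    have h3 : Nat.card ↥(zOf Q) = Nat.card ↥(Subgroup.centralizer (Q : Set G)) :=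
      Nat.eq_of_mul_eq_mul_left Nat.card_pos h2
    have h4 : zOf Q = Subgroup.centralizer (Q : Set G) :=
      Subgroup.eq_of_le_of_card_ge (zOf_le_centralizer Q) (le_of_eq h3.symm)
    rw [← h4]
    exact zOf_le Q
  · rintro ⟨h1, h2⟩
    rw [clm_eq_cdm_of_le h2, h1]

theorem isCentrallyLarge_sup [Finite G] (Q R : Subgroup G) (hQ : Cfsg.IsCentrallyLarge Q)
    (hR : Cfsg.IsCentrallyLarge R) :
    ((Q ⊔ R : Subgroup G) : Set G) = (Q : Set G) * (R : Set G) ∧ Cfsg.IsCentrallyLarge (Q ⊔ R) := by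
  obtain ⟨hQ1, hQ2⟩ := (isCentrallyLarge_iff' Q).mp hQ
  obtain ⟨hR1, -⟩ := (isCentrallyLarge_iff' R).mp hR
  obtain ⟨h1, -, h3, -, -⟩ := cd_main _ cdm_le_maxCP Q R hQ1 hR1
  refine ⟨h3, (isCentrallyLarge_iff' _).mpr ⟨h1, ?_⟩⟩
  rw [centralizer_sup_eq]
  exact inf_le_left.trans (hQ2.trans le_sup_left)

/-- a property closed under binary joins holds for the join of a finite nonempty family -/
theorem sSup_induction_of_finite {α : Type*} [CompleteLattice α] (Pr : α → Prop)
    (hsup : ∀ A B, Pr A → Pr B → Pr (A ⊔ B)) (s : Set α) (hfin : s.Finite)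
    (hne : s.Nonempty) (hP : ∀ A ∈ s, Pr A) : Pr (sSup s) := by
  induction s, hfin using Set.Finite.induction_on with
  | empty => exact absurd hne Set.not_nonempty_empty
  | insert ha hs ih =>
    rename_i a s
    rw [sSup_insert]
    by_cases hs' : s.Nonempty
    · exact hsup _ _ (hP a (Set.mem_insert _ _))
        (ih hs' (fun A hA => hP A (Set.mem_insert_of_mem _ hA)))
    · rw [Set.not_nonempty_iff_eq_empty] at hs'
      rw [hs', sSup_empty, sup_bot_eq]
      exact hP a (Set.mem_insert _ _)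

theorem exists_isCentrallyLarge [Finite G] : ∃ R : Subgroup G, Cfsg.IsCentrallyLarge R := by
  obtain ⟨R, hR⟩ := exists_clm_eq_maxCLP (G := G)
  exact ⟨R, (isCentrallyLarge_iff R).mpr hR⟩

theorem exists_isMinimalCentrallyLarge_le [Finite G] (Q : Subgroup G)
    (hQ : Cfsg.IsCentrallyLarge Q) :
    ∃ R : Subgroup G, R ≤ Q ∧ Cfsg.IsMinimalCentrallyLarge R := by
  have hfin : {R : Subgroup G | R ≤ Q ∧ Cfsg.IsCentrallyLarge R}.Finite := Set.toFinite _
  obtain ⟨R, ⟨hRQ, hR⟩, hmin⟩ := Set.exists_min_image _ (fun R : Subgroup G => Nat.card R) hfin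
    ⟨Q, le_rfl, hQ⟩
  refine ⟨R, hRQ, hR, ?_⟩
  intro R' hR'R hR'
  have := hmin R' ⟨hR'R.trans hRQ, hR'⟩
  exact Subgroup.eq_of_le_of_card_ge hR'R this

theorem isCentrallyLarge_sSup [Finite G] (s : Set (Subgroup G)) (hne : s.Nonempty)
    (hs : ∀ A ∈ s, Cfsg.IsCentrallyLarge A) : Cfsg.IsCentrallyLarge (sSup s) :=
  sSup_induction_of_finite _ (fun A B hA hB => (isCentrallyLarge_sup A B hA hB).2) s
    (Set.toFinite s) hne hs

theorem isCentrallyLarge_centrallyLargeJoin [Finite G] :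
    Cfsg.IsCentrallyLarge (Cfsg.centrallyLargeJoin G) := by
  obtain ⟨R, hR⟩ := exists_isCentrallyLarge (G := G)
  exact isCentrallyLarge_sSup _ ⟨R, hR⟩ (fun A hA => hA)

theorem isCentrallyLarge_minimalCentrallyLargeJoin [Finite G] :
    Cfsg.IsCentrallyLarge (Cfsg.minimalCentrallyLargeJoin G) := by
  obtain ⟨R, hR⟩ := exists_isCentrallyLarge (G := G)
  obtain ⟨R', -, hR'⟩ := exists_isMinimalCentrallyLarge_le R hR
  exact isCentrallyLarge_sSup _ ⟨R', hR'⟩ (fun A hA => hA.1)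

end Cfsg.Agent.Lib.Helper57
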