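import Mathlib
import Cfsg.Agent.Lib.Helper57.AGRad
import Cfsg.Agent.Lib.Helper57.KLMain

/-!
# Subgroups of a Sylow subgroup whose normalizer controls strong fusion

`FNormal P Q`: `Q ≤ P` and `N_G(Q)` realizes every conjugation between subsets of `P` (the subgroup
`Q` is normal in the fusion system of `G` on `P`).  Such a `Q` is strongly closed, normal in `P`, and
contained in every member of the Alperin–Goldschmidt family; conversely a strongly closed subgroup
contained in every member of that family is `FNormal`.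
-/

set_option autoImplicit false
open Cfsg
open Cfsg.Agent.Lib.Helper16
open Cfsg.Agent.Lib.Helper41

namespace Cfsg.Agent.Lib.Helper57.GT

section fn

variable {p : ℕ} [Fact p.Prime] {G : Type*} [Group G] [Finite G]

/-- `N_G(Q)` realizes every conjugation between subsets of `P` -/
def FNormal (P : Sylow p G) (Q : Subgroup G) : Prop :=
  Q ≤ (P : Subgroup G) ∧ ∀ (A : Set G) (g : G), A ⊆ (P : Subgroup G) →
    (∀ a ∈ A, g * a * g⁻¹ ∈ (P : Subgroup G)) →
    ∃ y ∈ Subgroup.normalizer (Q : Set G), ∀ a ∈ A, y * a * y⁻¹ = g * a * g⁻¹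

theorem FNormal.stronglyClosed {P : Sylow p G} {Q : Subgroup G} (h : FNormal P Q) :
    Cfsg.IsStronglyClosed Q (P : Subgroup G) := by
  refine ⟨h.1, fun x hx g hg => ?_⟩
  obtain ⟨y, hy, hya⟩ := h.2 {x} g (by
    intro a ha
    rw [Set.mem_singleton_iff] at ha
    rw [ha]; exact h.1 hx) (by
    intro a ha
    rw [Set.mem_singleton_iff] at ha
    rw [ha]; exact hg)
  rw [← hya x rfl]
  exact (Subgroup.mem_normalizer_iff.mp hy x).mp hx

theorem mem_normalizer_of_stronglyClosed {P Q T : Subgroup G}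
    (h : Cfsg.IsStronglyClosed Q P) (hQT : Q ≤ T) (hTP : T ≤ P) {m : G}
    (hm : m ∈ Subgroup.normalizer (T : Set G)) : m ∈ Subgroup.normalizer (Q : Set G) := by
  apply mem_normalizer_of_lc_le
  intro z hz
  rw [mem_lc] at hz
  have h1 : m * (m⁻¹ * z * m) * m⁻¹ ∈ T :=
    (Subgroup.mem_normalizer_iff.mp hm _).mp (hQT hz)
  have h2 := h.2 _ hz m (hTP h1)
  have e : m * (m⁻¹ * z * m) * m⁻¹ = z := by group
  rwa [e] at h2

theorem FNormal.sylow_le_normalizer {P : Sylow p G} {Q : Subgroup G} (h : FNormal P Q) :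
    (P : Subgroup G) ≤ Subgroup.normalizer (Q : Set G) := by
  intro g hg
  exact mem_normalizer_of_stronglyClosed h.stronglyClosed h.1 le_rfl (Subgroup.le_normalizer hg)

/-- an element of `N_G(T)`, `T ≤ P`, is a product of an element of `N_G(Q) ∩ N_G(T)` and an element
of `C_G(T)` -/
theorem FNormal.normalizer_decomp {P : Sylow p G} {Q : Subgroup G} (h : FNormal P Q)
    {T : Subgroup G} (hTP : T ≤ (P : Subgroup G)) {m : G}
    (hm : m ∈ Subgroup.normalizer (T : Set G)) :
    ∃ y ∈ Subgroup.normalizer (Q : Set G), y ∈ Subgroup.normalizer (T : Set G) ∧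
      ∃ c ∈ Subgroup.centralizer (T : Set G), m = y * c := by
  have hmT : ∀ t ∈ T, m * t * m⁻¹ ∈ T := fun t ht => (Subgroup.mem_normalizer_iff.mp hm t).mp ht
  obtain ⟨y, hy, hya⟩ := h.2 (T : Set G) m hTP (fun a ha => hTP (hmT a ha))
  have hyT : y ∈ Subgroup.normalizer (T : Set G) := by
    apply mem_normalizer_of_lc_le
    intro z hz
    rw [mem_lc] at hz
    have h1 := hya _ hz
    have e : y * (y⁻¹ * z * y) * y⁻¹ = z := by group
    rw [e] at h1
    rw [h1]
    exact hmT _ hz
  refine ⟨y, hy, hyT, y⁻¹ * m, ?_, by group⟩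
  rw [Subgroup.mem_centralizer_iff]
  intro t ht
  have h1 := hya t ht
  have h2 : y⁻¹ * m * t = t * (y⁻¹ * m) := by
    have : m * t = y * t * y⁻¹ * m := by
      rw [h1]; group
    calc y⁻¹ * m * t = y⁻¹ * (m * t) := by group
      _ = y⁻¹ * (y * t * y⁻¹ * m) := by rw [this]
      _ = t * (y⁻¹ * m) := by group
  exact h2.symm

/-- the criterion: a strongly closed subgroup contained in every member of the
Alperin–Goldschmidt family -/
theorem fnormal_of_le_ag (P : Sylow p G) (V : Subgroup G)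
    (hV : Cfsg.IsStronglyClosed V (P : Subgroup G))
    (hle : ∀ T ∈ agFamily p P, V ≤ T) : FNormal P V := by
  refine ⟨hV.1, fun A g hA hgA => ?_⟩
  apply realizes_of_ag P _ _ A g hA hgA
  intro T hT x hx
  exact ⟨x, mem_normalizer_of_stronglyClosed hV (hle T hT) hT.1 hx, fun t _ => rfl⟩

/-- a subgroup `Y` of `P`, normal in `P`, is contained in the member `T` of the
Alperin–Goldschmidt family as soon as `N_Y(T) C_G(T)` is normalized by `N_G(T)` -/
theorem le_ag_of_normal_sup (P : Sylow p G) {T : Subgroup G} (hT : T ∈ agFamily p P)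
    (Y : Subgroup G) (hYP : Y ≤ (P : Subgroup G))
    (hYn : (P : Subgroup G) ≤ Subgroup.normalizer (Y : Set G))
    (hinv : ∀ m ∈ Subgroup.normalizer (T : Set G), ∀ x ∈ Y ⊓ Subgroup.normalizer (T : Set G),
      m * x * m⁻¹ ∈ (Y ⊓ Subgroup.normalizer (T : Set G)) ⊔ Subgroup.centralizer (T : Set G)) :
    Y ≤ T := by
  set M := Subgroup.normalizer (T : Set G) with hM
  set C := Subgroup.centralizer (T : Set G) with hC
  set A := Y ⊓ M with hA
  have hCM : C ≤ M := Subgroup.centralizer_le_normalizer (T : Set G)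
  have hAC : A ≤ Subgroup.normalizer (C : Set G) := by
    intro x hx
    rw [Subgroup.mem_normalizer_iff]
    intro c
    constructor
    · intro hc
      exact conj_mem_centralizer hx.2 hc
    · intro hc
      have := conj_mem_centralizer (M.inv_mem hx.2) hc
      have e : x⁻¹ * (x * c * x⁻¹) * x⁻¹⁻¹ = c := by group
      rwa [e] at this
  have hYp : IsPGroup p Y := P.2.to_le hYP
  apply le_of_inf_normalizer_le P hT.1 hYP hYn
  intro x hx
  refine ag_radical_mem P hT (A ⊔ C) (sup_le inf_le_right hCM) ?_ ?_ x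
    (Subgroup.mem_sup_left hx) (hYP hx.1)
  · rw [Subgroup.normal_subgroupOf_iff (sup_le inf_le_right hCM)]
    intro n m hn hm
    have hle : A ⊔ C ≤ (A ⊔ C).comap (MulAut.conj m).toMonoidHom := by
      apply sup_le
      · intro a ha
        exact hinv m hm a ha
      · intro c hc
        exact Subgroup.mem_sup_right (conj_mem_centralizer hm hc)
    exact hle hn
  · intro v hv
    rw [sup_comm] at hv
    obtain ⟨c, hc, a, ha, rfl⟩ := (mem_sup_of_le_normalizer hAC).mp hv
    -- powers of `c * a` are of the form `c' * a ^ k`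
    have hpow : ∀ k : ℕ, ∃ c' ∈ C, (c * a) ^ k = c' * a ^ k := by
      intro k
      induction k with
      | zero => exact ⟨1, C.one_mem, by simp⟩
      | succ k ih =>
        obtain ⟨c', hc', hk⟩ := ih
        have hak : a ^ k ∈ Subgroup.normalizer (C : Set G) := Subgroup.pow_mem _ (hAC ha) k
        have h1 : a ^ k * c * (a ^ k)⁻¹ ∈ C := (Subgroup.mem_normalizer_iff.mp hak c).mp hc
        refine ⟨c' * (a ^ k * c * (a ^ k)⁻¹), C.mul_mem hc' h1, ?_⟩
        rw [pow_succ, hk, pow_succ]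
        group
    obtain ⟨j, hj⟩ := hYp ⟨a, ha.1⟩
    have hj' : a ^ p ^ j = 1 := by
      have := congrArg Subtype.val hj
      simpa using this
    obtain ⟨c', hc', hk⟩ := hpow (p ^ j)
    refine ⟨j, ?_⟩
    rw [hk, hj', mul_one]
    exact hc'

/-- a subgroup whose normalizer controls strong fusion lies in every member of the
Alperin–Goldschmidt family -/
theorem FNormal.le_ag {P : Sylow p G} {Q : Subgroup G} (h : FNormal P Q) {T : Subgroup G}
    (hT : T ∈ agFamily p P) : Q ≤ T := by
  apply le_ag_of_normal_sup P hT Q h.1 h.sylow_le_normalizer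
  intro m hm x hx
  obtain ⟨y, hyQ, hyT, c, hc, rfl⟩ := h.normalizer_decomp hT.1 hm
  have hxM := hx.2
  have h1 : y * x * y⁻¹ ∈ Q ⊓ Subgroup.normalizer (T : Set G) :=
    ⟨(Subgroup.mem_normalizer_iff.mp hyQ x).mp hx.1,
      Subgroup.mul_mem _ (Subgroup.mul_mem _ hyT hxM) (Subgroup.inv_mem _ hyT)⟩
  have h2 : x⁻¹ * c * x⁻¹⁻¹ ∈ Subgroup.centralizer (T : Set G) :=
    conj_mem_centralizer (Subgroup.inv_mem _ hxM) hc
  have h3 : y * (x⁻¹ * c * x⁻¹⁻¹ * c⁻¹) * y⁻¹ ∈ Subgroup.centralizer (T : Set G) :=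
    conj_mem_centralizer hyT (Subgroup.mul_mem _ h2 (Subgroup.inv_mem _ hc))
  have e : y * c * x * (y * c)⁻¹ = (y * x * y⁻¹) * (y * (x⁻¹ * c * x⁻¹⁻¹ * c⁻¹) * y⁻¹) := by group
  rw [e]
  exact Subgroup.mul_mem _ (Subgroup.mem_sup_left h1) (Subgroup.mem_sup_right h3)

end fn

end Cfsg.Agent.Lib.Helper57.GT
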