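import Mathlib
import Cfsg.Agent.Lib.Helper57.FNormal

/-!
# Elements acting trivially on a factor `T / T₁`
-/

set_option autoImplicit false
open Cfsg
open Cfsg.Agent.Lib.Helper41

namespace Cfsg.Agent.Lib.Helper57.GT

section triv

variable {G : Type*} [Group G]

/-- the elements normalizing `T` and `T₁` and acting trivially on `T / T₁` (a subgroup when `T`
normalizes `T₁`) -/
def trivOn (T T₁ : Subgroup G) : Subgroup G where
  carrier := {n | n ∈ Subgroup.normalizer (T : Set G) ∧ n ∈ Subgroup.normalizer (T₁ : Set G) ∧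
    ∀ t ∈ T, t⁻¹ * (n * t * n⁻¹) ∈ T₁}
  one_mem' := ⟨Subgroup.one_mem _, Subgroup.one_mem _, fun t _ => by simp⟩
  mul_mem' := by
    rintro a b ⟨haT, haT₁, ha⟩ ⟨hbT, hbT₁, hb⟩
    refine ⟨Subgroup.mul_mem _ haT hbT, Subgroup.mul_mem _ haT₁ hbT₁, fun t ht => ?_⟩
    have h1 := hb t ht
    have h2 := ha t ht
    have h3 : a * (t⁻¹ * (b * t * b⁻¹)) * a⁻¹ ∈ T₁ :=
      (Subgroup.mem_normalizer_iff.mp haT₁ _).mp h1
    have e : t⁻¹ * (a * b * t * (a * b)⁻¹) =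
        (t⁻¹ * (a * t * a⁻¹)) * (a * (t⁻¹ * (b * t * b⁻¹)) * a⁻¹) := by group
    rw [e]
    exact T₁.mul_mem h2 h3
  inv_mem' := by
    rintro a ⟨haT, haT₁, ha⟩
    refine ⟨Subgroup.inv_mem _ haT, Subgroup.inv_mem _ haT₁, fun t ht => ?_⟩
    have ht' : a⁻¹ * t * a⁻¹⁻¹ ∈ T :=
      (Subgroup.mem_normalizer_iff.mp (Subgroup.inv_mem _ haT) t).mp ht
    have h1 := ha _ ht'
    have e0 : a * (a⁻¹ * t * a⁻¹⁻¹) * a⁻¹ = t := by group
    rw [e0] at h1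
    have h2 := T₁.inv_mem h1
    have e : t⁻¹ * (a⁻¹ * t * a⁻¹⁻¹) = ((a⁻¹ * t * a⁻¹⁻¹)⁻¹ * t)⁻¹ := by group
    rw [e]
    exact h2

theorem mem_trivOn {T T₁ : Subgroup G} {n : G} : n ∈ trivOn T T₁ ↔
    n ∈ Subgroup.normalizer (T : Set G) ∧ n ∈ Subgroup.normalizer (T₁ : Set G) ∧
      ∀ t ∈ T, t⁻¹ * (n * t * n⁻¹) ∈ T₁ := Iff.rfl

theorem trivOn_conj {T T₁ : Subgroup G} {n m : G} (hn : n ∈ trivOn T T₁)
    (hmT : m ∈ Subgroup.normalizer (T : Set G)) (hmT₁ : m ∈ Subgroup.normalizer (T₁ : Set G)) :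
    m * n * m⁻¹ ∈ trivOn T T₁ := by
  obtain ⟨hnT, hnT₁, hnt⟩ := hn
  refine ⟨Subgroup.mul_mem _ (Subgroup.mul_mem _ hmT hnT) (Subgroup.inv_mem _ hmT),
    Subgroup.mul_mem _ (Subgroup.mul_mem _ hmT₁ hnT₁) (Subgroup.inv_mem _ hmT₁), fun t ht => ?_⟩
  have ht' : m⁻¹ * t * m⁻¹⁻¹ ∈ T :=
    (Subgroup.mem_normalizer_iff.mp (Subgroup.inv_mem _ hmT) t).mp ht
  have h1 := hnt _ ht'
  have h2 := (Subgroup.mem_normalizer_iff.mp hmT₁ _).mp h1
  have e : t⁻¹ * (m * n * m⁻¹ * t * (m * n * m⁻¹)⁻¹) =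
      m * ((m⁻¹ * t * m⁻¹⁻¹)⁻¹ * (n * (m⁻¹ * t * m⁻¹⁻¹) * n⁻¹)) * m⁻¹ := by group
  rw [e]
  exact h2

theorem mem_normalizer_inf {A B : Subgroup G} {m : G} (hA : m ∈ Subgroup.normalizer (A : Set G))
    (hB : m ∈ Subgroup.normalizer (B : Set G)) :
    m ∈ Subgroup.normalizer ((A ⊓ B : Subgroup G) : Set G) := by
  rw [Subgroup.mem_normalizer_iff]
  intro z
  rw [Subgroup.mem_inf, Subgroup.mem_inf, ← Subgroup.mem_normalizer_iff.mp hA z,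
    ← Subgroup.mem_normalizer_iff.mp hB z]

/-- an element `v` of order prime to `p` acting on the `p`-group `Q₀` as the `p`-element `s`
(normalizing `Q₀`) centralizes `Q₀` -/
theorem centralizes_of_inner {p : ℕ} (Q₀ : Subgroup G) (v s : G) (hv : (orderOf v).Coprime p)
    (hs : ∃ b : ℕ, s ^ p ^ b = 1) (hsn : s ∈ Subgroup.normalizer (Q₀ : Set G))
    (hsq : ∀ q ∈ Q₀, v * q * v⁻¹ = s * q * s⁻¹) : ∀ q ∈ Q₀, v * q * v⁻¹ = q := by
  have hconj : ∀ k : ℕ, ∀ q ∈ Q₀, s ^ k * q * (s ^ k)⁻¹ ∈ Q₀ := by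
    intro k q hq
    exact (Subgroup.mem_normalizer_iff.mp (Subgroup.pow_mem _ hsn k) q).mp hq
  have hpow : ∀ k : ℕ, ∀ q ∈ Q₀, v ^ k * q * (v ^ k)⁻¹ = s ^ k * q * (s ^ k)⁻¹ := by
    intro k
    induction k with
    | zero => intro q _; simp
    | succ k ih =>
      intro q hq
      have h1 : s ^ k * q * (s ^ k)⁻¹ ∈ Q₀ := hconj k q hq
      calc v ^ (k + 1) * q * (v ^ (k + 1))⁻¹ = v * (v ^ k * q * (v ^ k)⁻¹) * v⁻¹ := by
            rw [pow_succ']; group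
        _ = v * (s ^ k * q * (s ^ k)⁻¹) * v⁻¹ := by rw [ih q hq]
        _ = s * (s ^ k * q * (s ^ k)⁻¹) * s⁻¹ := hsq _ h1
        _ = s ^ (k + 1) * q * (s ^ (k + 1))⁻¹ := by rw [pow_succ']; group
  have hsn' : ∀ q ∈ Q₀, s ^ orderOf v * q * (s ^ orderOf v)⁻¹ = q := by
    intro q hq
    rw [← hpow (orderOf v) q hq, pow_orderOf_eq_one]
    simp
  obtain ⟨b, hb'⟩ := hs
  have hcop : (orderOf v).Coprime (orderOf s) :=
    Nat.Coprime.coprime_dvd_right (orderOf_dvd_of_pow_eq_one hb') (Nat.Coprime.pow_right b hv)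
  obtain ⟨m, hm⟩ := exists_pow_eq_self_of_coprime hcop
  intro q hq
  have hcomm : Commute (s ^ orderOf v) q := by
    have := hsn' q hq
    show s ^ orderOf v * q = q * s ^ orderOf v
    calc s ^ orderOf v * q = (s ^ orderOf v * q * (s ^ orderOf v)⁻¹) * s ^ orderOf v := by group
      _ = q * s ^ orderOf v := by rw [this]
  have h2 : Commute ((s ^ orderOf v) ^ m) q := hcomm.pow_left m
  rw [hm] at h2
  rw [hsq q hq]
  calc s * q * s⁻¹ = (s * q) * s⁻¹ := rfl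
    _ = (q * s) * s⁻¹ := by rw [h2.eq]
    _ = q := by group

end triv

end Cfsg.Agent.Lib.Helper57.GT
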