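import Mathlib
import Cfsg.Agent.Lib.Helper57.TrivOn
import Cfsg.Agent.Lib.Helper57.SL2Aut

/-!
# A subgroup `Q` with `N_G(Q)` controlling strong fusion that is not centric can be enlarged

`G` with `SL₂(p)`-free automizers, `Q ≤ P` with `FNormal P Q` and `C_P(Q) ≰ Q`: the preimage `V` of
`W(C_P(Q) Q / Q)` in `N_G(Q)` is again `FNormal`, and properly contains `Q`.
-/

set_option autoImplicit false
open Cfsg
open Cfsg.Agent.Lib.Helper16
open Cfsg.Agent.Lib.Helper41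
open scoped commutatorElement

universe u

namespace Cfsg.Agent.Lib.Helper57.GT

section centric

variable {p : ℕ} [Fact p.Prime] {G : Type u} [Group G] [Finite G]
  {Fm : ∀ (X : Type u) [Group X], Subgroup X → Prop}

/-- the group-theoretic data of the enlargement -/
theorem exists_above_of_not_centric (hFm : GoodFam p Fm) (P : Sylow p G) (Q : Subgroup G)
    (hQ : FNormal P Q)
    (hctl : CtlAll p Fm (↥(Subgroup.normalizer (Q : Set G)) ⧸
      Q.subgroupOf (Subgroup.normalizer (Q : Set G))))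
    (hnc : ¬ (P : Subgroup G) ⊓ Subgroup.centralizer (Q : Set G) ≤ Q) :
    ∃ V : Subgroup G, Q ≤ V ∧ V ≤ (P : Subgroup G) ∧ ¬ V ≤ Q ∧
      Cfsg.IsStronglyClosed V (P : Subgroup G) ∧
      (∀ x ∈ V, ∀ y ∈ V, x * y * x⁻¹ * y⁻¹ ∈ Q) ∧
      (∀ x ∈ V, ∃ d ∈ (P : Subgroup G) ⊓ Subgroup.centralizer (Q : Set G), d⁻¹ * x ∈ Q) := by
  set N := Subgroup.normalizer (Q : Set G) with hN
  have hQP : Q ≤ (P : Subgroup G) := hQ.1
  have hPN : (P : Subgroup G) ≤ N := hQ.sylow_le_normalizer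
  have hQN : Q ≤ N := Subgroup.le_normalizer
  set R' := Q.subgroupOf N with hR'
  set π := QuotientGroup.mk' R' with hπ
  have hπs : Function.Surjective π := QuotientGroup.mk'_surjective R'
  have hπ1 : ∀ x : ↥N, π x = 1 ↔ (x : G) ∈ Q := by
    intro x
    rw [hπ, QuotientGroup.mk'_apply, QuotientGroup.eq_one_iff, hR', Subgroup.mem_subgroupOf]
  have hπeq : ∀ x y : ↥N, π x = π y ↔ (x : G)⁻¹ * (y : G) ∈ Q := by
    intro x y
    rw [hπ, QuotientGroup.mk'_apply, QuotientGroup.mk'_apply, QuotientGroup.eq, hR',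
      Subgroup.mem_subgroupOf]
    rfl
  set P' : Sylow p ↥N := P.subtype hPN with hP'
  have hP'coe : (P' : Subgroup ↥N) = (P : Subgroup G).subgroupOf N := Sylow.coe_subtype _ _
  set Pb : Sylow p (↥N ⧸ R') := P'.mapSurjective hπs with hPb
  have hPbcoe : (Pb : Subgroup (↥N ⧸ R')) = (P' : Subgroup ↥N).map π :=
    Sylow.coe_mapSurjective _ _
  have hmemPb : ∀ x : ↥N, π x ∈ (Pb : Subgroup (↥N ⧸ R')) ↔ (x : G) ∈ (P : Subgroup G) := by
    intro x
    rw [hPbcoe]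
    constructor
    · rintro ⟨s, hs, hsx⟩
      have hs' : (s : G) ∈ (P : Subgroup G) := by
        have : s ∈ (P' : Subgroup ↥N) := hs
        rw [hP'coe, Subgroup.mem_subgroupOf] at this
        exact this
      have h2 := (hπeq s x).mp hsx
      have e : (x : G) = (s : G) * ((s : G)⁻¹ * (x : G)) := by group
      rw [e]
      exact Subgroup.mul_mem _ hs' (hQP h2)
    · intro hx
      refine ⟨x, ?_, rfl⟩
      show x ∈ (P' : Subgroup ↥N)
      rw [hP'coe, Subgroup.mem_subgroupOf]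
      exact hx
  set D := (P : Subgroup G) ⊓ Subgroup.centralizer (Q : Set G) with hD
  have hDN : D ≤ N := inf_le_left.trans hPN
  set Db : Subgroup (↥N ⧸ R') := (D.subgroupOf N).map π with hDb
  have hmemDb : ∀ x : ↥N, π x ∈ Db ↔ ∃ d ∈ D, d⁻¹ * (x : G) ∈ Q := by
    intro x
    constructor
    · rintro ⟨s, hs, hsx⟩
      have hs : (s : G) ∈ D := Subgroup.mem_subgroupOf.mp hs
      exact ⟨(s : G), hs, (hπeq s x).mp hsx⟩
    · rintro ⟨d, hd, hdx⟩
      refine ⟨⟨d, hDN hd⟩, Subgroup.mem_subgroupOf.mpr hd, ?_⟩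
      exact (hπeq _ _).mpr hdx
  have hDbPb : Db ≤ (Pb : Subgroup (↥N ⧸ R')) := by
    rintro _ ⟨s, hs, rfl⟩
    have hs : (s : G) ∈ D := Subgroup.mem_subgroupOf.mp hs
    exact (hmemPb s).mpr hs.1
  have hDbsc : Cfsg.IsStronglyClosed Db (Pb : Subgroup (↥N ⧸ R')) := by
    refine ⟨hDbPb, ?_⟩
    rintro _ ⟨d, hd, rfl⟩ gb hgb
    obtain ⟨g, rfl⟩ := hπs gb
    have hd : (d : G) ∈ D := Subgroup.mem_subgroupOf.mp hd
    rw [← map_inv, ← map_mul, ← map_mul] at hgb ⊢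
    have h1 : ((g * d * g⁻¹ : ↥N) : G) ∈ (P : Subgroup G) := (hmemPb _).mp hgb
    have h2 : ((g * d * g⁻¹ : ↥N) : G) ∈ Subgroup.centralizer (Q : Set G) :=
      conj_mem_centralizer g.2 hd.2
    exact Subgroup.mem_map_of_mem _ (Subgroup.mem_subgroupOf.mpr ⟨h1, h2⟩)
  have hDbne : Db ≠ ⊥ := by
    intro h
    apply hnc
    intro d hd
    have h1 : π ⟨d, hDN hd⟩ ∈ Db := Subgroup.mem_map_of_mem _ (Subgroup.mem_subgroupOf.mpr hd)
    rw [h, Subgroup.mem_bot, hπ1] at h1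
    exact h1
  set Wb := ZJ.WW (Fm (↥N ⧸ R')) Db with hWb
  have hWbD : Wb ≤ Db := ZJ.WW_le (hFm.good _).1 _
  have hWbne : Wb ≠ ⊥ := hFm.ne_bot _ _ (Pb.2.to_le hDbPb) hDbne
  have hWbcomm : ⁅Wb, Wb⁆ = ⊥ := ZJ.WW_commutator_eq_bot (hFm.good _) Db
  set V := (Wb.comap π).map N.subtype with hV
  have hmemV : ∀ x : G, x ∈ V ↔ ∃ hx : x ∈ N, π ⟨x, hx⟩ ∈ Wb := by
    intro x
    rw [hV]
    constructor
    · rintro ⟨y, hy, rfl⟩
      exact ⟨y.2, hy⟩
    · rintro ⟨hx, h⟩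
      exact ⟨⟨x, hx⟩, h, rfl⟩
  have hQV : Q ≤ V := by
    intro x hx
    rw [hmemV]
    refine ⟨hQN hx, ?_⟩
    rw [(hπ1 _).mpr hx]
    exact Subgroup.one_mem _
  have hVD : ∀ x ∈ V, ∃ d ∈ D, d⁻¹ * x ∈ Q := by
    intro x hx
    obtain ⟨hxN, hxW⟩ := (hmemV x).mp hx
    exact (hmemDb ⟨x, hxN⟩).mp (hWbD hxW)
  have hVP : V ≤ (P : Subgroup G) := by
    intro x hx
    obtain ⟨d, hd, hdx⟩ := hVD x hx
    have e : x = d * (d⁻¹ * x) := by group
    rw [e]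
    exact Subgroup.mul_mem _ hd.1 (hQP hdx)
  have hVQ : ¬ V ≤ Q := by
    intro h
    apply hWbne
    rw [eq_bot_iff]
    intro w hw
    obtain ⟨y, rfl⟩ := hπs w
    have hyV : (y : G) ∈ V := (hmemV _).mpr ⟨y.2, hw⟩
    rw [Subgroup.mem_bot, hπ1]
    exact h hyV
  refine ⟨V, hQV, hVP, hVQ, ⟨hVP, ?_⟩, ?_, hVD⟩
  · -- strongly closed
    intro x hx g hg
    obtain ⟨hxN, hxW⟩ := (hmemV x).mp hx
    obtain ⟨y, hy, hya⟩ := hQ.2 {x} g (by
      intro a ha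
      rw [Set.mem_singleton_iff] at ha
      rw [ha]; exact hVP hx) (by
      intro a ha
      rw [Set.mem_singleton_iff] at ha
      rw [ha]; exact hg)
    have hyx := hya x rfl
    rw [← hyx] at hg ⊢
    obtain ⟨nb, hnb, hnba⟩ := hctl Pb Db hDbsc {π ⟨x, hxN⟩} (π ⟨y, hy⟩) (by
      intro a ha
      rw [Set.mem_singleton_iff] at ha
      rw [ha]; exact hDbPb (hWbD hxW)) (by
      intro a ha
      rw [Set.mem_singleton_iff] at ha
      rw [ha, ← map_inv, ← map_mul, ← map_mul]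
      exact (hmemPb _).mpr hg)
    have h1 := hnba _ rfl
    have h2 : nb * π ⟨x, hxN⟩ * nb⁻¹ ∈ Wb := (Subgroup.mem_normalizer_iff.mp hnb _).mp hxW
    rw [h1, ← map_inv, ← map_mul, ← map_mul] at h2
    exact (hmemV _).mpr ⟨_, h2⟩
  · -- `V / Q` is abelian
    intro x hx y hy
    obtain ⟨hxN, hxW⟩ := (hmemV x).mp hx
    obtain ⟨hyN, hyW⟩ := (hmemV y).mp hy
    have h1 : ⁅π ⟨x, hxN⟩, π ⟨y, hyN⟩⁆ ∈ ⁅Wb, Wb⁆ := Subgroup.commutator_mem_commutator hxW hyW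
    rw [hWbcomm, Subgroup.mem_bot, commutatorElement_def, ← map_inv, ← map_inv, ← map_mul,
      ← map_mul, ← map_mul, hπ1] at h1
    exact h1

end centric

end Cfsg.Agent.Lib.Helper57.GT
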