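import Mathlib
import Cfsg.Agent.Lib.Helper57.Centric
import Cfsg.Agent.Lib.Helper20.SylowNormal

/-!
# The largest subgroup whose normalizer controls strong fusion is centric and radical

for groups with `SL₂(p)`-free automizers of `p`-subgroups, `p` odd.
-/

set_option autoImplicit false
open Cfsg
open Cfsg.Agent.Lib.Helper16
open Cfsg.Agent.Lib.Helper41

universe u

namespace Cfsg.Agent.Lib.Helper57.GT

section constrained

variable {p : ℕ} [Fact p.Prime] {G : Type u} [Group G] [Finite G]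

/-- the subgroup `V` above a non-centric `Q` is contained in every member of the
Alperin–Goldschmidt family -/
theorem le_ag_of_above (P : Sylow p G) (Q : Subgroup G) (hQ : FNormal P Q) (V : Subgroup G)
    (hQV : Q ≤ V) (hVP : V ≤ (P : Subgroup G))
    (hVsc : Cfsg.IsStronglyClosed V (P : Subgroup G))
    (hVab : ∀ x ∈ V, ∀ y ∈ V, x * y * x⁻¹ * y⁻¹ ∈ Q)
    (hVD : ∀ x ∈ V, ∃ d ∈ (P : Subgroup G) ⊓ Subgroup.centralizer (Q : Set G), d⁻¹ * x ∈ Q)
    {T : Subgroup G} (hT : T ∈ agFamily p P) : V ≤ T := by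
  have hQT : Q ≤ T := hQ.le_ag hT
  have hTP : T ≤ (P : Subgroup G) := hT.1
  have hQsc := hQ.stronglyClosed
  have hPNQ : (P : Subgroup G) ≤ Subgroup.normalizer (Q : Set G) := hQ.sylow_le_normalizer
  have hPNV : (P : Subgroup G) ≤ Subgroup.normalizer (V : Set G) := fun g hg =>
    mem_normalizer_of_stronglyClosed hVsc hVP le_rfl (Subgroup.le_normalizer hg)
  have hQp : IsPGroup p Q := P.2.to_le hQ.1
  set C := Subgroup.centralizer (Q : Set G) with hC
  set M := Subgroup.normalizer (T : Set G) with hM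
  set V₀ := V ⊓ C with hV₀
  -- it suffices to treat `V₀`
  suffices hV₀T : V₀ ≤ T by
    intro x hx
    obtain ⟨d, hd, hdx⟩ := hVD x hx
    have hdV : d ∈ V := by
      have e : d = x * (d⁻¹ * x)⁻¹ := by group
      rw [e]
      exact V.mul_mem hx (V.inv_mem (hQV hdx))
    have e : x = d * (d⁻¹ * x) := by group
    rw [e]
    exact T.mul_mem (hV₀T ⟨hdV, hd.2⟩) (hQT hdx)
  have hV₀P : V₀ ≤ (P : Subgroup G) := inf_le_left.trans hVP
  have hPNC : (P : Subgroup G) ≤ Subgroup.normalizer (C : Set G) := by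
    intro g hg
    rw [Subgroup.mem_normalizer_iff]
    intro c
    constructor
    · intro hc
      exact conj_mem_centralizer (hPNQ hg) hc
    · intro hc
      have := conj_mem_centralizer (Subgroup.inv_mem _ (hPNQ hg)) hc
      have e : g⁻¹ * (g * c * g⁻¹) * g⁻¹⁻¹ = c := by group
      rwa [e] at this
  have hPNV₀ : (P : Subgroup G) ≤ Subgroup.normalizer (V₀ : Set G) := fun g hg =>
    mem_normalizer_inf (hPNV hg) (hPNC hg)
  apply le_of_inf_normalizer_le P hTP hV₀P hPNV₀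
  -- the subgroup `N₁`
  set N₁ := trivOn T (T ⊓ V) ⊓ trivOn (T ⊓ V) Q ⊓ C with hN₁
  have hN₁M : N₁ ≤ M := fun n hn => hn.1.1.1
  have hMTV : ∀ m ∈ M, m ∈ Subgroup.normalizer ((T ⊓ V : Subgroup G) : Set G) := by
    intro m hm
    apply mem_normalizer_of_lc_le
    intro z hz
    rw [mem_lc] at hz
    have h1 : m * (m⁻¹ * z * m) * m⁻¹ ∈ T := (Subgroup.mem_normalizer_iff.mp hm _).mp hz.1
    have h2 := hVsc.2 _ hz.2 m (hTP h1)
    have e : m * (m⁻¹ * z * m) * m⁻¹ = z := by group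
    rw [e] at h1 h2
    exact ⟨h1, h2⟩
  have hMQ : ∀ m ∈ M, m ∈ Subgroup.normalizer (Q : Set G) := fun m hm =>
    mem_normalizer_of_stronglyClosed hQsc hQT hTP hm
  intro y hy
  refine ag_radical_mem' P hT N₁ hN₁M ?_ ?_ y ?_ (hV₀P hy.1)
  · rw [Subgroup.normal_subgroupOf_iff hN₁M]
    intro n m hn hm
    refine ⟨⟨trivOn_conj hn.1.1 hm (hMTV m hm), trivOn_conj hn.1.2 (hMTV m hm) (hMQ m hm)⟩, ?_⟩
    exact conj_mem_centralizer (hMQ m hm) hn.2
  · intro v hv hvo
    have hvq : ∀ q ∈ Q, v * q * v⁻¹ = q := by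
      intro q hq
      have := Subgroup.mem_centralizer_iff.mp hv.2 q hq
      calc v * q * v⁻¹ = (v * q) * v⁻¹ := rfl
        _ = (q * v) * v⁻¹ := by rw [this]
        _ = q := by group
    have h1 : v ∈ Subgroup.centralizer ((T ⊓ V : Subgroup G) : Set G) :=
      centralizes_of_chain Q hQp (T ⊓ V) v hvo hvq hv.1.2.2.2
    have hvq' : ∀ q ∈ T ⊓ V, v * q * v⁻¹ = q := by
      intro q hq
      have := Subgroup.mem_centralizer_iff.mp h1 q hq
      calc v * q * v⁻¹ = (v * q) * v⁻¹ := rfl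
        _ = (q * v) * v⁻¹ := by rw [this]
        _ = q := by group
    exact centralizes_of_chain (T ⊓ V) (P.2.to_le (inf_le_left.trans hTP)) T v hvo hvq'
      hv.1.1.2.2
  · -- `y ∈ N₁`
    obtain ⟨⟨hyV, hyC⟩, hyM⟩ := hy
    have hyP : y ∈ (P : Subgroup G) := hVP hyV
    have hyTV : y ∈ Subgroup.normalizer ((T ⊓ V : Subgroup G) : Set G) :=
      mem_normalizer_inf hyM (hPNV hyP)
    have hyQ : y ∈ Subgroup.normalizer (Q : Set G) := hPNQ hyP
    refine ⟨⟨⟨hyM, hyTV, fun t ht => ?_⟩, ⟨hyTV, hyQ, fun t ht => ?_⟩⟩, hyC⟩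
    · have h1 : y * t * y⁻¹ ∈ T := (Subgroup.mem_normalizer_iff.mp hyM t).mp ht
      have h2 : t⁻¹ * y * t⁻¹⁻¹ ∈ V :=
        (Subgroup.mem_normalizer_iff.mp (hPNV (Subgroup.inv_mem _ (hTP ht))) y).mp hyV
      have e : t⁻¹ * (y * t * y⁻¹) = (t⁻¹ * y * t⁻¹⁻¹) * y⁻¹ := by group
      exact ⟨T.mul_mem (T.inv_mem ht) h1, by rw [e]; exact V.mul_mem h2 (V.inv_mem hyV)⟩
    · have := hVab t⁻¹ (V.inv_mem ht.2) y hyV
      have e : t⁻¹ * (y * t * y⁻¹) = t⁻¹ * y * t⁻¹⁻¹ * y⁻¹ := by group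
      rw [e]; exact this

/-- a subgroup with `N_G(Q)` controlling strong fusion that is not centric can be enlarged -/
theorem exists_bigger_of_not_centric (hp : p ≠ 2) (hG : AutFree p G) (P : Sylow p G)
    (Q : Subgroup G) (hQ : FNormal P Q)
    (hnc : ¬ (P : Subgroup G) ⊓ Subgroup.centralizer (Q : Set G) ≤ Q) :
    ∃ V : Subgroup G, FNormal P V ∧ Q ≤ V ∧ ¬ V ≤ Q := by
  have hFm := goodFam_comm.{u} (p := p)
  have hctl := ctlAll_of_autFree hp hFm _
    ((hG.subgroup (Subgroup.normalizer (Q : Set G))).quotient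
      (Q.subgroupOf (Subgroup.normalizer (Q : Set G))))
  obtain ⟨V, hQV, hVP, hVQ, hVsc, hVab, hVD⟩ := exists_above_of_not_centric hFm P Q hQ hctl hnc
  exact ⟨V, fnormal_of_le_ag P V hVsc
    (fun T hT => le_ag_of_above P Q hQ V hQV hVP hVsc hVab hVD hT), hQV, hVQ⟩

end constrained

end Cfsg.Agent.Lib.Helper57.GT
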