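import Mathlib
import Cfsg.Agent.Lib.Helper57.Constrained

/-!
# The largest subgroup whose normalizer controls strong fusion: centric, radical, least
-/

set_option autoImplicit false
open Cfsg
open Cfsg.Agent.Lib.Helper16
open Cfsg.Agent.Lib.Helper41

universe u

namespace Cfsg.Agent.Lib.Helper57.GT

section cr

variable {p : ℕ} [Fact p.Prime] {G : Type u} [Group G] [Finite G]

theorem fnormal_bot (P : Sylow p G) : FNormal P ⊥ := by
  refine ⟨bot_le, fun A g _ _ => ⟨g, ?_, fun a _ => rfl⟩⟩
  rw [Subgroup.mem_normalizer_iff]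
  intro h
  simp only [Subgroup.mem_bot]
  constructor
  · intro h1; rw [h1]; group
  · intro h1
    have : h = g⁻¹ * (g * h * g⁻¹) * g := by group
    rw [this, h1]; group

theorem exists_max_fnormal (P : Sylow p G) :
    ∃ Q : Subgroup G, FNormal P Q ∧ ∀ Q' : Subgroup G, FNormal P Q' → Nat.card Q' ≤ Nat.card Q := by
  have hfin : {Q : Subgroup G | FNormal P Q}.Finite := Set.toFinite _
  obtain ⟨Q, hQ, hmax⟩ := Set.exists_max_image _ (fun Q : Subgroup G => Nat.card Q) hfin
    ⟨⊥, fnormal_bot P⟩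
  exact ⟨Q, hQ, fun Q' hQ' => hmax Q' hQ'⟩

theorem centric_of_max (hp : p ≠ 2) (hG : AutFree p G) (P : Sylow p G) (Q : Subgroup G)
    (hQ : FNormal P Q)
    (hmax : ∀ Q' : Subgroup G, FNormal P Q' → Nat.card Q' ≤ Nat.card Q) :
    (P : Subgroup G) ⊓ Subgroup.centralizer (Q : Set G) ≤ Q := by
  by_contra hnc
  obtain ⟨V, hV, hQV, hVQ⟩ := exists_bigger_of_not_centric hp hG P Q hQ hnc
  apply hVQ
  rw [← Subgroup.eq_of_le_of_card_ge hQV (hmax V hV)]

theorem sylow_not_dvd_relIndex (P : Sylow p G) {N : Subgroup G} (hPN : (P : Subgroup G) ≤ N) :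
    ¬ p ∣ (P : Subgroup G).relIndex N := by
  intro h
  apply P.not_dvd_index
  exact h.trans (Subgroup.relIndex_dvd_index_of_le hPN)

theorem radical_of_max (P : Sylow p G) (Q : Subgroup G) (hQ : FNormal P Q)
    (hmax : ∀ Q' : Subgroup G, FNormal P Q' → Nat.card Q' ≤ Nat.card Q)
    (hcen : (P : Subgroup G) ⊓ Subgroup.centralizer (Q : Set G) ≤ Q)
    (X : Subgroup G) (hXN : X ≤ Subgroup.normalizer (Q : Set G))
    (hXinv : ∀ n ∈ Subgroup.normalizer (Q : Set G), X.map (MulAut.conj n).toMonoidHom = X)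
    (hle : Q ⊔ Subgroup.centralizer (Q : Set G) ≤ X)
    (hidx : ∃ k : ℕ, (Q ⊔ Subgroup.centralizer (Q : Set G)).relIndex X = p ^ k) :
    X = Q ⊔ Subgroup.centralizer (Q : Set G) := by
  have hp : p.Prime := Fact.out
  set C := Subgroup.centralizer (Q : Set G) with hC
  set N := Subgroup.normalizer (Q : Set G) with hN
  set Y := Q ⊔ C with hY
  have hQP : Q ≤ (P : Subgroup G) := hQ.1
  have hPN : (P : Subgroup G) ≤ N := hQ.sylow_le_normalizer
  have hQp : IsPGroup p Q := P.2.to_le hQP
  have hQX : Q ≤ X := le_sup_left.trans hle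
  have hCX : C ≤ X := le_sup_right.trans hle
  have hXconj : ∀ n ∈ N, ∀ z ∈ X, n * z * n⁻¹ ∈ X := by
    intro n hn z hz
    rw [← hXinv n hn]
    exact ⟨z, hz, rfl⟩
  have hNX : N ≤ Subgroup.normalizer (X : Set G) := by
    intro n hn
    rw [mem_normalizer_iff_lc]
    exact hXinv n hn
  set Q' := X ⊓ (P : Subgroup G) with hQ'
  -- `Q'` is strongly closed
  have hQ'sc : Cfsg.IsStronglyClosed Q' (P : Subgroup G) := by
    refine ⟨inf_le_right, fun x hx g hg => ⟨?_, hg⟩⟩
    obtain ⟨y, hy, hya⟩ := hQ.2 {x} g (by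
      intro a ha
      rw [Set.mem_singleton_iff] at ha
      rw [ha]; exact hx.2) (by
      intro a ha
      rw [Set.mem_singleton_iff] at ha
      rw [ha]; exact hg)
    rw [← hya x rfl]
    exact hXconj y hy x hx.1
  have hPNQ' : (P : Subgroup G) ≤ Subgroup.normalizer (Q' : Set G) := fun g hg =>
    mem_normalizer_inf (hNX (hPN hg)) (Subgroup.le_normalizer hg)
  have hQ'fn : FNormal P Q' := by
    apply fnormal_of_le_ag P Q' hQ'sc
    intro T hT
    have hTP : T ≤ (P : Subgroup G) := hT.1
    have hQT : Q ≤ T := hQ.le_ag hT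
    set M := Subgroup.normalizer (T : Set G) with hM
    apply le_of_inf_normalizer_le P hTP inf_le_right hPNQ'
    intro u hu
    refine ag_radical_mem' P hT (X ⊓ M) inf_le_right ?_ ?_ u ⟨hu.1.1, hu.2⟩ hu.1.2
    · rw [Subgroup.normal_subgroupOf_iff inf_le_right]
      intro n m hn hm
      refine ⟨?_, Subgroup.mul_mem _ (Subgroup.mul_mem _ hm hn.2) (Subgroup.inv_mem _ hm)⟩
      obtain ⟨y, hyQ, hyT, c, hc, rfl⟩ := hQ.normalizer_decomp hTP hm
      have hcX : c ∈ X := hCX (Subgroup.centralizer_le hQT hc)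
      have h1 : c * n * c⁻¹ ∈ X := X.mul_mem (X.mul_mem hcX hn.1) (X.inv_mem hcX)
      have h2 := hXconj y hyQ _ h1
      have e : y * c * n * (y * c)⁻¹ = y * (c * n * c⁻¹) * y⁻¹ := by group
      rw [e]; exact h2
    · intro v hv hvo
      obtain ⟨k, hk⟩ := hidx
      -- `v ∈ Y`
      have hvY : v ∈ Y := by
        have hYn : (Y.subgroupOf X).Normal := by
          rw [Subgroup.normal_subgroupOf_iff hle]
          intro y x hy hx
          have hxN := hXN hx
          have hmap : ∀ (S : Subgroup G), S.map (MulAut.conj x).toMonoidHom = S →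
              ∀ s ∈ S, x * s * x⁻¹ ∈ S := by
            intro S hS s hs
            rw [← hS]; exact ⟨s, hs, rfl⟩
          have h1 : Y.map (MulAut.conj x).toMonoidHom = Y := by
            rw [hY, Subgroup.map_sup]
            congr 1
            · exact mem_normalizer_iff_lc.mp hxN
            · apply le_antisymm
              · rintro _ ⟨c, hc, rfl⟩
                exact conj_mem_centralizer hxN hc
              · intro c hc
                refine ⟨x⁻¹ * c * x, ?_, by simp [MulAut.conj_apply]; group⟩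
                have := conj_mem_centralizer (Subgroup.inv_mem _ hxN) hc
                simpa using this
          exact hmap Y h1 y hy
        have h1 := Subgroup.pow_index_mem (Y.subgroupOf X) (⟨v, hv.1⟩ : ↥X)
        have h2 : (Y.subgroupOf X).index = p ^ k := hk
        rw [h2, Subgroup.mem_subgroupOf] at h1
        have h3 : v ^ p ^ k ∈ Y := by simpa using h1
        have hcop : (p ^ k).Coprime (orderOf v) := (Nat.Coprime.pow_right k hvo).symm
        obtain ⟨m, hm⟩ := exists_pow_eq_self_of_coprime hcop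
        rw [← hm]
        exact Subgroup.pow_mem _ h3 m
      -- `v` centralizes `Q`
      have hQNC : Q ≤ Subgroup.normalizer (C : Set G) := by
        intro q hq
        rw [Subgroup.mem_normalizer_iff]
        intro c
        have hqN : q ∈ N := Subgroup.le_normalizer hq
        constructor
        · intro hc
          exact conj_mem_centralizer hqN hc
        · intro hc
          have := conj_mem_centralizer (Subgroup.inv_mem _ hqN) hc
          have e : q⁻¹ * (q * c * q⁻¹) * q⁻¹⁻¹ = c := by group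
          rwa [e] at this
      rw [hY, sup_comm] at hvY
      obtain ⟨c, hc, q, hq, rfl⟩ := (mem_sup_of_le_normalizer hQNC).mp hvY
      have hq_pow : ∃ b : ℕ, q ^ p ^ b = 1 := by
        obtain ⟨b, hb⟩ := hQp ⟨q, hq⟩
        refine ⟨b, ?_⟩
        have := congrArg Subtype.val hb
        simpa using this
      have hact : ∀ x ∈ Q, (c * q) * x * (c * q)⁻¹ = q * x * q⁻¹ := by
        intro x hx
        have hx' : q * x * q⁻¹ ∈ Q := Q.mul_mem (Q.mul_mem hq hx) (Q.inv_mem hq)
        have := Subgroup.mem_centralizer_iff.mp hc _ hx'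
        calc (c * q) * x * (c * q)⁻¹ = (c * (q * x * q⁻¹)) * c⁻¹ := by group
          _ = ((q * x * q⁻¹) * c) * c⁻¹ := by rw [this]
          _ = q * x * q⁻¹ := by group
      have hvq : ∀ x ∈ Q, (c * q) * x * (c * q)⁻¹ = x :=
        centralizes_of_inner Q (c * q) q hvo hq_pow (Subgroup.le_normalizer hq) hact
      have hvC : c * q ∈ C := by
        rw [hC, Subgroup.mem_centralizer_iff]
        intro x hx
        have := hvq x hx
        calc x * (c * q) = ((c * q) * x * (c * q)⁻¹) * (c * q) := by rw [this]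
          _ = (c * q) * x := by group
      -- `[T, v] ≤ Q`
      have hvT : ∀ t ∈ T, t⁻¹ * ((c * q) * t * (c * q)⁻¹) ∈ Q := by
        intro t ht
        apply hcen
        constructor
        · have h1 : (c * q) * t * (c * q)⁻¹ ∈ T := (Subgroup.mem_normalizer_iff.mp hv.2 t).mp ht
          exact (P : Subgroup G).mul_mem ((P : Subgroup G).inv_mem (hTP ht)) (hTP h1)
        · have htN : t⁻¹ ∈ N := hPN ((P : Subgroup G).inv_mem (hTP ht))
          have h1 : t⁻¹ * (c * q) * t⁻¹⁻¹ ∈ C := conj_mem_centralizer htN hvC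
          have e : t⁻¹ * ((c * q) * t * (c * q)⁻¹) = (t⁻¹ * (c * q) * t⁻¹⁻¹) * (c * q)⁻¹ := by
            group
          rw [e]
          exact C.mul_mem h1 (C.inv_mem hvC)
      exact centralizes_of_chain Q hQp T (c * q) hvo hvq hvT
  -- maximality
  have hQQ' : Q ≤ Q' := le_inf hQX hQP
  have hQeq : Q = Q' := Subgroup.eq_of_le_of_card_ge hQQ' (hmax Q' hQ'fn)
  -- index computation
  have h1 : ¬ p ∣ ((P : Subgroup G) ⊓ X).relIndex X :=
    not_dvd_relIndex_inf_of_normal hPN P.2 (sylow_not_dvd_relIndex P hPN) hXN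
      (fun c n hc hn => hXconj n hn c hc)
  rw [inf_comm, ← hQ', ← hQeq] at h1
  obtain ⟨k, hk⟩ := hidx
  have h2 : Q.relIndex Y * Y.relIndex X = Q.relIndex X :=
    Subgroup.relIndex_mul_relIndex Q Y X le_sup_left hle
  have hk0 : k = 0 := by
    by_contra hk0
    apply h1
    rw [← h2, hk]
    exact Dvd.dvd.mul_left (dvd_pow_self p hk0) _
  rw [hk0, pow_zero, Subgroup.relIndex_eq_one] at hk
  exact le_antisymm hk hle

end cr

end Cfsg.Agent.Lib.Helper57.GT
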