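import Mathlib
import Cfsg.Agent.Lib.Helper57.CentricRadical

/-!
# A subgroup whose normalizer controls strong fusion lies in every centric radical subgroup;
the hypothesis on automizers in explicit form
-/

set_option autoImplicit false
open Cfsg
open Cfsg.Agent.Lib.Helper16
open Cfsg.Agent.Lib.Helper41

universe u

namespace Cfsg.Agent.Lib.Helper57.GT

section least

variable {p : ℕ} [Fact p.Prime] {G : Type u} [Group G] [Finite G]

omit [Fact (Nat.Prime p)] [Finite G] in
theorem normalizer_le_normalizer_centralizer (R : Subgroup G) :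
    Subgroup.normalizer (R : Set G) ≤
      Subgroup.normalizer ((Subgroup.centralizer (R : Set G) : Subgroup G) : Set G) := by
  intro n hn
  rw [Subgroup.mem_normalizer_iff]
  intro c
  constructor
  · intro hc
    exact conj_mem_centralizer hn hc
  · intro hc
    have := conj_mem_centralizer (Subgroup.inv_mem _ hn) hc
    have e : n⁻¹ * (n * c * n⁻¹) * n⁻¹⁻¹ = c := by group
    rwa [e] at this

theorem FNormal.le_of_centric_radical {P : Sylow p G} {Q : Subgroup G} (hQ : FNormal P Q)
    (R : Subgroup G) (hRP : R ≤ (P : Subgroup G))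
    (hRcen : ∃ R₀ : Sylow p ↥(Subgroup.centralizer (R : Set G)),
      (R₀ : Subgroup ↥(Subgroup.centralizer (R : Set G))).map
        (Subgroup.centralizer (R : Set G)).subtype = R ⊓ Subgroup.centralizer (R : Set G))
    (hRrad : ∀ X : Subgroup G, X ≤ Subgroup.normalizer (R : Set G) →
      (∀ n ∈ Subgroup.normalizer (R : Set G), X.map (MulAut.conj n).toMonoidHom = X) →
      R ⊔ Subgroup.centralizer (R : Set G) ≤ X →
      (∃ k : ℕ, (R ⊔ Subgroup.centralizer (R : Set G)).relIndex X = p ^ k) →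
      X = R ⊔ Subgroup.centralizer (R : Set G)) : Q ≤ R := by
  have hp : p.Prime := Fact.out
  set C := Subgroup.centralizer (R : Set G) with hC
  set M := Subgroup.normalizer (R : Set G) with hM
  have hQP : Q ≤ (P : Subgroup G) := hQ.1
  have hQp : IsPGroup p Q := P.2.to_le hQP
  have hCM : C ≤ M := Subgroup.centralizer_le_normalizer (R : Set G)
  have hRM : R ≤ M := Subgroup.le_normalizer
  have hMC : M ≤ Subgroup.normalizer (C : Set G) := normalizer_le_normalizer_centralizer R
  apply le_of_inf_normalizer_le P hRP hQP hQ.sylow_le_normalizer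
  set A := Q ⊓ M with hA
  set Y := R ⊔ C with hY
  set X := A ⊔ Y with hX
  have hYM : Y ≤ M := sup_le hRM hCM
  have hXM : X ≤ M := sup_le inf_le_right hYM
  have hMY : M ≤ Subgroup.normalizer (Y : Set G) := by
    intro n hn
    rw [mem_normalizer_iff_lc, hY]
    show (R ⊔ C).map (MulAut.conj n).toMonoidHom = R ⊔ C
    rw [Subgroup.map_sup]
    congr 1
    · exact mem_normalizer_iff_lc.mp hn
    · exact mem_normalizer_iff_lc.mp (hMC hn)
  -- `X` is normalized by `M`
  have hXinv : ∀ n ∈ M, X.map (MulAut.conj n).toMonoidHom = X := by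
    intro n hn
    apply lc_eq_of_le_of_finite
    obtain ⟨y, hyQ, hyR, c, hc, rfl⟩ := hQ.normalizer_decomp hRP hn
    have hcX : c ∈ X := Subgroup.mem_sup_right (Subgroup.mem_sup_right hc)
    have hyX : X ≤ X.comap (MulAut.conj y).toMonoidHom := by
      apply sup_le
      · intro a ha
        apply Subgroup.mem_sup_left
        exact ⟨(Subgroup.mem_normalizer_iff.mp hyQ a).mp ha.1,
          M.mul_mem (M.mul_mem hyR ha.2) (M.inv_mem hyR)⟩
      · intro z hz
        apply Subgroup.mem_sup_right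
        exact (Subgroup.mem_normalizer_iff.mp (hMY hyR) z).mp hz
    rintro _ ⟨z, hz, rfl⟩
    have h1 : c * z * c⁻¹ ∈ X := X.mul_mem (X.mul_mem hcX hz) (X.inv_mem hcX)
    have h2 := hyX h1
    have e : (MulAut.conj (y * c)).toMonoidHom z = y * (c * z * c⁻¹) * y⁻¹ := by
      show y * c * z * (y * c)⁻¹ = _
      group
    rw [e]
    exact h2
  -- the index of `Y` in `X` is a power of `p`
  have hAY : A ≤ Subgroup.normalizer (Y : Set G) := inf_le_right.trans hMY
  have hidx : ∃ k : ℕ, Y.relIndex X = p ^ k := by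
    have h1 : Y.relIndex X = Y.relIndex A :=
      Cfsg.Agent.Lib.Helper20.relIndex_sup_right_of_le_normalizer A Y hAY
    have h2 : Y.relIndex A ∣ Nat.card A := Subgroup.relIndex_dvd_card Y A
    obtain ⟨n, hn⟩ := IsPGroup.iff_card.mp (hQp.to_le (inf_le_left : A ≤ Q))
    rw [hn] at h2
    obtain ⟨k, -, hk⟩ := (Nat.dvd_prime_pow hp).mp h2
    exact ⟨k, h1.trans hk⟩
  have hXY : X = Y := hRrad X hXM hXinv le_sup_right hidx
  -- conclusion
  intro x hx
  have hxX : x ∈ X := Subgroup.mem_sup_left hx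
  rw [hXY, hY, sup_comm] at hxX
  have hRC : R ≤ Subgroup.normalizer (C : Set G) := hRM.trans hMC
  obtain ⟨c, hc, r, hr, rfl⟩ := (mem_sup_of_le_normalizer hRC).mp hxX
  have hcP : c ∈ (P : Subgroup G) := by
    have e : c = (c * r) * r⁻¹ := by group
    rw [e]
    exact Subgroup.mul_mem _ (hQP hx.1) (Subgroup.inv_mem _ (hRP hr))
  -- `C_P(R) ≤ R`
  obtain ⟨R₀, hR₀⟩ := hRcen
  set E := ((P : Subgroup G) ⊓ C).subgroupOf C with hE
  have hEp : IsPGroup p E := (P.2.to_le inf_le_left).comap_subtype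
  have hR₀E : (R₀ : Subgroup ↥C) ≤ E := by
    intro z hz
    rw [hE, Subgroup.mem_subgroupOf]
    have : (z : G) ∈ R ⊓ C := by
      rw [← hR₀]; exact ⟨z, hz, rfl⟩
    exact ⟨hRP this.1, this.2⟩
  have hEeq : E = (R₀ : Subgroup ↥C) := R₀.is_maximal' hEp hR₀E
  have hcE : (⟨c, hc⟩ : ↥C) ∈ E := by
    rw [hE, Subgroup.mem_subgroupOf]
    exact ⟨hcP, hc⟩
  rw [hEeq] at hcE
  have hcR : c ∈ R ⊓ C := by
    rw [← hR₀]; exact ⟨⟨c, hc⟩, hcE, rfl⟩
  exact R.mul_mem hcR.1 hr

end least

end Cfsg.Agent.Lib.Helper57.GT
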