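import Mathlib
import Cfsg.Agent.Lib.Helper57.KLQd

/-!
# A subgroup above a strongly closed subgroup `R`, normal modulo `R`

For `R ≤ P` with `P` a Sylow `p`-subgroup, put `N = N_G(R)`.  If the normalizer of `W(P R / R)`
controls strong fusion in `N / R`, the preimage `V` of `W(P / R)` has the property that every
conjugation by an element of `N` between subsets of `P` is induced, modulo `R`, by an element of
`N_G(V) ∩ N`.
-/

set_option autoImplicit false
open Cfsg
open Cfsg.Agent.Lib.Helper16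

universe u

namespace Cfsg.Agent.Lib.Helper57.GT

variable {G : Type u} [Group G] [Finite G] {p : ℕ} [Fact p.Prime]
  {Q : ∀ (X : Type u) [Group X], Subgroup X → Prop}

theorem exists_normal_above (hQ : GoodFam p Q) (P : Sylow p G) (R : Subgroup G)
    (hRP : R ≤ (P : Subgroup G)) (hRn : (P : Subgroup G) ≤ Subgroup.normalizer (R : Set G))
    (hRne : R ≠ (P : Subgroup G))
    (hctl : CtlAll p Q (↥(Subgroup.normalizer (R : Set G)) ⧸
      R.subgroupOf (Subgroup.normalizer (R : Set G)))) :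
    ∃ V : Subgroup G, R ≤ V ∧ V ≤ (P : Subgroup G) ∧ ¬ V ≤ R ∧
      ∀ (A : Set G) (g : G), A ⊆ (P : Subgroup G) → g ∈ Subgroup.normalizer (R : Set G) →
        (∀ a ∈ A, g * a * g⁻¹ ∈ (P : Subgroup G)) →
        ∃ n ∈ Subgroup.normalizer (V : Set G), n ∈ Subgroup.normalizer (R : Set G) ∧
          ∀ a ∈ A, (g * a * g⁻¹)⁻¹ * (n * a * n⁻¹) ∈ R := by
  set N := Subgroup.normalizer (R : Set G) with hN
  set R' := R.subgroupOf N with hR'
  set π := QuotientGroup.mk' R' with hπ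
  have hπs : Function.Surjective π := QuotientGroup.mk'_surjective R'
  set P' : Sylow p ↥N := P.subtype hRn with hP'
  have hP'coe : (P' : Subgroup ↥N) = (P : Subgroup G).subgroupOf N := Sylow.coe_subtype _ _
  set Pb : Sylow p (↥N ⧸ R') := P'.mapSurjective hπs with hPb
  have hPbcoe : (Pb : Subgroup (↥N ⧸ R')) = (P' : Subgroup ↥N).map π :=
    Sylow.coe_mapSurjective _ _
  set Wb := ZJ.WW (Q (↥N ⧸ R')) (Pb : Subgroup (↥N ⧸ R')) with hWb
  have hWbP : Wb ≤ (Pb : Subgroup (↥N ⧸ R')) := ZJ.WW_le (hQ.good _).1 _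
  have hPbne : (Pb : Subgroup (↥N ⧸ R')) ≠ ⊥ := by
    intro h
    apply hRne
    apply le_antisymm hRP
    intro x hx
    have hxN : x ∈ N := hRn hx
    have h1 : π ⟨x, hxN⟩ ∈ (Pb : Subgroup (↥N ⧸ R')) := by
      rw [hPbcoe]
      apply Subgroup.mem_map_of_mem
      rw [hP'coe, Subgroup.mem_subgroupOf]
      exact hx
    rw [h, Subgroup.mem_bot] at h1
    have h2 : (⟨x, hxN⟩ : ↥N) ∈ R' := by
      rw [← QuotientGroup.eq_one_iff]
      exact h1
    rw [hR', Subgroup.mem_subgroupOf] at h2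
    exact h2
  have hWbne : Wb ≠ ⊥ := hQ.ne_bot _ _ Pb.2 hPbne
  set V := (Wb.comap π).map N.subtype with hV
  have hmemV : ∀ x : G, x ∈ V ↔ ∃ hx : x ∈ N, π ⟨x, hx⟩ ∈ Wb := by
    intro x
    rw [hV]
    constructor
    · rintro ⟨y, hy, rfl⟩
      exact ⟨y.2, hy⟩
    · rintro ⟨hx, h⟩
      exact ⟨⟨x, hx⟩, h, rfl⟩
  have hRN : R ≤ N := Subgroup.le_normalizer
  have hRV : R ≤ V := by
    intro x hx
    rw [hmemV]
    refine ⟨hRN hx, ?_⟩
    have : π ⟨x, hRN hx⟩ = 1 := by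
      rw [hπ, QuotientGroup.mk'_apply, QuotientGroup.eq_one_iff, hR', Subgroup.mem_subgroupOf]
      exact hx
    rw [this]
    exact Subgroup.one_mem _
  have hVP : V ≤ (P : Subgroup G) := by
    intro x hx
    obtain ⟨hxN, hxW⟩ := (hmemV x).mp hx
    have h1 := hWbP hxW
    rw [hPbcoe] at h1
    obtain ⟨y, hy, hyx⟩ := h1
    have hy : (y : G) ∈ (P : Subgroup G) := by
      have hy' : y ∈ (P' : Subgroup ↥N) := hy
      rw [hP'coe, Subgroup.mem_subgroupOf] at hy'
      exact hy'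
    have h2 : y⁻¹ * ⟨x, hxN⟩ ∈ R' := by
      rw [← QuotientGroup.eq]
      exact hyx
    rw [hR', Subgroup.mem_subgroupOf] at h2
    have h3 : (y : G)⁻¹ * x ∈ (P : Subgroup G) := hRP h2
    have : x = (y : G) * ((y : G)⁻¹ * x) := by group
    rw [this]
    exact Subgroup.mul_mem _ hy h3
  have hVR : ¬ V ≤ R := by
    intro h
    apply hWbne
    rw [eq_bot_iff]
    intro w hw
    obtain ⟨y, rfl⟩ := hπs w
    have hyV : (y : G) ∈ V := (hmemV _).mpr ⟨y.2, hw⟩
    have hyR := h hyV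
    rw [Subgroup.mem_bot, hπ, QuotientGroup.mk'_apply, QuotientGroup.eq_one_iff, hR',
      Subgroup.mem_subgroupOf]
    exact hyR
  refine ⟨V, hRV, hVP, hVR, ?_⟩
  intro A g hA hgN hgA
  have hsc : Cfsg.IsStronglyClosed (Pb : Subgroup (↥N ⧸ R')) (Pb : Subgroup (↥N ⧸ R')) :=
    ZJ.stronglyClosed_self _
  -- the image of `A` in the quotient
  set Ab : Set (↥N ⧸ R') := {w | ∃ (a : G) (ha : a ∈ A), w = π ⟨a, hRn (hA ha)⟩} with hAb
  obtain ⟨yb, hyb, hyba⟩ := hctl Pb _ hsc Ab (π ⟨g, hgN⟩)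
    (by
      rintro _ ⟨a, ha, rfl⟩
      rw [SetLike.mem_coe, hPbcoe]
      apply Subgroup.mem_map_of_mem
      rw [hP'coe, Subgroup.mem_subgroupOf]
      exact hA ha)
    (by
      rintro _ ⟨a, ha, rfl⟩
      rw [hPbcoe, ← map_inv, ← map_mul, ← map_mul]
      apply Subgroup.mem_map_of_mem
      rw [hP'coe, Subgroup.mem_subgroupOf]
      exact hgA a ha)
  obtain ⟨y, rfl⟩ := hπs yb
  refine ⟨(y : G), ?_, y.2, ?_⟩
  · -- `y` normalizes `V`
    rw [Subgroup.mem_normalizer_iff]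
    intro x
    have hyN : ∀ z : ↥N ⧸ R', z ∈ Wb ↔ π y * z * (π y)⁻¹ ∈ Wb :=
      fun z => Subgroup.mem_normalizer_iff.mp hyb z
    constructor
    · intro hx
      obtain ⟨hxN, hxW⟩ := (hmemV x).mp hx
      rw [hmemV]
      refine ⟨N.mul_mem (N.mul_mem y.2 hxN) (N.inv_mem y.2), ?_⟩
      have := (hyN _).mp hxW
      rw [← map_inv, ← map_mul, ← map_mul] at this
      exact this
    · intro hx
      rw [hmemV] at hx
      obtain ⟨hxN, hxW⟩ := hx
      have hxN' : x ∈ N := by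
        have := N.mul_mem (N.mul_mem (N.inv_mem y.2) hxN) y.2
        simpa [mul_assoc] using this
      rw [hmemV]
      refine ⟨hxN', ?_⟩
      apply (hyN _).mpr
      rw [← map_inv, ← map_mul, ← map_mul]
      exact hxW
  · intro a ha
    have h1 := hyba _ ⟨a, ha, rfl⟩
    rw [← map_inv, ← map_mul, ← map_mul, ← map_inv, ← map_mul, ← map_mul] at h1
    have h2 := (QuotientGroup.eq.mp h1.symm)
    rw [hR', Subgroup.mem_subgroupOf] at h2
    exact h2

end Cfsg.Agent.Lib.Helper57.GT
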