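import Mathlib
import Cfsg.Agent.Lib.Helper57.FusQuot
import Cfsg.Prelude.Def_FusionComponents

/-!
# The fusion system of a group on a Sylow subgroup is a solvable system, given `CtlAll` for the
sections `N_G(R) / R`
-/

set_option autoImplicit false
open Cfsg
open Cfsg.Agent.Lib.Helper16
open Cfsg.Agent.Lib.Helper41

universe u

namespace Cfsg.Agent.Lib.Helper57.GT

variable {G : Type u} [Group G] [Finite G] {p : ℕ} [Fact p.Prime]
  {Q : ∀ (X : Type u) [Group X], Subgroup X → Prop}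

theorem isSolvableSystem_of_ctl (hQ : GoodFam p Q) (P : Sylow p G)
    (hctl : ∀ R : Subgroup G, CtlAll p Q (↥(Subgroup.normalizer (R : Set G)) ⧸
      R.subgroupOf (Subgroup.normalizer (R : Set G)))) :
    (Cfsg.groupFusionSystem (P : Subgroup G)).IsSolvableSystem := by
  intro R hR hRne _ E hE
  set S : Subgroup G := (P : Subgroup G) with hS
  set F := Cfsg.groupFusionSystem S with hF
  have hRS : R ≤ S := hR.1
  -- conjugates of elements of `R` inside `S` lie in `R`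
  have hsc : ∀ (g : G), (∀ x ∈ R, g * x * g⁻¹ ∈ S) → ∀ x ∈ R, g * x * g⁻¹ ∈ R := by
    intro g hg x hx
    have hmem : Cfsg.conjHom R g ∈ F.Hom R := ⟨hRS, fun y => hg y y.2, g, fun y => rfl⟩
    exact hR.2 R le_rfl _ hmem ⟨x, hx⟩
  have hnorm : ∀ (g : G), (∀ x ∈ R, g * x * g⁻¹ ∈ S) → g ∈ Subgroup.normalizer (R : Set G) := by
    intro g hg
    apply mem_normalizer_of_lc_le
    intro y hy
    rw [mem_lc] at hy
    have := hsc g hg _ hy
    have e : g * (g⁻¹ * y * g) * g⁻¹ = y := by group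
    rwa [e] at this
  have hSn : S ≤ Subgroup.normalizer (R : Set G) := by
    intro s hs
    apply hnorm
    intro x hx
    exact S.mul_mem (S.mul_mem hs (hRS hx)) (S.inv_mem hs)
  obtain ⟨V, hRV, hVS, hVR, hV⟩ := exists_normal_above hQ P R hRS hSn hRne (hctl R)
  set θ := QuotientGroup.mk' (R.subgroupOf S) with hθ
  have hθs : Function.Surjective θ := QuotientGroup.mk'_surjective _
  have hθ1 : ∀ s : ↥S, θ s = 1 ↔ (s : G) ∈ R := by
    intro s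
    rw [hθ, QuotientGroup.mk'_apply, QuotientGroup.eq_one_iff, Subgroup.mem_subgroupOf]
  have hθeq : ∀ s t : ↥S, θ s = θ t ↔ (s : G)⁻¹ * (t : G) ∈ R := by
    intro s t
    rw [hθ, QuotientGroup.mk'_apply, QuotientGroup.mk'_apply, QuotientGroup.eq,
      Subgroup.mem_subgroupOf]
    rfl
  set Q' : Subgroup (↥S ⧸ R.subgroupOf S) := (V.subgroupOf S).map θ with hQ'
  have hmemQ' : ∀ w, w ∈ Q' ↔ ∃ (v : G) (hv : v ∈ V), w = θ ⟨v, hVS hv⟩ := by
    intro w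
    constructor
    · rintro ⟨s, hs, rfl⟩
      exact ⟨s, Subgroup.mem_subgroupOf.mp hs, rfl⟩
    · rintro ⟨v, hv, rfl⟩
      exact ⟨⟨v, hVS hv⟩, Subgroup.mem_subgroupOf.mpr hv, rfl⟩
  have hQ'ne : Q' ≠ ⊥ := by
    intro h
    apply hVR
    intro v hv
    have : θ ⟨v, hVS hv⟩ ∈ Q' := (hmemQ' _).mpr ⟨v, hv, rfl⟩
    rw [h, Subgroup.mem_bot, hθ1] at this
    exact this
  suffices hnormal : E.IsNormal Q' by
    intro hbot
    apply hQ'ne
    rw [eq_bot_iff, ← hbot]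
    exact le_sSup hnormal
  refine ⟨le_top, ?_⟩
  intro P' φ' hφ'
  set X := Cfsg.FusionSystem.preimageAlong θ P' with hX
  obtain ⟨-, φ, hφ, hXS, hφS, hXP', hind⟩ := (hE.2.2.2 P' φ').mp hφ'
  obtain ⟨-, -, g, hg⟩ := hφ
  have hmemX : ∀ x : G, x ∈ X ↔ ∃ hx : x ∈ S, θ ⟨x, hx⟩ ∈ P' := by
    intro x
    constructor
    · rintro ⟨s, hs, rfl⟩
      exact ⟨s.2, hs⟩
    · rintro ⟨hx, h⟩
      exact ⟨⟨x, hx⟩, h, rfl⟩
  have hRX : R ≤ X := by
    intro x hx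
    rw [hmemX]
    refine ⟨hRS hx, ?_⟩
    have : θ ⟨x, hRS hx⟩ = 1 := (hθ1 _).mpr hx
    rw [this]
    exact Subgroup.one_mem _
  have hgX : ∀ x (hx : x ∈ X), g * x * g⁻¹ ∈ S := by
    intro x hx
    have := hφS ⟨x, hx⟩
    rw [hg] at this
    exact this
  have hgN : g ∈ Subgroup.normalizer (R : Set G) := hnorm g (fun x hx => hgX x (hRX hx))
  obtain ⟨n, hnV, hnR, hna⟩ := hV (X : Set G) g (fun x hx => hXS hx) hgN (fun a ha => hgX a ha)
  have hnRmem : ∀ x, x ∈ R ↔ n * x * n⁻¹ ∈ R := fun x => Subgroup.mem_normalizer_iff.mp hnR x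
  have hnVmem : ∀ x, x ∈ V ↔ n * x * n⁻¹ ∈ V := fun x => Subgroup.mem_normalizer_iff.mp hnV x
  have hnX : ∀ x ∈ X, n * x * n⁻¹ ∈ S := by
    intro x hx
    have h1 := hna x hx
    have e : n * x * n⁻¹ = (g * x * g⁻¹) * ((g * x * g⁻¹)⁻¹ * (n * x * n⁻¹)) := by group
    rw [e]
    exact S.mul_mem (hgX x hx) (hRS h1)
  set Y := P' ⊔ Q' with hY
  set X₂ := Cfsg.FusionSystem.preimageAlong θ Y with hX₂
  have hmemX₂ : ∀ x : G, x ∈ X₂ ↔ ∃ hx : x ∈ S, θ ⟨x, hx⟩ ∈ Y := by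
    intro x
    constructor
    · rintro ⟨s, hs, rfl⟩
      exact ⟨s.2, hs⟩
    · rintro ⟨hx, h⟩
      exact ⟨⟨x, hx⟩, h, rfl⟩
  have hX₂S : X₂ ≤ S := fun x hx => ((hmemX₂ x).mp hx).1
  -- `X₂ = X ⊔ V`
  have hX₂le : X₂ ≤ X ⊔ V := by
    have h1 : P' = (P'.comap θ).map θ := (Subgroup.map_comap_eq_self_of_surjective hθs P').symm
    have h2 : Y = (P'.comap θ ⊔ V.subgroupOf S).map θ := by
      rw [Subgroup.map_sup, ← h1]
    have h3 : Y.comap θ = P'.comap θ ⊔ V.subgroupOf S := by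
      rw [h2, Subgroup.comap_map_eq]
      apply le_antisymm
      · apply sup_le le_rfl
        intro s hs
        apply Subgroup.mem_sup_left
        rw [Subgroup.mem_comap, MonoidHom.mem_ker.mp hs]
        exact Subgroup.one_mem _
      · exact le_sup_left
    rw [hX₂, Cfsg.FusionSystem.preimageAlong, h3, Subgroup.map_sup]
    apply sup_le
    · exact le_sup_left
    · apply le_trans _ le_sup_right
      rintro _ ⟨s, hs, rfl⟩
      exact Subgroup.mem_subgroupOf.mp hs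
  have hnX₂ : ∀ x ∈ X₂, n * x * n⁻¹ ∈ S := by
    have hle : X ⊔ V ≤ S.comap (MulAut.conj n).toMonoidHom := by
      apply sup_le
      · intro x hx
        exact hnX x hx
      · intro x hx
        exact hVS ((hnVmem x).mp hx)
    intro x hx
    exact hle (hX₂le hx)
  -- the map on the preimage of `Y`
  set c : ↥(Y.comap θ) →* ↥S :=
    MonoidHom.codRestrict ((MulAut.conj n).toMonoidHom.comp (S.subtype.comp (Y.comap θ).subtype)) S
      (fun x => hnX₂ _ ((hmemX₂ _).mpr ⟨x.1.2, x.2⟩)) with hc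
  have hcval : ∀ x : ↥(Y.comap θ), ((c x : ↥S) : G) = n * ((x : ↥S) : G) * n⁻¹ := fun x => rfl
  set f : ↥(Y.comap θ) →* ↥Y := θ.subgroupComap Y with hf
  have hfs : Function.Surjective f := MonoidHom.subgroupComap_surjective_of_surjective _ _ hθs
  have hfval : ∀ x : ↥(Y.comap θ), ((f x : ↥Y) : ↥S ⧸ R.subgroupOf S) = θ (x : ↥S) := fun x => rfl
  have hker : f.ker ≤ (θ.comp c).ker := by
    intro x hx
    rw [MonoidHom.mem_ker] at hx ⊢
    have h1 : θ (x : ↥S) = 1 := by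
      rw [← hfval, hx]; rfl
    rw [hθ1] at h1
    rw [MonoidHom.comp_apply, hθ1, hcval]
    exact (hnRmem _).mp h1
  set ψ' : ↥Y →* ↥S ⧸ R.subgroupOf S := (f.liftOfSurjective hfs) ⟨θ.comp c, hker⟩ with hψ'
  have hψ'f : ∀ x : ↥(Y.comap θ), ψ' (f x) = θ (c x) := by
    intro x
    rw [hψ']
    exact MonoidHom.liftOfRightInverse_comp_apply _ _ _ _ x
  -- value of `ψ'` on the image of an element
  have hψ'val : ∀ (x : G) (hx : x ∈ S) (hxY : θ ⟨x, hx⟩ ∈ Y) (hnx : n * x * n⁻¹ ∈ S),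
      ψ' ⟨θ ⟨x, hx⟩, hxY⟩ = θ ⟨n * x * n⁻¹, hnx⟩ := by
    intro x hx hxY hnx
    have := hψ'f ⟨⟨x, hx⟩, hxY⟩
    exact this
  refine ⟨ψ', ?_, ?_, ?_⟩
  · -- membership in `E`
    apply (hE.2.2.2 Y ψ').mpr
    refine ⟨le_top, Cfsg.conjHom X₂ n, ?_, ?_⟩
    · exact ⟨hX₂S, fun x => hnX₂ x x.2, n, fun x => rfl⟩
    · refine ⟨hX₂S, fun x => hnX₂ x x.2, fun x => ((hmemX₂ x).mp x.2).2, ?_⟩
      intro x
      exact hψ'val x (hX₂S x.2) _ (hnX₂ x x.2)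
  · -- agreement on `P'`
    intro x
    obtain ⟨s, hs⟩ := hθs (x : ↥S ⧸ R.subgroupOf S)
    have hsP' : θ s ∈ P' := by rw [hs]; exact x.2
    have hsX : (s : G) ∈ X := (hmemX _).mpr ⟨s.2, hsP'⟩
    have h1 := hind ⟨s, hsX⟩
    have hxeq : x = ⟨θ ⟨(s : G), hXS hsX⟩, hXP' ⟨s, hsX⟩⟩ := Subtype.ext hs.symm
    rw [hxeq, h1]
    have hsY : θ ⟨(s : G), hXS hsX⟩ ∈ Y := Subgroup.mem_sup_left hsP'
    have h2 := hψ'val (s : G) (hXS hsX) hsY (hnX _ hsX)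
    have h3 : (Subgroup.inclusion (le_sup_left : P' ≤ P' ⊔ Q')
        ⟨θ ⟨(s : G), hXS hsX⟩, hXP' ⟨s, hsX⟩⟩) = ⟨θ ⟨(s : G), hXS hsX⟩, hsY⟩ := rfl
    rw [h3, h2, hθeq]
    have h4 := hna _ hsX
    have h5 : φ ⟨(s : G), hsX⟩ = g * (s : G) * g⁻¹ := hg _
    show (n * (s : G) * n⁻¹)⁻¹ * (φ ⟨(s : G), hsX⟩) ∈ R
    rw [h5]
    have := R.inv_mem h4
    have e : ((g * (s : G) * g⁻¹)⁻¹ * (n * (s : G) * n⁻¹))⁻¹ =
        (n * (s : G) * n⁻¹)⁻¹ * (g * (s : G) * g⁻¹) := by group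
    rwa [e] at this
  · -- `ψ'` maps `Q'` onto `Q'`
    apply le_antisymm
    · rintro _ ⟨y, hy, rfl⟩
      have hy : (y : ↥S ⧸ R.subgroupOf S) ∈ Q' := Subgroup.mem_subgroupOf.mp hy
      obtain ⟨v, hv, hyv⟩ := (hmemQ' _).mp hy
      have hvY : θ ⟨v, hVS hv⟩ ∈ Y := by rw [← hyv]; exact y.2
      have hyeq : y = ⟨θ ⟨v, hVS hv⟩, hvY⟩ := Subtype.ext hyv
      have hnv : n * v * n⁻¹ ∈ V := (hnVmem v).mp hv
      rw [hyeq, hψ'val v (hVS hv) hvY (hVS hnv)]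
      exact (hmemQ' _).mpr ⟨_, hnv, rfl⟩
    · intro w hw
      obtain ⟨v, hv, rfl⟩ := (hmemQ' _).mp hw
      have hv' : n⁻¹ * v * n ∈ V := by
        apply (hnVmem _).mpr
        have e : n * (n⁻¹ * v * n) * n⁻¹ = v := by group
        rw [e]; exact hv
      have hv'Q : θ ⟨n⁻¹ * v * n, hVS hv'⟩ ∈ Q' := (hmemQ' _).mpr ⟨_, hv', rfl⟩
      have hv'Y : θ ⟨n⁻¹ * v * n, hVS hv'⟩ ∈ Y := Subgroup.mem_sup_right hv'Q
      refine ⟨⟨θ ⟨n⁻¹ * v * n, hVS hv'⟩, hv'Y⟩, Subgroup.mem_subgroupOf.mpr hv'Q, ?_⟩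
      have e : n * (n⁻¹ * v * n) * n⁻¹ = v := by group
      rw [hψ'val _ (hVS hv') hv'Y (by rw [e]; exact hVS hv)]
      congr 1
      exact Subtype.ext e

end Cfsg.Agent.Lib.Helper57.GT
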