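import Mathlib
import Cfsg.Prelude.Def_ConjugacyFunctors
import Cfsg.Prelude.Def_Amalgam
import Cfsg.Agent.Lib.Helper41.KInfSub
import Cfsg.Agent.Lib.Helper41.KInfMax

/-!
K-infinity (lower) as a conjugacy functor, and transport of the "quadratic element" statement
from a group to its subgroups.
-/

set_option autoImplicit false

namespace Cfsg.Agent.Lib.Helper57.KInfWC

open Cfsg Cfsg.Agent.Lib.Helper41

universe u

section iso

variable {Q R : Type*} [Group Q] [Group R]

theorem map_lower_equiv (φ : Q ≃* R) (A : Subgroup Q) :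
    (sSup (kLowerStarFamily A)).map φ.toMonoidHom =
      sSup (kLowerStarFamily (A.map φ.toMonoidHom)) := by
  rw [map_lower (f := φ.toMonoidHom) φ.injective A]
  congr 1
  ext B
  constructor
  · rintro ⟨h, -⟩
    exact h
  · intro h
    refine ⟨h, ?_⟩
    intro x _
    exact ⟨φ.symm x, by simp⟩

theorem map_upper_equiv (φ : Q ≃* R) (A : Subgroup Q) :
    (sSup (kUpperStarFamily A)).map φ.toMonoidHom =
      sSup (kUpperStarFamily (A.map φ.toMonoidHom)) := by
  rw [map_upper (f := φ.toMonoidHom) φ.injective A]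
  congr 1
  ext B
  constructor
  · rintro ⟨h, -⟩
    exact h
  · intro h
    refine ⟨h, ?_⟩
    intro x _
    exact ⟨φ.symm x, by simp⟩

theorem map_kSeqOdd_equiv (φ : Q ≃* R) (n : ℕ) :
    (kSeqOdd Q n).map φ.toMonoidHom = kSeqOdd R n := by
  induction n with
  | zero =>
    show (⊤ : Subgroup Q).map φ.toMonoidHom = ⊤
    rw [← MonoidHom.range_eq_map]
    exact MonoidHom.range_eq_top.mpr φ.surjective
  | succ n ih =>
    show (sSup (kUpperStarFamily (sSup (kLowerStarFamily (kSeqOdd Q n))))).map φ.toMonoidHom =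
      sSup (kUpperStarFamily (sSup (kLowerStarFamily (kSeqOdd R n))))
    rw [map_upper_equiv, map_lower_equiv, ih]

theorem map_kSeqEven_equiv (φ : Q ≃* R) (n : ℕ) :
    (kSeqEven Q n).map φ.toMonoidHom = kSeqEven R n := by
  show (sSup (kLowerStarFamily (kSeqOdd Q n))).map φ.toMonoidHom =
    sSup (kLowerStarFamily (kSeqOdd R n))
  rw [map_lower_equiv, map_kSeqOdd_equiv]

end iso

theorem map_kInfLower_equiv {Q R : Type u} [Group Q] [Group R] (φ : Q ≃* R) :
    (kInfLower Q).map φ.toMonoidHom = kInfLower R := by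
  unfold kInfLower
  rw [Subgroup.map_iSup]
  congr 1
  funext n
  exact map_kSeqEven_equiv φ n

/-- The induced functor of `kInfLower` commutes with injective homomorphisms. -/
theorem induced_map {X Y : Type u} [Group X] [Group Y] (f : X →* Y) (hf : Function.Injective f)
    (P : Subgroup X) :
    inducedFunctor kInfLower (P.map f) = (inducedFunctor kInfLower P).map f := by
  unfold inducedFunctor
  have e := map_kInfLower_equiv (P.equivMapOfInjective f hf)
  rw [← e, Subgroup.map_map, Subgroup.map_map]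
  congr 1

theorem induced_le {X : Type u} [Group X] (P : Subgroup X) :
    inducedFunctor kInfLower P ≤ P := by
  unfold inducedFunctor
  exact Subgroup.map_subtype_le _

theorem center_le_induced {X : Type u} [Group X] [Finite X] {p : ℕ} [Fact p.Prime]
    (P : Subgroup X) (hP : IsPGroup p P) :
    P ⊓ Subgroup.centralizer (P : Set X) ≤ inducedFunctor kInfLower P := by
  intro x hx
  have hxP : x ∈ P := hx.1
  have hxc : x ∈ Subgroup.centralizer (P : Set X) := hx.2
  have hnil : Group.IsNilpotent ↥P := hP.isNilpotent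
  have h1 := (centralizer_kInf_le (P := ↥P)).1
  refine ⟨⟨x, hxP⟩, h1 ?_, rfl⟩
  rw [Subgroup.mem_centralizer_iff]
  intro y _
  apply Subtype.ext
  exact Subgroup.mem_centralizer_iff.mp hxc y y.2

theorem isConjugacyFunctor_kInfLower {G : Type u} [Group G] [Finite G] {p : ℕ} [Fact p.Prime] :
    IsConjugacyFunctor p (inducedFunctor (G := G) kInfLower) := by
  intro P hP
  refine ⟨induced_le P, ?_, ?_⟩
  · intro hne hW
    have hP' : Nontrivial ↥P := (Subgroup.nontrivial_iff_ne_bot P).mpr hne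
    obtain ⟨z, hz, hz1⟩ : ∃ z ∈ Subgroup.center ↥P, z ≠ 1 := by
      have := hP.center_nontrivial
      obtain ⟨z, hz⟩ := exists_ne (1 : Subgroup.center ↥P)
      exact ⟨z, z.2, fun h => hz (Subtype.ext h)⟩
    have hzW : (z : G) ∈ inducedFunctor kInfLower P := by
      apply center_le_induced P hP
      refine ⟨z.2, ?_⟩
      show (z : G) ∈ Subgroup.centralizer (P : Set G)
      rw [Subgroup.mem_centralizer_iff]
      intro y hy
      have := Subgroup.mem_center_iff.mp hz ⟨y, hy⟩
      exact congrArg Subtype.val this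
    rw [hW, Subgroup.mem_bot] at hzW
    exact hz1 (Subtype.ext hzW)
  · intro g
    exact induced_map (MulAut.conj g).toMonoidHom (MulAut.conj g).injective P

/-- The quadratic clause of Glauberman's K-infinity theorem, as a hypothesis. -/
def KQuad (p : ℕ) : Prop :=
  ∀ (X : Type u) [Group X] [Finite X] (S : Sylow p X),
    ¬ (inducedFunctor kInfLower (S : Subgroup X)).Normal →
    ∃ g : X, g ∈ (S : Subgroup X) ∧ g ∉ pCore p X ∧
      ⁅⁅pCore p X ⊓ Subgroup.centralizer ((pCore p X : Subgroup X) : Set X),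
        Subgroup.zpowers g⁆, Subgroup.zpowers g⁆ = ⊥

theorem le_normalizer_of_forall {G : Type*} [Group G] {H K : Subgroup G}
    (h : ∀ a ∈ H, ∀ x ∈ K, a * x * a⁻¹ ∈ K) : H ≤ Subgroup.normalizer (K : Set G) := by
  intro a ha
  rw [Subgroup.mem_normalizer_iff]
  intro x
  constructor
  · exact h a ha x
  · intro hx
    have := h a⁻¹ (H.inv_mem ha) _ hx
    simpa [mul_assoc] using this

theorem pCoreOf_center_eq {G : Type*} [Group G] (p : ℕ) (H : Subgroup G) :
    pCoreOf p H ⊓ Subgroup.centralizer ((pCoreOf p H : Subgroup G) : Set G) =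
      (pCore p ↥H ⊓ Subgroup.centralizer ((pCore p ↥H : Subgroup ↥H) : Set ↥H)).map H.subtype := by
  apply le_antisymm
  · rintro x ⟨hx1, hx2⟩
    obtain ⟨y, hy, rfl⟩ := hx1
    refine ⟨y, ⟨hy, ?_⟩, rfl⟩
    show y ∈ Subgroup.centralizer ((pCore p ↥H : Subgroup ↥H) : Set ↥H)
    have hx2' : (y : G) ∈ Subgroup.centralizer ((pCoreOf p H : Subgroup G) : Set G) := hx2
    rw [Subgroup.mem_centralizer_iff]
    intro z hz
    apply Subtype.ext
    exact Subgroup.mem_centralizer_iff.mp hx2' (z : G) ⟨z, hz, rfl⟩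
  · rintro _ ⟨y, ⟨hy1, hy2⟩, rfl⟩
    refine ⟨⟨y, hy1, rfl⟩, ?_⟩
    show (y : G) ∈ Subgroup.centralizer ((pCoreOf p H : Subgroup G) : Set G)
    have hy2' : y ∈ Subgroup.centralizer ((pCore p ↥H : Subgroup ↥H) : Set ↥H) := hy2
    rw [Subgroup.mem_centralizer_iff]
    rintro _ ⟨z, hz, rfl⟩
    have := Subgroup.mem_centralizer_iff.mp hy2' z hz
    exact congrArg Subtype.val this

/-- Transport of `KQuad` to the subgroups of a finite group. -/
theorem quad_subgroup {G : Type u} [Group G] [Finite G] {p : ℕ} [Fact p.Prime]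
    (hK : KQuad.{u} p) (H T : Subgroup G) (hTH : T ≤ H) (hT : IsPGroup p ↥T)
    (hidx : ¬ p ∣ T.relIndex H)
    (hnn : ¬ H ≤ Subgroup.normalizer ((inducedFunctor kInfLower T : Subgroup G) : Set G)) :
    ∃ g : G, g ∈ T ∧ g ∉ pCoreOf p H ∧
      ⁅⁅pCoreOf p H ⊓ Subgroup.centralizer ((pCoreOf p H : Subgroup G) : Set G),
        Subgroup.zpowers g⁆, Subgroup.zpowers g⁆ = ⊥ := by
  have hT' : IsPGroup p ↥(T.subgroupOf H) := by
    have hinj : Function.Injective (Subgroup.subgroupOfEquivOfLe hTH).toMonoidHom :=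
      (Subgroup.subgroupOfEquivOfLe hTH).injective
    exact hT.of_injective _ hinj
  let S' : Sylow p ↥H := hT'.toSylow hidx
  have hS' : (S' : Subgroup ↥H) = T.subgroupOf H := IsPGroup.toSylow_coe hT' hidx
  have hmap : (inducedFunctor kInfLower (T.subgroupOf H)).map H.subtype =
      inducedFunctor kInfLower T := by
    rw [← induced_map H.subtype H.subtype_injective, Subgroup.map_subgroupOf_eq_of_le hTH]
  have hnormal : ¬ (inducedFunctor kInfLower (S' : Subgroup ↥H)).Normal := by
    intro hN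
    apply hnn
    apply le_normalizer_of_forall
    intro a ha x hx
    rw [← hmap] at hx ⊢
    obtain ⟨y, hy, rfl⟩ := hx
    rw [← hS'] at hy ⊢
    exact ⟨⟨a, ha⟩ * y * ⟨a, ha⟩⁻¹, hN.conj_mem y hy ⟨a, ha⟩, rfl⟩
  obtain ⟨g', hg'S, hg'c, hq⟩ := hK ↥H S' hnormal
  refine ⟨(g' : G), ?_, ?_, ?_⟩
  · rw [hS'] at hg'S
    exact Subgroup.mem_subgroupOf.mp hg'S
  · rintro ⟨y, hy, hyg⟩
    have : y = g' := Subtype.ext hyg
    exact hg'c (this ▸ hy)
  · rw [pCoreOf_center_eq]
    have hz : Subgroup.zpowers (g' : G) = (Subgroup.zpowers g').map H.subtype := by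
      rw [MonoidHom.map_zpowers]
      rfl
    rw [hz, ← Subgroup.map_commutator, ← Subgroup.map_commutator, hq, Subgroup.map_bot]

theorem iterCommutator_eq_bot_of_two {L : Type*} [Group L] (N K : Subgroup L)
    (h : ⁅⁅N, K⁆, K⁆ = ⊥) : ∀ k : ℕ, 2 ≤ k → iterCommutator N K k = ⊥ := by
  intro k hk
  induction k with
  | zero => omega
  | succ k ih =>
    rcases Nat.lt_or_ge k 2 with h2 | h2
    · have : k = 1 := by omega
      subst this
      exact h
    · show ⁅iterCommutator N K k, K⁆ = ⊥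
      rw [ih h2]
      exact Subgroup.commutator_bot_left K

end Cfsg.Agent.Lib.Helper57.KInfWC
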