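import Mathlib
import Cfsg.Prelude.Def_LocalEven
import Cfsg.Agent.Lib.Helper16.ZJ
import Cfsg.Agent.Lib.Helper54.Coprime
import Cfsg.Agent.Lib.Helper54.PRedSubnormal

/-!
Tools for the quotient-only form of the stability argument for the `K_∞` subgroups:
actions "as a `p`-group", fixed points, the envelope of a `p`-subgroup given by the normalizer
form of `p`-stability, complements in a minimal normal subgroup (Clifford).
-/

set_option autoImplicit false

namespace Cfsg.Agent.Lib.Helper57.KQ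

open Cfsg
open scoped commutatorElement

variable {H : Type*} [Group H]

/-- `D` acts on `U` as a `p`-group: every element of `D` has a `p`-power centralizing `U` -/
def ActsP (p : ℕ) (D U : Subgroup H) : Prop :=
  ∀ d ∈ D, ∃ k : ℕ, d ^ (p ^ k) ∈ Subgroup.centralizer (U : Set H)

theorem ActsP.mono {p : ℕ} {D D' U U' : Subgroup H} (h : ActsP p D U) (hD : D' ≤ D)
    (hU : U' ≤ U) : ActsP p D' U' := by
  intro d hd
  obtain ⟨k, hk⟩ := h d (hD hd)
  exact ⟨k, Subgroup.centralizer_le (by exact_mod_cast hU) hk⟩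

/-- fixed points of a group acting as a `p`-group on a nontrivial `p`-group -/
theorem exists_fixed_of_actsP [Finite H] {p : ℕ} [Fact p.Prime] {U D : Subgroup H}
    (hU : IsPGroup p ↥U) (hU1 : U ≠ ⊥) (hDU : D ≤ Subgroup.normalizer (U : Set H))
    (hact : ActsP p D U) : ∃ u ∈ U, u ≠ 1 ∧ ∀ d ∈ D, d * u = u * d := by
  classical
  set φ : ↥D →* MulAut ↥U := U.normalizerMonoidHom.comp (Subgroup.inclusion hDU) with hφ
  have hφapp : ∀ (d : ↥D) (u : ↥U), ((φ d u : ↥U) : H) = (d : H) * u * (d : H)⁻¹ := by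
    intro d u
    rfl
  have hΓ : IsPGroup p ↥φ.range := by
    rintro ⟨_, ⟨d, rfl⟩⟩
    obtain ⟨k, hk⟩ := hact d d.2
    refine ⟨k, Subtype.ext ?_⟩
    show (φ d) ^ (p ^ k) = 1
    rw [← map_pow]
    ext u
    rw [hφapp]
    have h1 := Subgroup.mem_centralizer_iff.mp hk (u : H) u.2
    simp only [Subgroup.coe_pow, MulAut.one_apply]
    rw [← h1, mul_inv_cancel_right]
  have hcard : p ∣ Nat.card ↥U := by
    obtain ⟨n, hn⟩ := hU.exists_card_eq
    rcases Nat.eq_zero_or_pos n with h0 | h0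
    · exfalso
      apply hU1
      rw [h0, pow_zero] at hn
      exact (Subgroup.card_eq_one).mp hn
    · rw [hn]
      exact dvd_pow_self p h0.ne'
  have hone : (1 : ↥U) ∈ MulAction.fixedPoints ↥φ.range ↥U := by
    rintro ⟨γ, hγ⟩
    show γ 1 = 1
    exact map_one γ
  obtain ⟨b, hb, hb1⟩ := hΓ.exists_fixed_point_of_prime_dvd_card_of_fixed_point (α := ↥U) hcard hone
  refine ⟨(b : H), b.2, ?_, ?_⟩
  · intro h
    apply hb1
    exact Subtype.ext h.symm
  · intro d hd
    have h1 := hb ⟨φ ⟨d, hd⟩, ⟨⟨d, hd⟩, rfl⟩⟩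
    have h2 : φ ⟨d, hd⟩ b = b := h1
    have h3 := congrArg Subtype.val h2
    rw [hφapp] at h3
    calc d * (b : H) = (d * b * d⁻¹) * d := by group
      _ = b * d := by rw [h3]

/-- the **envelope** of a `p`-subgroup `P` in a group that is `p`-stable in the normalizer form:
a subgroup of `N(P)`, normalized by `N(P)`, acting on `P` as a `p`-group and containing every
element of `N(P)` that acts quadratically on `P` -/
theorem exists_envelope {p : ℕ} (hst : Cfsg.IsNormalizerPStable p H) (P : Subgroup H)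
    (hP : IsPGroup p ↥P) :
    ∃ E : Subgroup H, E ≤ Subgroup.normalizer (P : Set H) ∧
      (∀ n ∈ Subgroup.normalizer (P : Set H), ∀ x ∈ E, n * x * n⁻¹ ∈ E) ∧
      ActsP p E P ∧
      (∀ g ∈ Subgroup.normalizer (P : Set H),
        ⁅⁅P, Subgroup.zpowers g⁆, Subgroup.zpowers g⁆ = ⊥ → g ∈ E) := by
  have hOn : (Cfsg.pCore p (↥(Subgroup.normalizer (P : Set H)) ⧸
      (Subgroup.centralizer (P : Set H)).subgroupOf (Subgroup.normalizer (P : Set H)))).Normal :=
    Cfsg.Agent.Lib.Helper16.ZJ.pCore_normal p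
  have hOp : IsPGroup p ↥(Cfsg.pCore p (↥(Subgroup.normalizer (P : Set H)) ⧸
      (Subgroup.centralizer (P : Set H)).subgroupOf (Subgroup.normalizer (P : Set H)))) :=
    Cfsg.Agent.Lib.Helper16.ZJ.pCore_isPGroup p
  set E' : Subgroup ↥(Subgroup.normalizer (P : Set H)) :=
    (Cfsg.pCore p (↥(Subgroup.normalizer (P : Set H)) ⧸
      (Subgroup.centralizer (P : Set H)).subgroupOf (Subgroup.normalizer (P : Set H)))).comap
      (QuotientGroup.mk' _) with hE'
  have hE'n : E'.Normal := hOn.comap _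
  refine ⟨E'.map (Subgroup.normalizer (P : Set H)).subtype, Subgroup.map_subtype_le _, ?_, ?_, ?_⟩
  · rintro n hn _ ⟨x, hx, rfl⟩
    exact ⟨⟨n, hn⟩ * x * ⟨n, hn⟩⁻¹, hE'n.conj_mem x hx ⟨n, hn⟩, rfl⟩
  · rintro _ ⟨x, hx, rfl⟩
    obtain ⟨k, hk⟩ := hOp ⟨_, hx⟩
    refine ⟨k, ?_⟩
    have h1 : (QuotientGroup.mk' ((Subgroup.centralizer (P : Set H)).subgroupOf
        (Subgroup.normalizer (P : Set H))) x) ^ (p ^ k) = 1 := by
      have := congrArg Subtype.val hk
      simpa using this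
    rw [← map_pow, QuotientGroup.mk'_apply, QuotientGroup.eq_one_iff, Subgroup.mem_subgroupOf] at h1
    simpa using h1
  · intro g hg hq
    exact ⟨⟨g, hg⟩, hst P hP g hg hq, rfl⟩

/-! ### conjugates of subgroups -/

/-- the conjugate `h U h⁻¹` -/
def cj (h : H) (U : Subgroup H) : Subgroup H := U.map (MulAut.conj h).toMonoidHom

theorem mem_cj {h x : H} {U : Subgroup H} : x ∈ cj h U ↔ h⁻¹ * x * h ∈ U := by
  unfold cj
  rw [Subgroup.mem_map_equiv, MulAut.conj_symm_apply]

theorem conj_mem_cj {h u : H} {U : Subgroup H} (hu : u ∈ U) : h * u * h⁻¹ ∈ cj h U := by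
  rw [mem_cj]
  have e : h⁻¹ * (h * u * h⁻¹) * h = u := by group
  rw [e]
  exact hu

theorem cj_le_of_normal {h : H} {U W : Subgroup H} [hW : W.Normal] (hUW : U ≤ W) : cj h U ≤ W := by
  intro x hx
  rw [mem_cj] at hx
  have h1 := hW.conj_mem _ (hUW hx) h
  have e : h * (h⁻¹ * x * h) * h⁻¹ = x := by group
  rwa [e] at h1

theorem normalizer_cj {N U : Subgroup H} [hN : N.Normal]
    (hU : N ≤ Subgroup.normalizer (U : Set H)) (h : H) :
    N ≤ Subgroup.normalizer ((cj h U : Subgroup H) : Set H) := by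
  intro n hn
  rw [Subgroup.mem_normalizer_iff]
  intro x
  rw [mem_cj, mem_cj]
  have h1 := Subgroup.mem_normalizer_iff.mp (hU (hN.conj_mem n hn h⁻¹)) (h⁻¹ * x * h)
  have e : h⁻¹ * n * h⁻¹⁻¹ * (h⁻¹ * x * h) * (h⁻¹ * n * h⁻¹⁻¹)⁻¹ = h⁻¹ * (n * x * n⁻¹) * h := by
    group
  rw [e] at h1
  exact h1

/-! ### abelian minimal normal subgroups -/

/-- `W` is an abelian minimal normal subgroup of `H` (or trivial) -/
structure MinAb (W : Subgroup H) : Prop where
  normal : W.Normal
  comm : W ≤ Subgroup.centralizer (W : Set H)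
  min : ∀ U : Subgroup H, U.Normal → U ≤ W → U = ⊥ ∨ U = W

theorem le_normalizer_of_le_ab {W A B : Subgroup H} (hW : W ≤ Subgroup.centralizer (W : Set H))
    (hA : A ≤ W) (hB : B ≤ W) : A ≤ Subgroup.normalizer (B : Set H) := by
  intro a ha
  rw [Subgroup.mem_normalizer_iff]
  intro x
  constructor
  · intro hx
    have h1 := Subgroup.mem_centralizer_iff.mp (hW (hA ha)) x (hB hx)
    have e : a * x * a⁻¹ = x := by rw [← h1, mul_inv_cancel_right]
    rwa [e]
  · intro hx
    have h1 := Subgroup.mem_centralizer_iff.mp (hW (hA ha)) (a * x * a⁻¹) (hB hx)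
    have e : x = a * x * a⁻¹ := by
      have : a * x * a⁻¹ * a = a * (a * x * a⁻¹) := h1
      have h2 : a * x = a * (a * x * a⁻¹) := by simpa using this
      exact mul_left_cancel h2
    rw [e]
    exact hx

theorem mem_sup_ab {W A B : Subgroup H} (hW : W ≤ Subgroup.centralizer (W : Set H))
    (hA : A ≤ W) (hB : B ≤ W) {x : H} (hx : x ∈ A ⊔ B) : ∃ a ∈ A, ∃ b ∈ B, x = a * b := by
  have h1 := Subgroup.coe_mul_of_left_le_normalizer_right A B (le_normalizer_of_le_ab hW hA hB)
  have h2 : x ∈ ((A ⊔ B : Subgroup H) : Set H) := hx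
  rw [h1, Set.mem_mul] at h2
  obtain ⟨a, ha, b, hb, rfl⟩ := h2
  exact ⟨a, ha, b, hb, rfl⟩

theorem cj_mono {h : H} {U V : Subgroup H} (hUV : U ≤ V) : cj h U ≤ cj h V :=
  Subgroup.map_mono hUV

theorem cj_bot (h : H) : cj h (⊥ : Subgroup H) = ⊥ := Subgroup.map_bot _

theorem cj_cj_inv (h : H) (U : Subgroup H) : cj h (cj h⁻¹ U) = U := by
  ext x
  rw [mem_cj, mem_cj]
  have e : h⁻¹⁻¹ * (h⁻¹ * x * h) * h⁻¹ = x := by group
  rw [e]

theorem cj_inv_cj (h : H) (U : Subgroup H) : cj h⁻¹ (cj h U) = U := by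
  ext x
  rw [mem_cj, mem_cj]
  have e : h⁻¹ * (h⁻¹⁻¹ * x * h⁻¹) * h = x := by group
  rw [e]

theorem normalizer_inf' {N A B : Subgroup H} (hA : N ≤ Subgroup.normalizer (A : Set H))
    (hB : N ≤ Subgroup.normalizer (B : Set H)) :
    N ≤ Subgroup.normalizer ((A ⊓ B : Subgroup H) : Set H) := by
  intro n hn
  rw [Subgroup.mem_normalizer_iff]
  intro x
  rw [Subgroup.mem_inf, Subgroup.mem_inf, ← Subgroup.mem_normalizer_iff.mp (hA hn) x,
    ← Subgroup.mem_normalizer_iff.mp (hB hn) x]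

theorem normalizer_sup' {N A B : Subgroup H} (hA : N ≤ Subgroup.normalizer (A : Set H))
    (hB : N ≤ Subgroup.normalizer (B : Set H)) :
    N ≤ Subgroup.normalizer ((A ⊔ B : Subgroup H) : Set H) :=
  (le_inf hA hB).trans (Subgroup.normalizer_inf_normalizer_le_normalizer_sup A B)

/-- minimal nontrivial `N`-invariant subgroups -/
def IsMinInv (N V : Subgroup H) : Prop :=
  V ≠ ⊥ ∧ N ≤ Subgroup.normalizer (V : Set H) ∧
    ∀ V' : Subgroup H, V' ≤ V → N ≤ Subgroup.normalizer (V' : Set H) → V' = ⊥ ∨ V' = V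

theorem isMinInv_cj {N V : Subgroup H} [hN : N.Normal] (hV : IsMinInv N V) (h : H) :
    IsMinInv N (cj h V) := by
  obtain ⟨h1, h2, h3⟩ := hV
  refine ⟨?_, normalizer_cj h2 h, ?_⟩
  · intro hbot
    apply h1
    rw [← cj_inv_cj h V, hbot, cj_bot]
  · intro V' hV' hN'
    have h4 : cj h⁻¹ V' ≤ V := by
      rw [← cj_inv_cj h V]
      exact cj_mono hV'
    rcases h3 _ h4 (normalizer_cj hN' h⁻¹) with h5 | h5
    · left
      rw [← cj_cj_inv h V', h5, cj_bot]
    · right
      rw [← cj_cj_inv h V', h5]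

/-- **complements** (Clifford): in an abelian minimal normal subgroup `W` of `H`, every subgroup
invariant under the normal subgroup `N` has an `N`-invariant complement -/
theorem exists_complement [Finite H] {W N U : Subgroup H} (hW : MinAb W) [hN : N.Normal]
    (hUW : U ≤ W) (hNU : N ≤ Subgroup.normalizer (U : Set H)) :
    ∃ C : Subgroup H, C ≤ W ∧ N ≤ Subgroup.normalizer (C : Set H) ∧ U ⊓ C = ⊥ ∧
      ∀ w ∈ W, ∃ u ∈ U, ∃ c ∈ C, w = u * c := by
  classical
  have hWn : W.Normal := hW.normal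
  by_cases hW1 : W = ⊥
  · refine ⟨⊥, bot_le, ?_, inf_bot_eq _, ?_⟩
    · intro n _
      rw [Subgroup.mem_normalizer_iff]
      intro x
      simp
    · intro w hw
      rw [hW1, Subgroup.mem_bot] at hw
      exact ⟨1, U.one_mem, 1, Subgroup.one_mem _, by rw [hw, one_mul]⟩
  -- a minimal invariant subgroup
  obtain ⟨V₀, hV₀W, hV₀⟩ := Finite.exists_le_minimal
    (p := fun V : Subgroup H => V ≠ ⊥ ∧ N ≤ Subgroup.normalizer (V : Set H)) (a := W)
    ⟨hW1, Subgroup.le_normalizer_of_normal⟩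
  have hV₀min : IsMinInv N V₀ := by
    refine ⟨hV₀.1.1, hV₀.1.2, ?_⟩
    intro V' hV' hN'
    by_cases hb : V' = ⊥
    · left; exact hb
    · right
      exact le_antisymm hV' (hV₀.2 ⟨hb, hN'⟩ hV')
  -- a maximal invariant subgroup meeting `U` trivially
  obtain ⟨C, -, hC⟩ := Finite.exists_le_maximal
    (p := fun C : Subgroup H => C ≤ W ∧ N ≤ Subgroup.normalizer (C : Set H) ∧ U ⊓ C = ⊥)
    (a := ⊥) ⟨bot_le, by
      intro n _
      rw [Subgroup.mem_normalizer_iff]
      intro x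
      simp, inf_bot_eq _⟩
  obtain ⟨⟨hCW, hCN, hUC⟩, hCmax⟩ := hC
  have hkey : W ≤ U ⊔ C := by
    by_contra hnot
    have hex : ∃ h : H, ¬ cj h V₀ ≤ U ⊔ C := by
      by_contra hall
      rw [not_exists] at hall
      apply hnot
      have hnc : (Subgroup.normalClosure (V₀ : Set H)) = W := by
        rcases hW.min (Subgroup.normalClosure (V₀ : Set H)) Subgroup.normalClosure_normal
          (Subgroup.normalClosure_le_normal hV₀W) with h1 | h1
        · exfalso
          apply hV₀.1.1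
          rw [eq_bot_iff, ← h1]
          exact Subgroup.le_normalClosure
        · exact h1
      rw [← hnc]
      unfold Subgroup.normalClosure
      rw [Subgroup.closure_le]
      intro x hx
      rw [Group.mem_conjugatesOfSet_iff] at hx
      obtain ⟨a, ha, hax⟩ := hx
      rw [isConj_iff] at hax
      obtain ⟨c, rfl⟩ := hax
      exact (not_not.mp (hall c)) (conj_mem_cj ha)
    obtain ⟨h, hh⟩ := hex
    have hV' := isMinInv_cj hV₀min h
    have hV'W : cj h V₀ ≤ W := cj_le_of_normal hV₀W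
    have hUCN : N ≤ Subgroup.normalizer ((U ⊔ C : Subgroup H) : Set H) := normalizer_sup' hNU hCN
    have hmeet : cj h V₀ ⊓ (U ⊔ C) = ⊥ := by
      rcases hV'.2.2 _ inf_le_left (normalizer_inf' hV'.2.1 hUCN) with h1 | h1
      · exact h1
      · exfalso
        apply hh
        rw [← h1]
        exact inf_le_right
    have hC' : C ⊔ cj h V₀ ≤ C := by
      apply hCmax ⟨sup_le hCW hV'W, normalizer_sup' hCN hV'.2.1, ?_⟩ le_sup_left
      rw [eq_bot_iff]
      intro x hx
      rw [Subgroup.mem_inf] at hx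
      obtain ⟨c, hc, v, hv, hxcv⟩ := mem_sup_ab hW.comm hCW hV'W hx.2
      have hv' : v ∈ U ⊔ C := by
        have e : v = c⁻¹ * x := by rw [hxcv]; group
        rw [e, sup_comm]
        exact Subgroup.mul_mem_sup (C.inv_mem hc) hx.1
      have hv1 : v = 1 := by
        have : v ∈ cj h V₀ ⊓ (U ⊔ C) := Subgroup.mem_inf.mpr ⟨hv, hv'⟩
        rw [hmeet] at this
        exact Subgroup.mem_bot.mp this
      rw [hv1, mul_one] at hxcv
      have : x ∈ U ⊓ C := Subgroup.mem_inf.mpr ⟨hx.1, hxcv ▸ hc⟩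
      rw [hUC] at this
      exact this
    exact hh ((le_sup_right.trans hC').trans le_sup_right)
  refine ⟨C, hCW, hCN, hUC, ?_⟩
  intro w hw
  exact mem_sup_ab hW.comm hUW hCW (hkey hw)

theorem normalizer_centralizer' {N D : Subgroup H} (hD : N ≤ Subgroup.normalizer (D : Set H)) :
    N ≤ Subgroup.normalizer ((Subgroup.centralizer (D : Set H) : Subgroup H) : Set H) := by
  have key : ∀ n ∈ N, ∀ x ∈ Subgroup.centralizer (D : Set H),
      n * x * n⁻¹ ∈ Subgroup.centralizer (D : Set H) := by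
    intro n hn x hx
    rw [Subgroup.mem_centralizer_iff]
    intro d hd
    have h1 : n⁻¹ * d * n⁻¹⁻¹ ∈ D :=
      (Subgroup.mem_normalizer_iff.mp (hD (N.inv_mem hn)) d).mp hd
    have h2 := Subgroup.mem_centralizer_iff.mp hx _ h1
    calc d * (n * x * n⁻¹) = n * ((n⁻¹ * d * n⁻¹⁻¹) * x) * n⁻¹ := by group
      _ = n * (x * (n⁻¹ * d * n⁻¹⁻¹)) * n⁻¹ := by rw [h2]
      _ = n * x * n⁻¹ * d := by group
  intro n hn
  rw [Subgroup.mem_normalizer_iff]
  intro x
  constructor
  · exact key n hn x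
  · intro hx
    have := key n⁻¹ (N.inv_mem hn) _ hx
    have e : n⁻¹ * (n * x * n⁻¹) * n⁻¹⁻¹ = x := by group
    rwa [e] at this

theorem normalizer_commutator' {N A B : Subgroup H} (hA : N ≤ Subgroup.normalizer (A : Set H))
    (hB : N ≤ Subgroup.normalizer (B : Set H)) :
    N ≤ Subgroup.normalizer ((⁅A, B⁆ : Subgroup H) : Set H) := by
  have key : ∀ n ∈ N, ∀ x ∈ ⁅A, B⁆, n * x * n⁻¹ ∈ ⁅A, B⁆ := by
    intro n hn x hx
    have h1 : ⁅A, B⁆ ≤ (⁅A, B⁆).comap (MulAut.conj n).toMonoidHom := by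
      rw [Subgroup.commutator_le]
      intro a ha b hb
      rw [Subgroup.mem_comap]
      have e : (MulAut.conj n).toMonoidHom ⁅a, b⁆ = ⁅n * a * n⁻¹, n * b * n⁻¹⁆ := by
        simp only [MulEquiv.coe_toMonoidHom, MulAut.conj_apply, commutatorElement_def]
        group
      rw [e]
      exact Subgroup.commutator_mem_commutator
        ((Subgroup.mem_normalizer_iff.mp (hA hn) a).mp ha)
        ((Subgroup.mem_normalizer_iff.mp (hB hn) b).mp hb)
    have := h1 hx
    rw [Subgroup.mem_comap] at this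
    simpa using this
  intro n hn
  rw [Subgroup.mem_normalizer_iff]
  intro x
  constructor
  · exact key n hn x
  · intro hx
    have := key n⁻¹ (N.inv_mem hn) _ hx
    have e : n⁻¹ * (n * x * n⁻¹) * n⁻¹⁻¹ = x := by group
    rwa [e] at this

/-- a subgroup `D` of the normal subgroup `N`, normalized by `N` and acting as a `p`-group on the
abelian minimal normal `p`-subgroup `W`, centralizes `W` -/
theorem le_centralizer_of_actsP [Finite H] {p : ℕ} [Fact p.Prime] {W N D : Subgroup H}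
    (hW : MinAb W) (hWp : IsPGroup p ↥W) [hN : N.Normal] (hDN : D ≤ N)
    (hND : N ≤ Subgroup.normalizer (D : Set H)) (hact : ActsP p D W) :
    D ≤ Subgroup.centralizer (W : Set H) := by
  have hWn : W.Normal := hW.normal
  have hFN : N ≤ Subgroup.normalizer ((W ⊓ Subgroup.centralizer (D : Set H) : Subgroup H) : Set H) :=
    normalizer_inf' Subgroup.le_normalizer_of_normal (normalizer_centralizer' hND)
  obtain ⟨C, hCW, hCN, hFC, hdec⟩ := exists_complement hW (N := N) inf_le_left hFN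
  have hC1 : C = ⊥ := by
    by_contra hC1
    obtain ⟨u, hu, hu1, hfix⟩ := exists_fixed_of_actsP (hWp.to_le hCW) hC1 (hDN.trans hCN)
      (hact.mono le_rfl hCW)
    have : u ∈ (W ⊓ Subgroup.centralizer (D : Set H)) ⊓ C := by
      refine Subgroup.mem_inf.mpr ⟨Subgroup.mem_inf.mpr ⟨hCW hu, ?_⟩, hu⟩
      rw [Subgroup.mem_centralizer_iff]
      exact hfix
    rw [hFC] at this
    exact hu1 (Subgroup.mem_bot.mp this)
  rw [Subgroup.le_centralizer_iff]
  intro w hw
  obtain ⟨f, hf, c, hc, rfl⟩ := hdec w hw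
  rw [hC1, Subgroup.mem_bot] at hc
  rw [hc, mul_one]
  exact (Subgroup.mem_inf.mp hf).2

/-- semisimplicity: `⁅W, A⁆` meets `C(A)` trivially for `A ≤ N` normalized by `N` -/
theorem commutator_inf_centralizer_eq_bot [Finite H] {W N A : Subgroup H} (hW : MinAb W)
    [hN : N.Normal] (hAN : A ≤ N) (hNA : N ≤ Subgroup.normalizer (A : Set H)) :
    ⁅W, A⁆ ⊓ Subgroup.centralizer (A : Set H) = ⊥ := by
  have hWn : W.Normal := hW.normal
  have hWA : ⁅W, A⁆ ≤ W := Subgroup.commutator_le_left W A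
  have hUN : N ≤ Subgroup.normalizer ((⁅W, A⁆ ⊓ Subgroup.centralizer (A : Set H) : Subgroup H) : Set H) :=
    normalizer_inf' (normalizer_commutator' Subgroup.le_normalizer_of_normal hNA)
      (normalizer_centralizer' hNA)
  obtain ⟨C, hCW, hCN, hUC, hdec⟩ := exists_complement hW (N := N) (inf_le_left.trans hWA) hUN
  have h1 : ⁅W, A⁆ ≤ C := by
    rw [Subgroup.commutator_le]
    intro w hw a ha
    obtain ⟨u, hu, c, hc, rfl⟩ := hdec w hw
    have hu2 := Subgroup.mem_centralizer_iff.mp (Subgroup.mem_inf.mp hu).2 a ha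
    have hca : ⁅c, a⁆ ∈ C := by
      have h2 : a * c⁻¹ * a⁻¹ ∈ C :=
        (Subgroup.mem_normalizer_iff.mp (hCN (hAN ha)) c⁻¹).mp (C.inv_mem hc)
      have e : ⁅c, a⁆ = c * (a * c⁻¹ * a⁻¹) := by rw [commutatorElement_def]; group
      rw [e]
      exact C.mul_mem hc h2
    have huW : u ∈ W := hWA (Subgroup.mem_inf.mp hu).1
    have hcomm := Subgroup.mem_centralizer_iff.mp (hW.comm huW) ⁅c, a⁆ (hCW hca)
    have e : ⁅u * c, a⁆ = ⁅c, a⁆ := by
      have e1 : ⁅u * c, a⁆ = u * ⁅c, a⁆ * (a * u⁻¹ * a⁻¹) := by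
        rw [commutatorElement_def, commutatorElement_def]; group
      have e2 : a * u⁻¹ * a⁻¹ = u⁻¹ := by
        have : a * u⁻¹ = u⁻¹ * a := by
          have h3 : u⁻¹ * (a * u) * u⁻¹ = u⁻¹ * (u * a) * u⁻¹ := by rw [hu2]
          have h4 : u⁻¹ * (a * u) * u⁻¹ = u⁻¹ * a := by group
          have h5 : u⁻¹ * (u * a) * u⁻¹ = a * u⁻¹ := by group
          rw [h4, h5] at h3
          exact h3.symm
        rw [this, mul_inv_cancel_right]
      rw [e1, e2, ← hcomm, mul_inv_cancel_right]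
    rw [e]
    exact hca
  rw [eq_bot_iff, ← hUC]
  exact le_inf le_rfl (inf_le_left.trans h1)

/-- an element acting quadratically on an abelian minimal normal `p`-subgroup of a group that is
`p`-stable in the normalizer form centralizes it -/
theorem mem_centralizer_of_quadratic [Finite H] {p : ℕ} [Fact p.Prime]
    (hst : Cfsg.IsNormalizerPStable p H) {W : Subgroup H} (hW : MinAb W) (hWp : IsPGroup p ↥W)
    (a : H) (hq : ⁅⁅W, Subgroup.zpowers a⁆, Subgroup.zpowers a⁆ = ⊥) :
    a ∈ Subgroup.centralizer (W : Set H) := by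
  have hWn : W.Normal := hW.normal
  obtain ⟨E, -, hE2, hE3, hE4⟩ := exists_envelope hst W hWp
  have htop : ∀ n : H, n ∈ Subgroup.normalizer (W : Set H) := by
    intro n
    rw [Subgroup.normalizer_eq_top]
    trivial
  have hEn : E.Normal := ⟨fun x hx n => hE2 n (htop n) x hx⟩
  exact le_centralizer_of_actsP hW hWp (N := E) le_rfl Subgroup.le_normalizer hE3
    (hE4 a (htop a) hq)

theorem le_normalizer_of_conj_mem {K D : Subgroup H} (h : ∀ k ∈ K, ∀ x ∈ D, k * x * k⁻¹ ∈ D) :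
    K ≤ Subgroup.normalizer (D : Set H) := by
  intro k hk
  rw [Subgroup.mem_normalizer_iff]
  intro x
  constructor
  · exact h k hk x
  · intro hx
    have := h k⁻¹ (K.inv_mem hk) _ hx
    have e : k⁻¹ * (k * x * k⁻¹) * k⁻¹⁻¹ = x := by group
    rwa [e] at this

theorem conj_mem_of_le_normalizer {K D : Subgroup H} (h : K ≤ Subgroup.normalizer (D : Set H))
    {k x : H} (hk : k ∈ K) (hx : x ∈ D) : k * x * k⁻¹ ∈ D :=
  (Subgroup.mem_normalizer_iff.mp (h hk) x).mp hx

theorem commutator_le_left_of_le_normalizer {A K : Subgroup H}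
    (h : K ≤ Subgroup.normalizer (A : Set H)) : ⁅A, K⁆ ≤ A := by
  rw [Subgroup.commutator_le]
  intro a ha k hk
  have h1 : k * a⁻¹ * k⁻¹ ∈ A := conj_mem_of_le_normalizer h hk (A.inv_mem ha)
  have e : ⁅a, k⁆ = a * (k * a⁻¹ * k⁻¹) := by rw [commutatorElement_def]; group
  rw [e]
  exact A.mul_mem ha h1

/-- the subgroup generated by the `p'`-elements of `D` -/
def pPrimeGen (p : ℕ) (D : Subgroup H) : Subgroup H :=
  Subgroup.closure {y | y ∈ D ∧ (orderOf y).Coprime p}

theorem pPrimeGen_le (p : ℕ) (D : Subgroup H) : pPrimeGen p D ≤ D := by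
  unfold pPrimeGen
  rw [Subgroup.closure_le]
  intro y hy
  exact hy.1

theorem mem_pPrimeGen {p : ℕ} {D : Subgroup H} {y : H} (hy : y ∈ D) (hc : (orderOf y).Coprime p) :
    y ∈ pPrimeGen p D := Subgroup.subset_closure ⟨hy, hc⟩

theorem pPrimeGen_le_of {p : ℕ} {D K : Subgroup H}
    (h : ∀ y ∈ D, (orderOf y).Coprime p → y ∈ K) : pPrimeGen p D ≤ K := by
  unfold pPrimeGen
  rw [Subgroup.closure_le]
  intro y hy
  exact h y hy.1 hy.2

theorem normalizer_pPrimeGen {p : ℕ} {K D : Subgroup H} (h : K ≤ Subgroup.normalizer (D : Set H)) :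
    K ≤ Subgroup.normalizer ((pPrimeGen p D : Subgroup H) : Set H) := by
  apply le_normalizer_of_conj_mem
  intro k hk x hx
  have h1 : pPrimeGen p D ≤ (pPrimeGen p D).comap (MulAut.conj k).toMonoidHom := by
    apply pPrimeGen_le_of
    intro y hy hc
    rw [Subgroup.mem_comap]
    apply mem_pPrimeGen
    · simpa using conj_mem_of_le_normalizer h hk hy
    · rw [orderOf_injective _ (MulAut.conj k).injective]
      exact hc
  have := h1 hx
  rw [Subgroup.mem_comap] at this
  simpa using this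

end Cfsg.Agent.Lib.Helper57.KQ
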