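import Cfsg.Agent.Lib.Helper57.KQBase

/-!
A normal subgroup `M` of a group with trivial `p`-core, having a central subgroup with quotient a
`p`-group, has no nontrivial `p`-elements.
-/

set_option autoImplicit false

namespace Cfsg.Agent.Lib.Helper57.KQ

open Cfsg
open scoped commutatorElement

/-- a Sylow `p`-subgroup is normal if the group is a `p`-group modulo a central subgroup -/
theorem sylow_normal_of_central_quot {L : Type*} [Group L] [Finite L] {p : ℕ} [Fact p.Prime]
    (Z : Subgroup L) (hZ : Z ≤ Subgroup.center L) (hpow : ∀ x : L, ∃ k : ℕ, x ^ (p ^ k) ∈ Z)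
    (Q : Sylow p L) : (Q : Subgroup L).Normal := by
  have hZn : Z.Normal := by
    refine ⟨fun z hz g => ?_⟩
    have := Subgroup.mem_center_iff.mp (hZ hz) g
    have e : g * z * g⁻¹ = z := by rw [this, mul_inv_cancel_right]
    rw [e]
    exact hz
  have hquot : IsPGroup p (L ⧸ Z) := by
    intro x
    obtain ⟨g, rfl⟩ := QuotientGroup.mk_surjective x
    obtain ⟨k, hk⟩ := hpow g
    refine ⟨k, ?_⟩
    rw [← QuotientGroup.mk_pow, QuotientGroup.eq_one_iff]
    exact hk
  have htop : ((Q.mapSurjective (QuotientGroup.mk'_surjective Z) : Sylow p (L ⧸ Z)) :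
      Subgroup (L ⧸ Z)) = ⊤ :=
    ((Q.mapSurjective (QuotientGroup.mk'_surjective Z)).is_maximal'
      (hquot.to_subgroup ⊤) le_top).symm
  rw [Sylow.coe_mapSurjective] at htop
  refine ⟨fun q hq g => ?_⟩
  have hg : QuotientGroup.mk' Z g ∈ (Q : Subgroup L).map (QuotientGroup.mk' Z) := by
    rw [htop]
    trivial
  obtain ⟨q', hq', hqg⟩ := hg
  have hz : q'⁻¹ * g ∈ Z := by
    have := QuotientGroup.eq.mp hqg
    exact this
  have hcomm := Subgroup.mem_center_iff.mp (hZ hz)
  have e : g * q * g⁻¹ = q' * q * q'⁻¹ := by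
    have e1 : g = q' * (q'⁻¹ * g) := by group
    have h2 := hcomm q
    calc g * q * g⁻¹ = q' * ((q'⁻¹ * g) * q) * (q'⁻¹ * g)⁻¹ * q'⁻¹ := by group
      _ = q' * (q * (q'⁻¹ * g)) * (q'⁻¹ * g)⁻¹ * q'⁻¹ := by rw [h2]
      _ = q' * q * q'⁻¹ := by group
  rw [e]
  exact (Q : Subgroup L).mul_mem ((Q : Subgroup L).mul_mem hq' hq) ((Q : Subgroup L).inv_mem hq')

/-- in a group with trivial `p`-core, a normal subgroup `M` that is a `p`-group modulo a subgroup
`N` central in `M` has no nontrivial `p`-elements -/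
theorem eq_one_of_central_quot {L : Type*} [Group L] [Finite L] {p : ℕ} [Fact p.Prime]
    (hO : Cfsg.pCore p L = ⊥) {M N : Subgroup L} [hM : M.Normal]
    (hc : M ≤ Subgroup.centralizer (N : Set L)) (hpow : ∀ x ∈ M, ∃ k : ℕ, x ^ (p ^ k) ∈ N)
    {b : L} (hb : b ∈ M) (hbp : ∃ k : ℕ, b ^ (p ^ k) = 1) : b = 1 := by
  have hZ : N.subgroupOf M ≤ Subgroup.center ↥M := by
    intro z hz
    rw [Subgroup.mem_center_iff]
    intro m
    apply Subtype.ext
    have := Subgroup.mem_centralizer_iff.mp (hc m.2) (z : L) hz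
    simpa using this.symm
  have hpow' : ∀ x : ↥M, ∃ k : ℕ, x ^ (p ^ k) ∈ N.subgroupOf M := by
    intro x
    obtain ⟨k, hk⟩ := hpow x x.2
    exact ⟨k, by rw [Subgroup.mem_subgroupOf]; simpa using hk⟩
  have hbP : IsPGroup p ↥(Subgroup.zpowers (⟨b, hb⟩ : ↥M)) := by
    obtain ⟨k, hk⟩ := hbp
    have h1 : orderOf (⟨b, hb⟩ : ↥M) ∣ p ^ k := by
      apply orderOf_dvd_of_pow_eq_one
      apply Subtype.ext
      simpa using hk
    obtain ⟨j, -, hj⟩ := (Nat.dvd_prime_pow (Fact.out : p.Prime)).mp h1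
    exact IsPGroup.of_card (n := j) (by rw [Nat.card_zpowers, hj])
  obtain ⟨Q, hQ⟩ := hbP.exists_le_sylow
  have hQn : (Q : Subgroup ↥M).Normal := sylow_normal_of_central_quot _ hZ hpow' Q
  have hQc : (Q : Subgroup ↥M).Characteristic := Sylow.characteristic_of_normal Q hQn
  have hQL : ((Q : Subgroup ↥M).map M.subtype).Normal := inferInstance
  have hle : (Q : Subgroup ↥M).map M.subtype ≤ Cfsg.pCore p L :=
    Cfsg.Agent.Lib.Helper16.ZJ.le_pCore hQL (Q.2.map M.subtype)
  rw [hO] at hle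
  have : b ∈ (Q : Subgroup ↥M).map M.subtype :=
    ⟨⟨b, hb⟩, hQ (Subgroup.mem_zpowers _), rfl⟩
  exact Subgroup.mem_bot.mp (hle this)

variable {H : Type*} [Group H]

/-- the `p`-core of `H / C_H(W)` is trivial for an abelian minimal normal `p`-subgroup `W` -/
theorem pCore_quot_centralizer_eq_bot [Finite H] {p : ℕ} [Fact p.Prime] {W : Subgroup H}
    (hW : MinAb W) (hWp : IsPGroup p ↥W) [hC : (Subgroup.centralizer (W : Set H)).Normal] :
    Cfsg.pCore p (H ⧸ Subgroup.centralizer (W : Set H)) = ⊥ := by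
  have hOn : (Cfsg.pCore p (H ⧸ Subgroup.centralizer (W : Set H))).Normal :=
    Cfsg.Agent.Lib.Helper16.ZJ.pCore_normal p
  have hOp : IsPGroup p ↥(Cfsg.pCore p (H ⧸ Subgroup.centralizer (W : Set H))) :=
    Cfsg.Agent.Lib.Helper16.ZJ.pCore_isPGroup p
  have hRn : ((Cfsg.pCore p (H ⧸ Subgroup.centralizer (W : Set H))).comap
      (QuotientGroup.mk' (Subgroup.centralizer (W : Set H)))).Normal := hOn.comap _
  have hact : ActsP p ((Cfsg.pCore p (H ⧸ Subgroup.centralizer (W : Set H))).comap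
      (QuotientGroup.mk' (Subgroup.centralizer (W : Set H)))) W := by
    intro r hr
    obtain ⟨k, hk⟩ := hOp ⟨_, hr⟩
    refine ⟨k, ?_⟩
    have h1 : (QuotientGroup.mk' (Subgroup.centralizer (W : Set H)) r) ^ (p ^ k) = 1 := by
      have := congrArg Subtype.val hk
      simpa using this
    rw [← map_pow, QuotientGroup.mk'_apply, QuotientGroup.eq_one_iff] at h1
    exact h1
  have hle := le_centralizer_of_actsP hW hWp (N := (Cfsg.pCore p
      (H ⧸ Subgroup.centralizer (W : Set H))).comap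
      (QuotientGroup.mk' (Subgroup.centralizer (W : Set H)))) le_rfl Subgroup.le_normalizer hact
  rw [eq_bot_iff]
  intro x hx
  obtain ⟨r, rfl⟩ := QuotientGroup.mk_surjective x
  rw [Subgroup.mem_bot, QuotientGroup.eq_one_iff]
  exact hle hx

/-- the last step of the stability argument: if the normal subgroup `M` is a `p`-group modulo `N` and `⁅M, N⁆` centralizes `W`, then the `p`-elements of `M` centralize `W` -/
theorem mem_centralizer_of_central_mod [Finite H] {p : ℕ} [Fact p.Prime] {W M N : Subgroup H}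
    (hW : MinAb W) (hWp : IsPGroup p ↥W) [hM : M.Normal]
    (hpow : ∀ m ∈ M, ∃ k : ℕ, m ^ (p ^ k) ∈ N)
    (hc : ⁅M, N⁆ ≤ Subgroup.centralizer (W : Set H)) {b : H} (hb : b ∈ M)
    (hbp : ∃ k : ℕ, b ^ (p ^ k) = 1) : b ∈ Subgroup.centralizer (W : Set H) := by
  have hWn : W.Normal := hW.normal
  have hCn : (Subgroup.centralizer (W : Set H)).Normal := Subgroup.normal_centralizer
  have hO := pCore_quot_centralizer_eq_bot hW hWp
  have hMn : (M.map (QuotientGroup.mk' (Subgroup.centralizer (W : Set H)))).Normal :=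
    hM.map _ (QuotientGroup.mk'_surjective _)
  have hc' : M.map (QuotientGroup.mk' (Subgroup.centralizer (W : Set H))) ≤
      Subgroup.centralizer ((N.map (QuotientGroup.mk' (Subgroup.centralizer (W : Set H))) :
        Subgroup (H ⧸ Subgroup.centralizer (W : Set H))) :
        Set (H ⧸ Subgroup.centralizer (W : Set H))) := by
    rintro _ ⟨m, hm, rfl⟩
    rw [Subgroup.mem_centralizer_iff]
    rintro _ ⟨n, hn, rfl⟩
    have h1 : ⁅m, n⁆ ∈ Subgroup.centralizer (W : Set H) :=
      hc (Subgroup.commutator_mem_commutator hm hn)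
    have h2 : QuotientGroup.mk' (Subgroup.centralizer (W : Set H)) ⁅m, n⁆ = 1 := by
      rw [QuotientGroup.mk'_apply, QuotientGroup.eq_one_iff]
      exact h1
    rw [map_commutatorElement, commutatorElement_eq_one_iff_commute] at h2
    exact h2.eq.symm
  have hpow' : ∀ x ∈ M.map (QuotientGroup.mk' (Subgroup.centralizer (W : Set H))),
      ∃ k : ℕ, x ^ (p ^ k) ∈ N.map (QuotientGroup.mk' (Subgroup.centralizer (W : Set H))) := by
    rintro _ ⟨m, hm, rfl⟩
    obtain ⟨n, hn⟩ := hpow m hm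
    refine ⟨n, ?_⟩
    rw [← map_pow]
    exact Subgroup.mem_map_of_mem _ hn
  have hb' : QuotientGroup.mk' (Subgroup.centralizer (W : Set H)) b ∈
      M.map (QuotientGroup.mk' (Subgroup.centralizer (W : Set H))) :=
    Subgroup.mem_map_of_mem _ hb
  have hbp' : ∃ k : ℕ, (QuotientGroup.mk' (Subgroup.centralizer (W : Set H)) b) ^ (p ^ k) = 1 := by
    obtain ⟨k, hk⟩ := hbp
    exact ⟨k, by rw [← map_pow, hk, map_one]⟩
  have h1 := eq_one_of_central_quot hO hc' hpow' hb' hbp'
  rw [QuotientGroup.mk'_apply, QuotientGroup.eq_one_iff] at h1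
  exact h1

end Cfsg.Agent.Lib.Helper57.KQ
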