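import Cfsg.Agent.Lib.Helper57.KQBase
import Cfsg.Agent.Lib.Helper16.KFour

/-!
The chief factor `X / Y` inside `O_p(G)` attached to a subgroup `B ≰ O_p(G)` of a group with
`C_G(O_p(G)) ≤ O_p(G)`: `X` is a minimal normal subgroup of `G` inside `O_p(G)` not centralized by
the subgroup `N₀` generated by the `p'`-elements of the normal closure of `B`.
-/

set_option autoImplicit false

namespace Cfsg.Agent.Lib.Helper57.KQ

open Cfsg Cfsg.Agent.Lib.Helper54 Cfsg.Agent.Lib.Helper16.KComm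
open scoped commutatorElement

variable {G : Type*} [Group G]

/-- the data attached to `B` -/
structure KSetup (p : ℕ) (B X Y N₀ : Subgroup G) : Prop where
  Xn : X.Normal
  Yn : Y.Normal
  Nn : N₀.Normal
  XT : X ≤ Cfsg.pCore p G
  YX : Y ≤ X
  ne : ¬ X ≤ Y
  chief : ∀ Z : Subgroup G, Z.Normal → Z ≤ X → Z = X ∨ Z ≤ Y
  YN : Y ≤ Subgroup.centralizer (N₀ : Set G)
  XY : ⁅X, Y⁆ = ⊥
  XTY : ⁅X, Cfsg.pCore p G⁆ ≤ Y
  nB : ¬ ⁅X, B⁆ ≤ Y
  NM : N₀ ≤ Subgroup.normalClosure (B : Set G)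
  cop : ∀ m ∈ Subgroup.normalClosure (B : Set G), (orderOf m).Coprime p → m ∈ N₀

theorem exists_kSetup [Finite G] {p : ℕ} [Fact p.Prime]
    (hc : Subgroup.centralizer (Cfsg.pCore p G : Set G) ≤ Cfsg.pCore p G) {B : Subgroup G}
    (hBT : ¬ B ≤ Cfsg.pCore p G) : ∃ X Y N₀ : Subgroup G, KSetup p B X Y N₀ := by
  classical
  have hTn : (Cfsg.pCore p G).Normal := Cfsg.Agent.Lib.Helper16.ZJ.pCore_normal p
  have hTp : IsPGroup p ↥(Cfsg.pCore p G) := Cfsg.Agent.Lib.Helper16.ZJ.pCore_isPGroup p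
  set T := Cfsg.pCore p G with hT
  set M := Subgroup.normalClosure (B : Set G) with hM
  have hMn : M.Normal := Subgroup.normalClosure_normal
  have hBM : B ≤ M := Subgroup.le_normalClosure
  set N₀ := Subgroup.normalClosure {y : G | y ∈ M ∧ (orderOf y).Coprime p} with hN₀
  have hN₀n : N₀.Normal := Subgroup.normalClosure_normal
  have hN₀M : N₀ ≤ M := Subgroup.normalClosure_le_normal (fun y hy => hy.1)
  have hcop : ∀ m ∈ M, (orderOf m).Coprime p → m ∈ N₀ :=
    fun m hm hc => Subgroup.subset_normalClosure ⟨hm, hc⟩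
  have hN₀le : ∀ K : Subgroup G, K.Normal → (∀ y ∈ M, (orderOf y).Coprime p → y ∈ K) → N₀ ≤ K := by
    intro K hK h
    exact Subgroup.normalClosure_le_normal (fun y hy => h y hy.1 hy.2)
  have hCNn : (Subgroup.centralizer (N₀ : Set G)).Normal := Subgroup.normal_centralizer
  -- `N₀` does not centralize `T`
  have hTN : ¬ T ≤ Subgroup.centralizer (N₀ : Set G) := by
    intro h
    have h1 : N₀ ≤ T := (Subgroup.le_centralizer_iff.mp h).trans hc
    have h2 : IsPGroup p ↥M := by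
      apply isPGroup_of_forall_coprime_eq_one
      intro g hg hgc
      obtain ⟨k, hk⟩ := hTp ⟨g, h1 (hcop g hg hgc)⟩
      have hk' : g ^ (p ^ k) = 1 := by
        have := congrArg Subtype.val hk
        simpa using this
      exact eq_one_of_coprime_of_pow_eq_one hgc hk'
    exact hBT (hBM.trans (Cfsg.Agent.Lib.Helper16.ZJ.le_pCore hMn h2))
  obtain ⟨X, hXT, hX⟩ := Finite.exists_le_minimal
    (p := fun Z : Subgroup G => Z.Normal ∧ Z ≤ T ∧ ¬ Z ≤ Subgroup.centralizer (N₀ : Set G))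
    (a := T) ⟨hTn, le_rfl, hTN⟩
  obtain ⟨⟨hXn, -, hXN⟩, hXmin⟩ := hX
  have hYn : (X ⊓ Subgroup.centralizer (N₀ : Set G)).Normal := inferInstance
  have hne : ¬ X ≤ X ⊓ Subgroup.centralizer (N₀ : Set G) := fun h => hXN (h.trans inf_le_right)
  have hchief : ∀ Z : Subgroup G, Z.Normal → Z ≤ X →
      Z = X ∨ Z ≤ X ⊓ Subgroup.centralizer (N₀ : Set G) := by
    intro Z hZn hZX
    by_cases hZ : Z ≤ Subgroup.centralizer (N₀ : Set G)
    · right; exact le_inf hZX hZ
    · left
      exact le_antisymm hZX (hXmin ⟨hZn, hZX.trans hXT, hZ⟩ hZX)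
  have hXp : IsPGroup p ↥X := hTp.to_le hXT
  -- `⁅X, N₀⁆ = X`
  have hXN₀ : ⁅X, N₀⁆ = X := by
    have hcn : (⁅X, N₀⁆).Normal := inferInstance
    rcases hchief ⁅X, N₀⁆ hcn (Subgroup.commutator_le_left X N₀) with h | h
    · exact h
    · exfalso
      apply hXN
      rw [Subgroup.le_centralizer_iff]
      have hCXn : (Subgroup.centralizer (X : Set G)).Normal := Subgroup.normal_centralizer
      apply hN₀le _ hCXn
      intro y hy hyc
      rw [Subgroup.mem_centralizer_iff]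
      intro x hx
      have hmem : ⁅x, y⁆ ∈ ⁅X, N₀⁆ := Subgroup.commutator_mem_commutator hx (hcop y hy hyc)
      have h1 : ⁅x, y⁆ ∈ Subgroup.centralizer (N₀ : Set G) := (h hmem).2
      have hcomm : Commute ⁅x, y⁆ y :=
        (Subgroup.mem_centralizer_iff.mp h1 y (hcop y hy hyc)).symm
      have hpw : ∃ k : ℕ, ⁅x, y⁆ ^ (p ^ k) = 1 := by
        obtain ⟨k, hk⟩ := hXp ⟨⁅x, y⁆, Subgroup.commutator_le_left X N₀ hmem⟩
        refine ⟨k, ?_⟩
        have := congrArg Subtype.val hk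
        simpa using this
      have h2 := commutatorElement_eq_one_of_coprime (p := p) x y hcomm hpw hyc
      rw [commutatorElement_eq_one_iff_commute] at h2
      exact h2.eq
  have hYN : X ⊓ Subgroup.centralizer (N₀ : Set G) ≤ Subgroup.centralizer (N₀ : Set G) :=
    inf_le_right
  -- `Y` is central in `X`
  have hXY : ⁅X, X ⊓ Subgroup.centralizer (N₀ : Set G)⁆ = ⊥ := by
    have h1 : ⁅⁅N₀, X ⊓ Subgroup.centralizer (N₀ : Set G)⁆, X⁆ = ⊥ := by
      have : ⁅N₀, X ⊓ Subgroup.centralizer (N₀ : Set G)⁆ = ⊥ := by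
        rw [Subgroup.commutator_comm, Subgroup.commutator_eq_bot_iff_le_centralizer]
        exact hYN
      rw [this]
      exact Subgroup.commutator_bot_left X
    have h2 : ⁅⁅X ⊓ Subgroup.centralizer (N₀ : Set G), X⁆, N₀⁆ = ⊥ := by
      rw [Subgroup.commutator_eq_bot_iff_le_centralizer]
      exact (Subgroup.commutator_le_left _ X).trans hYN
    have h3 := Subgroup.commutator_commutator_eq_bot_of_rotate h1 h2
    rw [hXN₀] at h3
    exact h3
  -- `⁅X, T⁆ ≤ Y`
  have hXTY : ⁅X, T⁆ ≤ X ⊓ Subgroup.centralizer (N₀ : Set G) := by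
    have hcn : (⁅X, T⁆).Normal := inferInstance
    rcases hchief ⁅X, T⁆ hcn (Subgroup.commutator_le_left X T) with h | h
    · exfalso
      have hall : ∀ c, iterCommutator X T c = X := by
        intro c
        induction c with
        | zero => rfl
        | succ c ih =>
          show ⁅iterCommutator X T c, T⁆ = X
          rw [ih, h]
      obtain ⟨c, hc'⟩ := iter_eq_bot_of_pgroup hTp hXT (le_refl T)
      rw [hall c] at hc'
      apply hne
      rw [hc']
      exact bot_le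
    · exact h
  -- `B` does not centralize `X / Y`
  have hnB : ¬ ⁅X, B⁆ ≤ X ⊓ Subgroup.centralizer (N₀ : Set G) := by
    intro h
    have h1 : B ≤ cmod X (X ⊓ Subgroup.centralizer (N₀ : Set G)) := by
      rw [le_cmod_iff, Subgroup.commutator_comm]
      exact h
    have h2 : M ≤ cmod X (X ⊓ Subgroup.centralizer (N₀ : Set G)) :=
      Subgroup.normalClosure_le_normal h1
    have h3 := (le_cmod_iff _ _ _).mp (hN₀M.trans h2)
    rw [Subgroup.commutator_comm, hXN₀] at h3
    exact hne h3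
  exact ⟨X, X ⊓ Subgroup.centralizer (N₀ : Set G), N₀,
    ⟨hXn, hYn, hN₀n, hXT, inf_le_left, hne, hchief, hYN, hXY, hXTY, hnB, hN₀M, hcop⟩⟩

end Cfsg.Agent.Lib.Helper57.KQ
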