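import Cfsg.Agent.Lib.Helper57.KQH1
import Cfsg.Agent.Lib.Helper57.KQFinal
import Cfsg.Agent.Lib.Helper57.KQSetup

/-!
Transport of the stability tools from `G ⧸ Y` to `G`, for the data `KSetup p B X Y N₀`.
-/

set_option autoImplicit false

namespace Cfsg.Agent.Lib.Helper57.KQ

open Cfsg Cfsg.Agent.Lib.Helper54 Cfsg.Agent.Lib.Helper16.KComm
open scoped commutatorElement

variable {G : Type*} [Group G]

section bridge

variable {p : ℕ} {B X Y N₀ : Subgroup G}

theorem KSetup.comm_le (h : KSetup p B X Y N₀) : ⁅X, X⁆ ≤ Y :=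
  (Subgroup.commutator_mono le_rfl h.XT).trans h.XTY

theorem KSetup.Y_le_center (h : KSetup p B X Y N₀) :
    Y ≤ X ⊓ Subgroup.centralizer (X : Set G) := by
  apply le_inf h.YX
  have := h.XY
  rw [Subgroup.commutator_eq_bot_iff_le_centralizer, Subgroup.le_centralizer_iff] at this
  exact this

theorem map_le_bot_of_le [hY : Y.Normal] {K : Subgroup G} (hK : K ≤ Y) :
    K.map (QuotientGroup.mk' Y) = ⊥ := (le_iff_map_mk_eq_bot Y K).mp hK

/-- the image of `X` in `G ⧸ Y` is an abelian minimal normal subgroup -/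
theorem KSetup.minAb (h : KSetup p B X Y N₀) [hY : Y.Normal] :
    MinAb (X.map (QuotientGroup.mk' Y)) := by
  have hXn := h.Xn
  refine ⟨hXn.map _ (QuotientGroup.mk'_surjective Y), ?_, ?_⟩
  · rw [← Subgroup.commutator_eq_bot_iff_le_centralizer, ← Subgroup.map_commutator]
    exact map_le_bot_of_le h.comm_le
  · intro U hU hUW
    have hZn : (U.comap (QuotientGroup.mk' Y) ⊓ X).Normal := by
      have := hU.comap (QuotientGroup.mk' Y)
      infer_instance
    rcases h.chief _ hZn inf_le_right with h1 | h1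
    · right
      apply le_antisymm hUW
      rw [Subgroup.map_le_iff_le_comap, ← h1]
      exact inf_le_left
    · left
      rw [eq_bot_iff]
      intro u hu
      obtain ⟨x, hx, rfl⟩ := hUW hu
      have : x ∈ U.comap (QuotientGroup.mk' Y) ⊓ X := Subgroup.mem_inf.mpr ⟨hu, hx⟩
      rw [Subgroup.mem_bot, QuotientGroup.mk'_apply, QuotientGroup.eq_one_iff]
      exact h1 this

theorem KSetup.isPGroup_map [Fact p.Prime] (h : KSetup p B X Y N₀) [hY : Y.Normal] :
    IsPGroup p ↥(X.map (QuotientGroup.mk' Y)) :=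
  ((Cfsg.Agent.Lib.Helper16.ZJ.pCore_isPGroup p).to_le h.XT).map _

/-- **quadratic implies trivial** on the chief factor `X / Y` -/
theorem KSetup.quad_centralizes [Finite G] [Fact p.Prime] (h : KSetup p B X Y N₀) [hY : Y.Normal]
    (hst : Cfsg.IsNormalizerPStable p (G ⧸ Y)) {A : Subgroup G} (hA : ⁅⁅X, A⁆, A⁆ ≤ Y) :
    ⁅X, A⁆ ≤ Y := by
  rw [Subgroup.commutator_le]
  intro x hx a ha
  have hz : Subgroup.zpowers a ≤ A := Subgroup.zpowers_le.mpr ha
  have hq : ⁅⁅X.map (QuotientGroup.mk' Y), Subgroup.zpowers (QuotientGroup.mk' Y a)⁆,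
      Subgroup.zpowers (QuotientGroup.mk' Y a)⁆ = ⊥ := by
    rw [← MonoidHom.map_zpowers, ← Subgroup.map_commutator, ← Subgroup.map_commutator]
    exact map_le_bot_of_le
      ((Subgroup.commutator_mono (Subgroup.commutator_mono le_rfl hz) hz).trans hA)
  have h1 := mem_centralizer_of_quadratic hst h.minAb h.isPGroup_map _ hq
  have h2 := Subgroup.mem_centralizer_iff.mp h1 (QuotientGroup.mk' Y x)
    (Subgroup.mem_map_of_mem _ hx)
  have h3 : QuotientGroup.mk' Y ⁅x, a⁆ = 1 := by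
    rw [map_commutatorElement, commutatorElement_eq_one_iff_commute]
    exact h2
  rw [QuotientGroup.mk'_apply, QuotientGroup.eq_one_iff] at h3
  exact h3

theorem map_le_normalizer_map {G' : Type*} [Group G'] {K P : Subgroup G} (f : G →* G')
    (hK : K ≤ Subgroup.normalizer (P : Set G)) :
    K.map f ≤ Subgroup.normalizer ((P.map f : Subgroup G') : Set G') := by
  apply le_normalizer_of_conj_mem
  rintro _ ⟨k, hk, rfl⟩ _ ⟨x, hx, rfl⟩
  rw [← map_inv, ← map_mul, ← map_mul]
  exact Subgroup.mem_map_of_mem _ (conj_mem_of_le_normalizer hK hk hx)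

/-- the key step, in `G` -/
theorem KSetup.key [Finite G] [Fact p.Prime] (h : KSetup p B X Y N₀) [hY : Y.Normal]
    (hst : Cfsg.IsNormalizerPStable p (G ⧸ Y)) {P : Subgroup G} (hPX : P ≤ X)
    (hNP : N₀ ≤ Subgroup.normalizer (P : Set G)) (hBP : B ≤ Subgroup.normalizer (P : Set G))
    (hq1 : ⁅⁅P, B⁆, B⁆ ≤ Y) (hq2 : ⁅⁅X, B⁆, B⁆ ≤ P) : ⁅⁅N₀, B⁆, X⁆ ≤ Y := by
  have hNn := h.Nn
  have hNn' : (N₀.map (QuotientGroup.mk' Y)).Normal := hNn.map _ (QuotientGroup.mk'_surjective Y)
  have h1 := commutator_le_centralizer_of_quadratic hst h.minAb h.isPGroup_map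
    (N := N₀.map (QuotientGroup.mk' Y)) (B := B.map (QuotientGroup.mk' Y))
    (P := P.map (QuotientGroup.mk' Y)) (Subgroup.map_mono hPX)
    (map_le_normalizer_map _ hNP) (map_le_normalizer_map _ hBP)
    (by
      rw [← Subgroup.map_commutator, ← Subgroup.map_commutator]
      exact map_le_bot_of_le hq1)
    (by
      rw [← Subgroup.map_commutator, ← Subgroup.map_commutator]
      exact Subgroup.map_mono hq2)
  rw [← Subgroup.commutator_eq_bot_iff_le_centralizer, ← Subgroup.map_commutator,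
    ← Subgroup.map_commutator, ← le_iff_map_mk_eq_bot] at h1
  exact h1

/-- the last step, in `G` -/
theorem KSetup.last [Finite G] [Fact p.Prime] (h : KSetup p B X Y N₀) [hY : Y.Normal]
    (hB : IsPGroup p ↥B) (hNB : ⁅⁅N₀, B⁆, X⁆ ≤ Y) : ⁅X, B⁆ ≤ Y := by
  have hXn := h.Xn
  have hNn := h.Nn
  have hMn : (Subgroup.normalClosure (B : Set G)).Normal := Subgroup.normalClosure_normal
  -- `⁅M, N₀⁆` centralizes `X / Y`
  have hMN : ⁅⁅Subgroup.normalClosure (B : Set G), N₀⁆, X⁆ ≤ Y := by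
    have h1 : B ≤ cmod N₀ (cmod X Y) := by
      rw [le_cmod_iff, le_cmod_iff, Subgroup.commutator_comm B N₀]
      exact hNB
    have h2 : Subgroup.normalClosure (B : Set G) ≤ cmod N₀ (cmod X Y) :=
      Subgroup.normalClosure_le_normal h1
    rw [le_cmod_iff, le_cmod_iff] at h2
    exact h2
  have hMn' : ((Subgroup.normalClosure (B : Set G)).map (QuotientGroup.mk' Y)).Normal :=
    hMn.map _ (QuotientGroup.mk'_surjective Y)
  have hpow : ∀ m ∈ (Subgroup.normalClosure (B : Set G)).map (QuotientGroup.mk' Y),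
      ∃ k : ℕ, m ^ (p ^ k) ∈ N₀.map (QuotientGroup.mk' Y) := by
    rintro _ ⟨m, hm, rfl⟩
    obtain ⟨n, -, hn⟩ := exists_pow_coprime (p := p) m 0
    refine ⟨n, ?_⟩
    rw [← map_pow]
    exact Subgroup.mem_map_of_mem _ (h.cop _ (Subgroup.pow_mem _ hm _) hn)
  have hc : ⁅(Subgroup.normalClosure (B : Set G)).map (QuotientGroup.mk' Y),
      N₀.map (QuotientGroup.mk' Y)⁆ ≤
      Subgroup.centralizer ((X.map (QuotientGroup.mk' Y) : Subgroup (G ⧸ Y)) : Set (G ⧸ Y)) := by
    rw [← Subgroup.commutator_eq_bot_iff_le_centralizer, ← Subgroup.map_commutator,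
      ← Subgroup.map_commutator]
    exact map_le_bot_of_le hMN
  rw [Subgroup.commutator_le]
  intro x hx b hb
  have hbp : ∃ k : ℕ, (QuotientGroup.mk' Y b) ^ (p ^ k) = 1 := by
    obtain ⟨k, hk⟩ := hB ⟨b, hb⟩
    refine ⟨k, ?_⟩
    have hk' : b ^ (p ^ k) = 1 := by
      have := congrArg Subtype.val hk
      simpa using this
    rw [← map_pow, hk', map_one]
  have h1 := mem_centralizer_of_central_mod h.minAb h.isPGroup_map hpow hc
    (Subgroup.mem_map_of_mem _ (Subgroup.le_normalClosure hb)) hbp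
  have h2 := Subgroup.mem_centralizer_iff.mp h1 (QuotientGroup.mk' Y x)
    (Subgroup.mem_map_of_mem _ hx)
  have h3 : QuotientGroup.mk' Y ⁅x, b⁆ = 1 := by
    rw [map_commutatorElement, commutatorElement_eq_one_iff_commute]
    exact h2
  rw [QuotientGroup.mk'_apply, QuotientGroup.eq_one_iff] at h3
  exact h3

end bridge

end Cfsg.Agent.Lib.Helper57.KQ
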