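import Cfsg.Agent.Lib.Helper57.KQBase

/-!
The key step of the stability argument for the `K_∞` subgroups, in a group `H` that is `p`-stable
in the normalizer form, with an abelian minimal normal `p`-subgroup `W`.
-/

set_option autoImplicit false

namespace Cfsg.Agent.Lib.Helper57.KQ

open Cfsg Cfsg.Agent.Lib.Helper54
open scoped commutatorElement

variable {H : Type*} [Group H]

/-- one application of stability: for a `p`-subgroup `P` normalized by the normal subgroup `N` and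
by `B`, with `B` quadratic on `P`, there is a subgroup `D` of `N`, normalized by `N` and `B`,
containing `⁅N, B⁆`, whose `p'`-elements centralize `P` -/
theorem exists_stab_subgroup {p : ℕ} [Fact p.Prime] (hst : Cfsg.IsNormalizerPStable p H)
    {N B P : Subgroup H} [hN : N.Normal] (hP : IsPGroup p ↥P)
    (hNP : N ≤ Subgroup.normalizer (P : Set H)) (hBP : B ≤ Subgroup.normalizer (P : Set H))
    (hq : ⁅⁅P, B⁆, B⁆ = ⊥) :
    ∃ D : Subgroup H, D ≤ N ∧ N ≤ Subgroup.normalizer (D : Set H) ∧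
      B ≤ Subgroup.normalizer (D : Set H) ∧ ⁅N, B⁆ ≤ D ∧
      ∀ y ∈ D, (orderOf y).Coprime p → y ∈ Subgroup.centralizer (P : Set H) := by
  obtain ⟨E, -, hE2, hE3, hE4⟩ := exists_envelope hst P hP
  have hBE : B ≤ E := by
    intro b hb
    apply hE4 b (hBP hb)
    rw [eq_bot_iff, ← hq]
    have hz : Subgroup.zpowers b ≤ B := Subgroup.zpowers_le.mpr hb
    exact Subgroup.commutator_mono (Subgroup.commutator_mono le_rfl hz) hz
  refine ⟨E ⊓ N, inf_le_right, ?_, ?_, ?_, ?_⟩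
  · apply le_normalizer_of_conj_mem
    intro n hn x hx
    exact Subgroup.mem_inf.mpr ⟨hE2 n (hNP hn) x (Subgroup.mem_inf.mp hx).1,
      hN.conj_mem x (Subgroup.mem_inf.mp hx).2 n⟩
  · apply le_normalizer_of_conj_mem
    intro b hb x hx
    exact Subgroup.mem_inf.mpr ⟨hE2 b (hBP hb) x (Subgroup.mem_inf.mp hx).1,
      hN.conj_mem x (Subgroup.mem_inf.mp hx).2 b⟩
  · rw [Subgroup.commutator_le]
    intro n hn b hb
    refine Subgroup.mem_inf.mpr ⟨?_, ?_⟩
    · have h1 : n * b * n⁻¹ ∈ E := hE2 n (hNP hn) b (hBE hb)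
      have e : ⁅n, b⁆ = (n * b * n⁻¹) * b⁻¹ := by rw [commutatorElement_def]
      rw [e]
      exact E.mul_mem h1 (E.inv_mem (hBE hb))
    · have h1 : b * n⁻¹ * b⁻¹ ∈ N := hN.conj_mem _ (N.inv_mem hn) b
      have e : ⁅n, b⁆ = n * (b * n⁻¹ * b⁻¹) := by rw [commutatorElement_def]; group
      rw [e]
      exact N.mul_mem hn h1
  · intro y hy hc
    obtain ⟨k, hk⟩ := hE3 y (Subgroup.mem_inf.mp hy).1
    have hc' : (p ^ k).Coprime (orderOf y) := (hc.pow_right k).symm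
    obtain ⟨m, hm⟩ := exists_pow_eq_self_of_coprime hc'
    rw [← hm]
    exact Subgroup.pow_mem _ hk m

/-- **the key step**: if `B` acts quadratically on the `N`- and `B`-invariant subgroup `P` of `W`
and `⁅W, B, B⁆ ≤ P`, then `⁅N, B⁆` centralizes `W` -/
theorem commutator_le_centralizer_of_quadratic [Finite H] {p : ℕ} [Fact p.Prime]
    (hst : Cfsg.IsNormalizerPStable p H) {W N B P : Subgroup H} (hW : MinAb W)
    (hWp : IsPGroup p ↥W) [hN : N.Normal] (hPW : P ≤ W)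
    (hNP : N ≤ Subgroup.normalizer (P : Set H)) (hBP : B ≤ Subgroup.normalizer (P : Set H))
    (hq1 : ⁅⁅P, B⁆, B⁆ = ⊥) (hq2 : ⁅⁅W, B⁆, B⁆ ≤ P) :
    ⁅N, B⁆ ≤ Subgroup.centralizer (W : Set H) := by
  have hWn : W.Normal := hW.normal
  obtain ⟨D₁, hD₁N, hND₁, hBD₁, hNBD₁, hD₁c⟩ :=
    exists_stab_subgroup hst (hWp.to_le hPW) hNP hBP hq1
  -- the subgroup generated by the `p'`-elements of `D₁`
  have hD'D : pPrimeGen p D₁ ≤ D₁ := pPrimeGen_le p D₁
  have hD'N : pPrimeGen p D₁ ≤ N := hD'D.trans hD₁N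
  have hD'c : pPrimeGen p D₁ ≤ Subgroup.centralizer (P : Set H) := pPrimeGen_le_of hD₁c
  have hND' : N ≤ Subgroup.normalizer ((pPrimeGen p D₁ : Subgroup H) : Set H) :=
    normalizer_pPrimeGen hND₁
  have hBD' : B ≤ Subgroup.normalizer ((pPrimeGen p D₁ : Subgroup H) : Set H) :=
    normalizer_pPrimeGen hBD₁
  -- `W₁ = ⁅W, D₁'⁆`
  have hW₁W : ⁅W, pPrimeGen p D₁⁆ ≤ W := Subgroup.commutator_le_left W _
  have hNW₁ : N ≤ Subgroup.normalizer ((⁅W, pPrimeGen p D₁⁆ : Subgroup H) : Set H) :=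
    normalizer_commutator' Subgroup.le_normalizer_of_normal hND'
  have hBW₁ : B ≤ Subgroup.normalizer ((⁅W, pPrimeGen p D₁⁆ : Subgroup H) : Set H) :=
    normalizer_commutator' Subgroup.le_normalizer_of_normal hBD'
  have hSS : ⁅W, pPrimeGen p D₁⁆ ⊓ Subgroup.centralizer ((pPrimeGen p D₁ : Subgroup H) : Set H) = ⊥ :=
    commutator_inf_centralizer_eq_bot hW (N := N) hD'N hND'
  have hq1' : ⁅⁅⁅W, pPrimeGen p D₁⁆, B⁆, B⁆ = ⊥ := by
    rw [eq_bot_iff, ← hSS]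
    apply le_inf
    · have h1 : ⁅⁅W, pPrimeGen p D₁⁆, B⁆ ≤ ⁅W, pPrimeGen p D₁⁆ :=
        commutator_le_left_of_le_normalizer hBW₁
      exact (Subgroup.commutator_mono h1 le_rfl).trans h1
    · have h1 : ⁅⁅⁅W, pPrimeGen p D₁⁆, B⁆, B⁆ ≤ ⁅⁅W, B⁆, B⁆ :=
        Subgroup.commutator_mono (Subgroup.commutator_mono hW₁W le_rfl) le_rfl
      have h2 : P ≤ Subgroup.centralizer ((pPrimeGen p D₁ : Subgroup H) : Set H) := by
        rw [Subgroup.le_centralizer_iff]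
        exact hD'c
      exact (h1.trans hq2).trans h2
  obtain ⟨D₂, hD₂N, hND₂, -, hNBD₂, hD₂c⟩ :=
    exists_stab_subgroup hst (hWp.to_le hW₁W) hNW₁ hBW₁ hq1'
  -- `D₃ = D₁ ⊓ D₂`
  have hD₃N : D₁ ⊓ D₂ ≤ N := inf_le_left.trans hD₁N
  have hND₃ : N ≤ Subgroup.normalizer ((D₁ ⊓ D₂ : Subgroup H) : Set H) := normalizer_inf' hND₁ hND₂
  have hcop : ∀ y ∈ D₁ ⊓ D₂, (orderOf y).Coprime p → y ∈ Subgroup.centralizer (W : Set H) := by
    intro y hy hc
    have hy1 : y ∈ pPrimeGen p D₁ := mem_pPrimeGen (Subgroup.mem_inf.mp hy).1 hc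
    have hy2 : y ∈ Subgroup.centralizer ((⁅W, pPrimeGen p D₁⁆ : Subgroup H) : Set H) :=
      hD₂c y (Subgroup.mem_inf.mp hy).2 hc
    rw [Subgroup.mem_centralizer_iff]
    intro w hw
    have hmem : ⁅w, y⁆ ∈ ⁅W, pPrimeGen p D₁⁆ := Subgroup.commutator_mem_commutator hw hy1
    have hcomm : Commute ⁅w, y⁆ y := Subgroup.mem_centralizer_iff.mp hy2 _ hmem
    have hpw : ∃ k : ℕ, ⁅w, y⁆ ^ (p ^ k) = 1 := by
      obtain ⟨k, hk⟩ := hWp ⟨⁅w, y⁆, hW₁W hmem⟩
      refine ⟨k, ?_⟩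
      have := congrArg Subtype.val hk
      simpa using this
    have h1 := commutatorElement_eq_one_of_coprime (p := p) w y hcomm hpw hc
    rw [commutatorElement_eq_one_iff_commute] at h1
    exact h1.eq
  have hact : ActsP p (D₁ ⊓ D₂) W := by
    intro d hd
    obtain ⟨n, -, hn⟩ := exists_pow_coprime (p := p) d 0
    exact ⟨n, hcop _ (Subgroup.pow_mem _ hd _) hn⟩
  have hfin : D₁ ⊓ D₂ ≤ Subgroup.centralizer (W : Set H) :=
    le_centralizer_of_actsP hW hWp (N := N) hD₃N hND₃ hact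
  exact (le_inf hNBD₁ hNBD₂).trans hfin

end Cfsg.Agent.Lib.Helper57.KQ
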