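import Mathlib

/-!
For a subgroup `X` with `⁅X, X⁆` central in `X` and a subgroup `K`, the subgroup
`{x ∈ X | ⁅x, X⁆ ⊆ K}`.
-/

set_option autoImplicit false

namespace Cfsg.Agent.Lib.Helper57.KQ

open scoped commutatorElement

variable {G : Type*} [Group G]

/-- the radical of `K` in `X` for the commutator pairing -/
def radK (X K : Subgroup G) (hX : ⁅X, X⁆ ≤ Subgroup.centralizer (X : Set G)) : Subgroup G where
  carrier := {x | x ∈ X ∧ ∀ x' ∈ X, ⁅x, x'⁆ ∈ K}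
  one_mem' := by
    refine ⟨X.one_mem, ?_⟩
    intro x' _
    rw [commutatorElement_one_left]
    exact K.one_mem
  mul_mem' := by
    rintro a b ⟨ha, ha'⟩ ⟨hb, hb'⟩
    refine ⟨X.mul_mem ha hb, ?_⟩
    intro x' hx'
    have hc : ⁅b, x'⁆ ∈ Subgroup.centralizer (X : Set G) :=
      hX (Subgroup.commutator_mem_commutator hb hx')
    have h1 := Subgroup.mem_centralizer_iff.mp hc a ha
    have e : ⁅a * b, x'⁆ = ⁅b, x'⁆ * ⁅a, x'⁆ := by
      have e1 : ⁅a * b, x'⁆ = a * ⁅b, x'⁆ * a⁻¹ * ⁅a, x'⁆ := by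
        rw [commutatorElement_def, commutatorElement_def, commutatorElement_def]; group
      rw [e1, h1, mul_inv_cancel_right]
    rw [e]
    exact K.mul_mem (hb' x' hx') (ha' x' hx')
  inv_mem' := by
    rintro a ⟨ha, ha'⟩
    refine ⟨X.inv_mem ha, ?_⟩
    intro x' hx'
    have hc : ⁅a, x'⁆ ∈ Subgroup.centralizer (X : Set G) :=
      hX (Subgroup.commutator_mem_commutator ha hx')
    have h1 := Subgroup.mem_centralizer_iff.mp hc a ha
    have e : ⁅a⁻¹, x'⁆ = (⁅a, x'⁆)⁻¹ := by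
      have e1 : ⁅a⁻¹, x'⁆ = a⁻¹ * (⁅a, x'⁆)⁻¹ * a := by
        rw [commutatorElement_def, commutatorElement_def]; group
      have h2 : (⁅a, x'⁆)⁻¹ * a = a * (⁅a, x'⁆)⁻¹ := by
        have : a * ⁅a, x'⁆ = ⁅a, x'⁆ * a := h1
        calc (⁅a, x'⁆)⁻¹ * a = (⁅a, x'⁆)⁻¹ * (a * ⁅a, x'⁆) * (⁅a, x'⁆)⁻¹ := by group
          _ = (⁅a, x'⁆)⁻¹ * (⁅a, x'⁆ * a) * (⁅a, x'⁆)⁻¹ := by rw [this]
          _ = a * (⁅a, x'⁆)⁻¹ := by group
      rw [e1, mul_assoc, h2, ← mul_assoc, inv_mul_cancel, one_mul]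
    rw [e]
    exact K.inv_mem (ha' x' hx')

variable {X K : Subgroup G} {hX : ⁅X, X⁆ ≤ Subgroup.centralizer (X : Set G)}

theorem mem_radK {x : G} : x ∈ radK X K hX ↔ x ∈ X ∧ ∀ x' ∈ X, ⁅x, x'⁆ ∈ K := Iff.rfl

theorem radK_le : radK X K hX ≤ X := fun _ hx => hx.1

theorem le_radK {Z : Subgroup G} (hZX : Z ≤ X) (hZ : ⁅Z, X⁆ ≤ K) : Z ≤ radK X K hX := by
  intro z hz
  exact ⟨hZX hz, fun x' hx' => hZ (Subgroup.commutator_mem_commutator hz hx')⟩

theorem commutator_radK_le : ⁅radK X K hX, radK X K hX⁆ ≤ K := by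
  rw [Subgroup.commutator_le]
  intro a ha b hb
  exact ha.2 b hb.1

/-- elements centralizing `K` normalize the radical, when `X` is normal -/
theorem centralizer_le_normalizer_radK [hXn : X.Normal] :
    Subgroup.centralizer (K : Set G) ≤
      Subgroup.normalizer ((radK X K hX : Subgroup G) : Set G) := by
  have key : ∀ g ∈ Subgroup.centralizer (K : Set G), ∀ x ∈ radK X K hX,
      g * x * g⁻¹ ∈ radK X K hX := by
    intro g hg x hx
    refine ⟨hXn.conj_mem x hx.1 g, ?_⟩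
    intro x' hx'
    have h1 : g⁻¹ * x' * g ∈ X := by
      have := hXn.conj_mem x' hx' g⁻¹
      simpa using this
    have h2 : ⁅x, g⁻¹ * x' * g⁆ ∈ K := hx.2 _ h1
    have h3 := Subgroup.mem_centralizer_iff.mp hg _ h2
    have e : ⁅g * x * g⁻¹, x'⁆ = g * ⁅x, g⁻¹ * x' * g⁆ * g⁻¹ := by
      rw [commutatorElement_def, commutatorElement_def]; group
    rw [e, ← h3, mul_inv_cancel_right]
    exact h2
  intro g hg
  rw [Subgroup.mem_normalizer_iff]
  intro x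
  constructor
  · exact key g hg x
  · intro hx
    have := key g⁻¹ (Subgroup.inv_mem _ hg) _ hx
    have e : g⁻¹ * (g * x * g⁻¹) * g⁻¹⁻¹ = x := by group
    rwa [e] at this

end Cfsg.Agent.Lib.Helper57.KQ
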