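import Cfsg.Agent.Lib.Helper57.KQBridge
import Cfsg.Agent.Lib.Helper57.KQRad
import Cfsg.Agent.Lib.Helper16.KInfCtl

/-!
If `C_G(O_p(G)) ≤ O_p(G)` and every quotient of `G` is `p`-stable in the normalizer form, then
every term of the `K`-sequence of a Sylow `p`-subgroup lies in `O_p(G)`; hence both `K_∞`
subgroups are normal in `G`.
-/

set_option autoImplicit false

universe u

namespace Cfsg.Agent.Lib.Helper57.KQ

open Cfsg Cfsg.Agent.Lib.Helper16.KSub Cfsg.Agent.Lib.Helper16.KComm
open scoped commutatorElement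

variable {G : Type u} [Group G] [Finite G] {p : ℕ} [Fact p.Prime]

/-- upper case: a member of the upper-star family of a subgroup of `O_p(G)` lies in `O_p(G)` -/
theorem upper_le_pCore (hc : Subgroup.centralizer (Cfsg.pCore p G : Set G) ≤ Cfsg.pCore p G)
    (hst : ∀ (N : Subgroup G) [N.Normal], Cfsg.IsNormalizerPStable p (G ⧸ N))
    (S : Sylow p G) (R : Subgroup G) {B : Subgroup G}
    (hB : B ∈ kUpperStarFamily (lowerIn (S : Subgroup G) R)) : B ≤ Cfsg.pCore p G := by
  by_contra hBT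
  obtain ⟨hBcl, hBE⟩ := hB
  obtain ⟨X, Y, N₀, hK⟩ := exists_kSetup hc hBT
  have hYn := hK.Yn
  have hXn := hK.Xn
  have hstY := hst Y
  have hTS : Cfsg.pCore p G ≤ (S : Subgroup G) := Cfsg.Agent.Lib.Helper16.ZJ.pCore_le_sylow S
  have hXcl : X ∈ classTwoSubgroups G := hK.comm_le.trans (hK.Y_le_center.trans inf_le_right)
  have hXl : X ∈ kLowerStarFamily R := by
    refine ⟨hXcl, Subgroup.le_normalizer_of_normal, ?_⟩
    intro A₁ _ _ hXA₁ h1 h2
    have h3 : ⁅⁅X, A₁⁆, A₁⁆ ≤ Y := by
      have hXA : ⁅X, A₁⁆ ≤ A₁ := by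
        rw [Subgroup.commutator_comm]
        exact commutator_le_left_of_le_normalizer hXA₁
      have h4 : ⁅⁅X, A₁⁆, A₁⁆ ≤ Subgroup.centralizer (X : Set G) := by
        refine (Subgroup.commutator_mono hXA le_rfl).trans ?_
        rw [Subgroup.commutator_eq_bot_iff_le_centralizer, Subgroup.le_centralizer_iff] at h1
        exact h1
      have h5 : ⁅⁅X, A₁⁆, A₁⁆ ≤ X :=
        (Subgroup.commutator_mono (Subgroup.commutator_le_left X A₁) le_rfl).trans
          (Subgroup.commutator_le_left X A₁)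
      have hZn : (X ⊓ Subgroup.centralizer (X : Set G)).Normal := by
        have : (Subgroup.centralizer (X : Set G)).Normal := Subgroup.normal_centralizer
        infer_instance
      rcases hK.chief _ hZn inf_le_left with h6 | h6
      · rw [h6] at h2
        rw [h2]
        exact bot_le
      · exact (le_inf h5 h4).trans h6
    exact (hK.quad_centralizes hstY h3).trans hK.Y_le_center
  have hXL : X ≤ lowerIn (S : Subgroup G) R := le_sSup ⟨hXl, hK.XT.trans hTS⟩
  have hBX : ⁅B, X⁆ ≤ B ⊓ Subgroup.centralizer (B : Set G) :=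
    (Subgroup.commutator_mono le_rfl hXL).trans hBE
  have hq : ⁅⁅X, B⁆, B⁆ ≤ Y := by
    have : ⁅⁅X, B⁆, B⁆ = ⊥ := by
      rw [Subgroup.commutator_eq_bot_iff_le_centralizer, Subgroup.commutator_comm]
      exact hBX.trans inf_le_right
    rw [this]
    exact bot_le
  exact hK.nB (hK.quad_centralizes hstY hq)

/-- lower case: a member of the lower-star family of a subgroup `R` containing the relevant
chief factor lies in `O_p(G)` -/
theorem lower_le_pCore (hc : Subgroup.centralizer (Cfsg.pCore p G : Set G) ≤ Cfsg.pCore p G)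
    (hst : ∀ (N : Subgroup G) [N.Normal], Cfsg.IsNormalizerPStable p (G ⧸ N))
    (S : Sylow p G) (R : Subgroup G)
    (hR : ∀ X : Subgroup G, X.Normal → X ≤ Cfsg.pCore p G → X ∈ classTwoSubgroups G →
      ⁅X, Cfsg.pCore p G⁆ ≤ X ⊓ Subgroup.centralizer (X : Set G) → X ≤ R)
    {B : Subgroup G} (hBS : B ≤ (S : Subgroup G))
    (hB : B ∈ kLowerStarFamily R) : B ≤ Cfsg.pCore p G := by
  by_contra hBT
  obtain ⟨hBcl, hBnorm, hBcond⟩ := hB
  obtain ⟨X, Y, N₀, hK⟩ := exists_kSetup hc hBT
  have hYn := hK.Yn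
  have hXn := hK.Xn
  have hstY := hst Y
  have hBp : IsPGroup p ↥B := S.2.to_le hBS
  have hXcc : ⁅X, X⁆ ≤ Subgroup.centralizer (X : Set G) :=
    hK.comm_le.trans (hK.Y_le_center.trans inf_le_right)
  have hXR : X ≤ R := hR X hXn hK.XT hXcc (hK.XTY.trans hK.Y_le_center)
  have hXB : X ≤ Subgroup.normalizer (B : Set G) := hXR.trans hBnorm
  have hXBB : ⁅X, B⁆ ≤ B := by
    rw [Subgroup.commutator_comm]
    exact commutator_le_left_of_le_normalizer hXB
  have hzc : B ⊓ Subgroup.centralizer (B : Set G) ≤ Subgroup.centralizer (B : Set G) :=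
    inf_le_right
  -- `Z(B)` centralizes `X / Y`
  have hZ : ⁅X, B ⊓ Subgroup.centralizer (B : Set G)⁆ ≤ Y := by
    apply hK.quad_centralizes hstY
    have : ⁅⁅X, B ⊓ Subgroup.centralizer (B : Set G)⁆, B ⊓ Subgroup.centralizer (B : Set G)⁆ = ⊥ := by
      rw [Subgroup.commutator_eq_bot_iff_le_centralizer]
      refine ((Subgroup.commutator_mono le_rfl inf_le_left).trans hXBB).trans ?_
      rw [Subgroup.le_centralizer_iff]
      exact hzc
    rw [this]
    exact bot_le
  -- the radical of `K = ⁅X, X⁆ ⊓ C(B)`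
  have hKcB : ⁅X, X⁆ ⊓ Subgroup.centralizer (B : Set G) ≤ Subgroup.centralizer (B : Set G) :=
    inf_le_right
  have hPX : radK X (⁅X, X⁆ ⊓ Subgroup.centralizer (B : Set G)) hXcc ≤ X := radK_le
  have hBK : B ≤ Subgroup.centralizer ((⁅X, X⁆ ⊓ Subgroup.centralizer (B : Set G) : Subgroup G) : Set G) := by
    rw [Subgroup.le_centralizer_iff]
    exact hKcB
  have hNK : N₀ ≤ Subgroup.centralizer ((⁅X, X⁆ ⊓ Subgroup.centralizer (B : Set G) : Subgroup G) : Set G) := by
    rw [Subgroup.le_centralizer_iff]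
    exact (inf_le_left.trans hK.comm_le).trans hK.YN
  have hBP : B ≤ Subgroup.normalizer ((radK X (⁅X, X⁆ ⊓ Subgroup.centralizer (B : Set G)) hXcc :
      Subgroup G) : Set G) := hBK.trans centralizer_le_normalizer_radK
  have hNP : N₀ ≤ Subgroup.normalizer ((radK X (⁅X, X⁆ ⊓ Subgroup.centralizer (B : Set G)) hXcc :
      Subgroup G) : Set G) := hNK.trans centralizer_le_normalizer_radK
  -- `⁅X, B, B⁆` lies in the radical
  have hq2 : ⁅⁅X, B⁆, B⁆ ≤ radK X (⁅X, X⁆ ⊓ Subgroup.centralizer (B : Set G)) hXcc := by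
    have hD1 : ⁅⁅X, B⁆, B⁆ ≤ (B ⊓ Subgroup.centralizer (B : Set G)) ⊓ X := by
      apply le_inf (le_inf _ _)
      · exact (Subgroup.commutator_mono (Subgroup.commutator_le_left X B) le_rfl).trans
          (Subgroup.commutator_le_left X B)
      · exact (Subgroup.commutator_mono hXBB le_rfl).trans
          (commutator_le_left_of_le_normalizer Subgroup.le_normalizer)
      · exact (Subgroup.commutator_mono hXBB le_rfl).trans hBcl
    refine hD1.trans (le_radK inf_le_right (le_inf ?_ ?_))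
    · exact Subgroup.commutator_mono inf_le_right le_rfl
    · rw [← Subgroup.commutator_eq_bot_iff_le_centralizer]
      apply Subgroup.commutator_commutator_eq_bot_of_rotate
      · rw [Subgroup.commutator_eq_bot_iff_le_centralizer]
        refine hXBB.trans ?_
        rw [Subgroup.le_centralizer_iff]
        exact (inf_le_left.trans inf_le_right)
      · have : ⁅B, (B ⊓ Subgroup.centralizer (B : Set G)) ⊓ X⁆ = ⊥ := by
          rw [Subgroup.commutator_eq_bot_iff_le_centralizer, Subgroup.le_centralizer_iff]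
          exact (inf_le_left.trans inf_le_right)
        rw [this]
        exact Subgroup.commutator_bot_left X
  -- the family condition for the radical
  have hfam := hBcond (radK X (⁅X, X⁆ ⊓ Subgroup.centralizer (B : Set G)) hXcc)
    (by
      show ⁅radK X _ hXcc, radK X _ hXcc⁆ ≤ _
      exact (Subgroup.commutator_mono hPX hPX).trans
        (hXcc.trans (Subgroup.centralizer_le (by
          intro x hx
          exact hPX hx))))
    (hPX.trans hXR) hBP
    (by
      rw [Subgroup.commutator_eq_bot_iff_le_centralizer, Subgroup.le_centralizer_iff]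
      exact commutator_radK_le.trans hKcB)
    (by
      rw [eq_bot_iff]
      have h1 : ⁅B ⊓ Subgroup.centralizer (B : Set G),
          radK X (⁅X, X⁆ ⊓ Subgroup.centralizer (B : Set G)) hXcc⁆ ≤ Y := by
        rw [Subgroup.commutator_comm]
        exact (Subgroup.commutator_mono hPX le_rfl).trans hZ
      refine (Subgroup.commutator_mono h1 hPX).trans ?_
      rw [Subgroup.commutator_comm, hK.XY])
  have hq1 : ⁅⁅radK X (⁅X, X⁆ ⊓ Subgroup.centralizer (B : Set G)) hXcc, B⁆, B⁆ ≤ Y := by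
    have : ⁅⁅radK X (⁅X, X⁆ ⊓ Subgroup.centralizer (B : Set G)) hXcc, B⁆, B⁆ = ⊥ := by
      rw [Subgroup.commutator_eq_bot_iff_le_centralizer, Subgroup.commutator_comm]
      exact hfam.trans inf_le_right
    rw [this]
    exact bot_le
  have h1 := hK.key hstY hPX hNP hBP hq1 hq2
  exact hK.nB (hK.last hBp h1)

/-- **all terms of the `K`-sequence lie in `O_p(G)`** when `C_G(O_p(G)) ≤ O_p(G)` and every
quotient of `G` is `p`-stable in the normalizer form -/
theorem kseq_le_pCore (hc : Subgroup.centralizer (Cfsg.pCore p G : Set G) ≤ Cfsg.pCore p G)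
    (hst : ∀ (N : Subgroup G) [N.Normal], Cfsg.IsNormalizerPStable p (G ⧸ N))
    (S : Sylow p G) :
    ∀ n, lowerIn (S : Subgroup G) (oSeq (S : Subgroup G) n) ≤ Cfsg.pCore p G ∧
      oSeq (S : Subgroup G) (n + 1) ≤ Cfsg.pCore p G := by
  have hTS : Cfsg.pCore p G ≤ (S : Subgroup G) := Cfsg.Agent.Lib.Helper16.ZJ.pCore_le_sylow S
  have hlow : ∀ n, (n = 0 ∨ ∃ m, n = m + 1 ∧
      lowerIn (S : Subgroup G) (oSeq (S : Subgroup G) m) ≤ Cfsg.pCore p G) →
      lowerIn (S : Subgroup G) (oSeq (S : Subgroup G) n) ≤ Cfsg.pCore p G := by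
    intro n hn
    apply sSup_le
    rintro B ⟨hBl, hBS⟩
    apply lower_le_pCore hc hst S (oSeq (S : Subgroup G) n) _ hBS hBl
    intro X _ hXT hXcl hXc
    rcases hn with rfl | ⟨m, rfl, hm⟩
    · exact hXT.trans hTS
    · exact le_sSup ⟨⟨hXcl, (Subgroup.commutator_mono le_rfl hm).trans hXc⟩, hXT.trans hTS⟩
  have hup : ∀ n, oSeq (S : Subgroup G) (n + 1) ≤ Cfsg.pCore p G := by
    intro n
    apply sSup_le
    rintro B ⟨hBu, -⟩
    exact upper_le_pCore hc hst S (oSeq (S : Subgroup G) n) hBu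
  intro n
  refine ⟨?_, hup n⟩
  induction n with
  | zero => exact hlow 0 (Or.inl rfl)
  | succ m ih => exact hlow (m + 1) (Or.inr ⟨m, rfl, ih⟩)

end Cfsg.Agent.Lib.Helper57.KQ
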