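import Cfsg.Agent.Lib.Helper94.LCDefs

/-!
# K-LC LEAF A6 (keystone 640612, architect helper94): the counting assembly

`golayType_and_odd_of` is LEAF A6 with LEAVES A1 (`code_weight`), A2 (`orth_of_doubly_even`, `finrank_le_of_orth`),
A3 (`card_weight8_le`), A4a, A4b, A5 for `C = codeOf L` as explicit hypotheses:
`196560 ≤ 1104 + 128 * 759 + 24 * |C|` forces `|C| = 2 ^ 12` and an odd vector.
-/

set_option autoImplicit false
open Matrix

namespace Cfsg.Agent.Lib.Helper57.LC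

open Cfsg.Agent.Lib.Helper94.LC

/-- the vectors with sum of squares `32` are finitely many -/
theorem finite_ssq32 : {v : Fin 24 → ℤ | ssq v = 32}.Finite := by
  have hfin : (Set.pi Set.univ (fun _ : Fin 24 => Set.Icc (-6 : ℤ) 6)).Finite :=
    Set.Finite.pi (fun _ => Set.finite_Icc _ _)
  apply hfin.subset
  intro v hv
  change ssq v = 32 at hv
  rw [Set.mem_pi]
  intro i _
  have h1 : v i ^ 2 ≤ ssq v := by
    unfold ssq
    exact Finset.single_le_sum (f := fun j => v j ^ 2) (fun j _ => sq_nonneg (v j)) (Finset.mem_univ i)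
  rw [hv] at h1
  rw [Set.mem_Icc]
  constructor <;> nlinarith

/-- a vector of `L` has all coordinates even or all coordinates odd -/
theorem even_or_odd {L : AddSubgroup (Fin 24 → ℤ)} (hL : CoordLattice L) (v : Fin 24 → ℤ)
    (hv : v ∈ L) : (∀ i, (2 : ℤ) ∣ v i) ∨ ∀ i, ¬ (2 : ℤ) ∣ v i := by
  by_cases h0 : (2 : ℤ) ∣ v 0
  · left
    intro i
    have := hL.hpar v hv i 0
    have h2 : v i = (v i - v 0) + v 0 := by ring
    rw [h2]
    exact dvd_add this h0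
  · right
    intro i hi
    apply h0
    have := hL.hpar v hv 0 i
    have h2 : v 0 = (v 0 - v i) + v i := by ring
    rw [h2]
    exact dvd_add this hi

/-- LEAF A6 with LEAVES A1, A2, A3, A4a, A4b, A5 as hypotheses. -/
theorem golayType_and_odd_of (L : AddSubgroup (Fin 24 → ℤ)) (hL : CoordLattice L)
    (hA1 : ∀ w : Fin 24 → ZMod 2, w ∈ codeOf L → w ≠ 0 → 8 ≤ hammingNorm w ∧ 4 ∣ hammingNorm w)
    (hA2a : (∀ w ∈ codeOf L, 4 ∣ hammingNorm w) →
      ∀ v ∈ codeOf L, ∀ w ∈ codeOf L, ∑ i, v i * w i = 0)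
    (hA2b : (∀ v ∈ codeOf L, ∀ w ∈ codeOf L, ∑ i, v i * w i = 0) →
      Module.finrank (ZMod 2) (codeOf L) ≤ 12)
    (hA3 : (∀ w ∈ codeOf L, w ≠ 0 → 8 ≤ hammingNorm w) →
      {w : Fin 24 → ZMod 2 | w ∈ codeOf L ∧ hammingNorm w = 8}.ncard ≤ 759)
    (hA4a : {v : Fin 24 → ℤ | ssq v = 32 ∧ ∀ i, (4 : ℤ) ∣ v i}.ncard ≤ 1104)
    (hA4b : (∀ w ∈ codeOf L, w ≠ 0 → 8 ≤ hammingNorm w) →
      {v : Fin 24 → ℤ | v ∈ L ∧ ssq v = 32 ∧ (∀ i, (2 : ℤ) ∣ v i) ∧ ¬ ∀ i, (4 : ℤ) ∣ v i}.ncard ≤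
        128 * {w : Fin 24 → ZMod 2 | w ∈ codeOf L ∧ hammingNorm w = 8}.ncard)
    (hA5 : {v : Fin 24 → ℤ | v ∈ L ∧ ssq v = 32 ∧ ∀ i, ¬ (2 : ℤ) ∣ v i}.ncard ≤
      24 * Nat.card (codeOf L)) :
    IsGolayType (codeOf L) ∧ ∃ v ∈ L, ∀ i, ¬ (2 : ℤ) ∣ v i := by
  classical
  have h4 : ∀ w ∈ codeOf L, 4 ∣ hammingNorm w := by
    intro w hw
    by_cases hw0 : w = 0
    · rw [hw0, hammingNorm_zero]; exact dvd_zero 4
    · exact (hA1 w hw hw0).2
  have hmin : ∀ w ∈ codeOf L, w ≠ 0 → 8 ≤ hammingNorm w := fun w hw hw0 => (hA1 w hw hw0).1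
  have horth := hA2a h4
  have hle12 := hA2b horth
  have h759 := hA3 hmin
  have hoct := hA4b hmin
  -- the three sets
  set S4 : Set (Fin 24 → ℤ) := {v | ssq v = 32 ∧ ∀ i, (4 : ℤ) ∣ v i} with hS4
  set S2 : Set (Fin 24 → ℤ) :=
    {v | v ∈ L ∧ ssq v = 32 ∧ (∀ i, (2 : ℤ) ∣ v i) ∧ ¬ ∀ i, (4 : ℤ) ∣ v i} with hS2
  set S1 : Set (Fin 24 → ℤ) := {v | v ∈ L ∧ ssq v = 32 ∧ ∀ i, ¬ (2 : ℤ) ∣ v i} with hS1
  have hf4 : S4.Finite := finite_ssq32.subset (fun v hv => hv.1)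
  have hf2 : S2.Finite := finite_ssq32.subset (fun v hv => hv.2.1)
  have hf1 : S1.Finite := finite_ssq32.subset (fun v hv => hv.2.1)
  have hsub : {v : Fin 24 → ℤ | v ∈ L ∧ ssq v = 32} ⊆ S4 ∪ S2 ∪ S1 := by
    rintro v ⟨hvL, hv32⟩
    rcases even_or_odd hL v hvL with hev | hodd
    · by_cases h44 : ∀ i, (4 : ℤ) ∣ v i
      · exact Or.inl (Or.inl ⟨hv32, h44⟩)
      · exact Or.inl (Or.inr ⟨hvL, hv32, hev, h44⟩)
    · exact Or.inr ⟨hvL, hv32, hodd⟩
  have hcount : 196560 ≤ S4.ncard + S2.ncard + S1.ncard := by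
    rw [← hL.hcount]
    calc {v : Fin 24 → ℤ | v ∈ L ∧ ssq v = 32}.ncard
        ≤ (S4 ∪ S2 ∪ S1).ncard := Set.ncard_le_ncard hsub ((hf4.union hf2).union hf1)
      _ ≤ (S4 ∪ S2).ncard + S1.ncard := Set.ncard_union_le _ _
      _ ≤ S4.ncard + S2.ncard + S1.ncard := Nat.add_le_add_right (Set.ncard_union_le _ _) _
  -- the size of the code
  have hcard : Nat.card (codeOf L) = 2 ^ Module.finrank (ZMod 2) (codeOf L) := by
    rw [Module.natCard_eq_pow_finrank (K := ZMod 2) (V := codeOf L), Nat.card_zmod]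
  have hpow : 2 ^ Module.finrank (ZMod 2) (codeOf L) ≤ 2 ^ 12 :=
    Nat.pow_le_pow_right (by norm_num) hle12
  have hC : 4096 ≤ Nat.card (codeOf L) := by omega
  have hdim : Module.finrank (ZMod 2) (codeOf L) = 12 := by
    rcases Nat.lt_or_ge (Module.finrank (ZMod 2) (codeOf L)) 12 with hlt | hge
    · exfalso
      have h11 : 2 ^ Module.finrank (ZMod 2) (codeOf L) ≤ 2 ^ 11 :=
        Nat.pow_le_pow_right (by norm_num) (by omega)
      rw [hcard] at hC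
      norm_num at h11
      omega
    · omega
  refine ⟨⟨hdim, horth, h4, ?_⟩, ?_⟩
  · intro w hw
    by_cases hw0 : w = 0
    · rw [hw0, hammingNorm_zero]; norm_num
    · have := hmin w hw hw0
      omega
  · -- an odd vector
    by_contra hno
    have hS1e : S1 = ∅ := by
      apply Set.eq_empty_iff_forall_notMem.mpr
      intro v hv
      exact hno ⟨v, hv.1, hv.2.2⟩
    rw [hS1e, Set.ncard_empty] at hcount
    omega

end Cfsg.Agent.Lib.Helper57.LC
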