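import Cfsg.Agent.Lib.Helper57.CLA
import Mathlib.GroupTheory.Commutator.Basic

set_option autoImplicit false

namespace Cfsg.Agent.Lib.Helper57

open scoped Pointwise commutatorElement

variable {G : Type*} [Group G]

/-- For centrally large `Q`, `R` with `Q` minimal: `Q = (Q ∩ R) Z(Q)`, as subgroups and sets. -/
theorem mcl_decomp [Finite G] (Q R : Subgroup G) (hQ : Cfsg.IsMinimalCentrallyLarge Q)
    (hR : Cfsg.IsCentrallyLarge R) :
    (Q ⊓ R) ⊔ zOf Q = Q ∧
    (Q : Set G) = ((Q ⊓ R : Subgroup G) : Set G) * (zOf Q : Set G) := by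
  obtain ⟨hQ1, hQ2⟩ := (isCentrallyLarge_iff' Q).mp hQ.1
  obtain ⟨hR1, hR2⟩ := (isCentrallyLarge_iff' R).mp hR
  have hZQ : zOf Q = Subgroup.centralizer (Q : Set G) := zOf_eq_centralizer_of_le hQ2
  have hZR : zOf R = Subgroup.centralizer (R : Set G) := zOf_eq_centralizer_of_le hR2
  obtain ⟨-, hI, -, hCI, hCIset⟩ := cd_main _ cdm_le_maxCP Q R hQ1 hR1
  obtain ⟨hCQ, hCCQ⟩ := cd_centralizer _ cdm_le_maxCP Q hQ1
  rw [← hZQ] at hCQ hCCQ hCI hCIset
  rw [← hZR] at hCI hCIset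
  obtain ⟨hT, -, hTset, -, -⟩ := cd_main _ cdm_le_maxCP (Q ⊓ R) (zOf Q) hI hCQ
  set T := (Q ⊓ R) ⊔ zOf Q with hTdef
  have hTQ : T ≤ Q := sup_le inf_le_left (zOf_le Q)
  have hCT : Subgroup.centralizer (T : Set G) ≤ T := by
    rw [hTdef, centralizer_sup_eq, hCI, hCCQ]
    intro y hy
    obtain ⟨hy1, hyQ⟩ := Subgroup.mem_inf.mp hy
    have hy1' : y ∈ ((zOf Q ⊔ zOf R : Subgroup G) : Set G) := hy1
    rw [hCIset] at hy1'
    obtain ⟨u, hu, v, hv, rfl⟩ := hy1'
    have huQ : u ∈ Q := zOf_le Q hu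
    have hvQ : v ∈ Q := by
      have : v = u⁻¹ * (u * v) := by group
      rw [this]
      exact Q.mul_mem (Q.inv_mem huQ) hyQ
    have hvR : v ∈ R := zOf_le R hv
    rw [sup_comm]
    exact Subgroup.mul_mem_sup hu (Subgroup.mem_inf.mpr ⟨hvQ, hvR⟩)
  have hTCL : Cfsg.IsCentrallyLarge T := (isCentrallyLarge_iff' T).mpr ⟨hT, hCT⟩
  have hTeq : T = Q := hQ.2 T hTQ hTCL
  refine ⟨hTeq, ?_⟩
  rw [← hTset, hTeq]

theorem zOf_commute {Q : Subgroup G} {z a : G} (hz : z ∈ zOf Q) (ha : a ∈ Q) : a * z = z * a :=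
  (Subgroup.mem_inf.mp hz).2 a ha

theorem mcl_commutator [Finite G] (Q R : Subgroup G) (hQ : Cfsg.IsMinimalCentrallyLarge Q)
    (hR : Cfsg.IsCentrallyLarge R) : ⁅Q, Q⁆ = ⁅Q ⊓ R, Q ⊓ R⁆ := by
  obtain ⟨-, hset⟩ := mcl_decomp Q R hQ hR
  apply le_antisymm
  · rw [Subgroup.commutator_le]
    intro g₁ hg₁ g₂ hg₂
    have h1 : g₁ ∈ (Q : Set G) := hg₁
    have h2 : g₂ ∈ (Q : Set G) := hg₂
    rw [hset] at h1 h2
    obtain ⟨a, ha, z, hz, rfl⟩ := h1
    obtain ⟨b, hb, w, hw, rfl⟩ := h2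
    have haQ : a ∈ Q := (Subgroup.mem_inf.mp ha).1
    have hbQ : b ∈ Q := (Subgroup.mem_inf.mp hb).1
    have hzQ : z ∈ Q := zOf_le Q hz
    have hwQ : w ∈ Q := zOf_le Q hw
    have e : ⁅a * z, b * w⁆ = ⁅a, b⁆ := by
      have c1 : Commute z a := (zOf_commute hz haQ).symm
      have c2 : Commute z b := (zOf_commute hz hbQ).symm
      have c3 : Commute w a := (zOf_commute hw haQ).symm
      have c4 : Commute w b := (zOf_commute hw hbQ).symm
      have c5 : Commute z w := (zOf_commute hz hwQ).symm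
      rw [commutatorElement_def, commutatorElement_def]
      calc a * z * (b * w) * (a * z)⁻¹ * (b * w)⁻¹
          = a * z * b * w * z⁻¹ * a⁻¹ * w⁻¹ * b⁻¹ := by group
        _ = a * (z * b) * w * z⁻¹ * a⁻¹ * w⁻¹ * b⁻¹ := by group
        _ = a * (b * z) * w * z⁻¹ * a⁻¹ * w⁻¹ * b⁻¹ := by rw [c2.eq]
        _ = a * b * (z * w) * z⁻¹ * a⁻¹ * w⁻¹ * b⁻¹ := by group
        _ = a * b * (w * z) * z⁻¹ * a⁻¹ * w⁻¹ * b⁻¹ := by rw [c5.eq]
        _ = a * b * (w * a⁻¹) * w⁻¹ * b⁻¹ := by group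
        _ = a * b * (a⁻¹ * w) * w⁻¹ * b⁻¹ := by rw [(c3.inv_right).eq]
        _ = a * b * a⁻¹ * b⁻¹ := by group
    rw [e]
    exact Subgroup.commutator_mem_commutator ha hb
  · exact Subgroup.commutator_mono inf_le_left inf_le_left

theorem mcl_zOf_inf [Finite G] (Q R : Subgroup G) (hQ : Cfsg.IsMinimalCentrallyLarge Q)
    (hR : Cfsg.IsMinimalCentrallyLarge R) : R ⊓ zOf Q = zOf Q ⊓ zOf R := by
  obtain ⟨-, hR2⟩ := (isCentrallyLarge_iff' R).mp hR.1
  have hZR : zOf R = Subgroup.centralizer (R : Set G) := zOf_eq_centralizer_of_le hR2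
  obtain ⟨hdec, -⟩ := mcl_decomp R Q hR hQ.1
  apply le_antisymm
  · intro y hy
    obtain ⟨hyR, hyZ⟩ := Subgroup.mem_inf.mp hy
    refine Subgroup.mem_inf.mpr ⟨hyZ, ?_⟩
    rw [hZR, ← hdec, centralizer_sup_eq]
    refine Subgroup.mem_inf.mpr ⟨?_, ?_⟩
    · have h1 : zOf Q ≤ Subgroup.centralizer (Q : Set G) := zOf_le_centralizer Q
      have h2 : Subgroup.centralizer (Q : Set G) ≤
          Subgroup.centralizer ((R ⊓ Q : Subgroup G) : Set G) :=
        Subgroup.centralizer_le (by exact_mod_cast (inf_le_right : R ⊓ Q ≤ Q))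
      exact h2 (h1 hyZ)
    · have h1 : zOf R ≤ Subgroup.centralizer (R : Set G) := zOf_le_centralizer R
      have h2 : R ≤ Subgroup.centralizer ((zOf R : Subgroup G) : Set G) :=
        Subgroup.le_centralizer_iff.mp h1
      exact h2 hyR
  · exact le_inf (inf_le_right.trans (zOf_le R)) inf_le_left

theorem mcl_card [Finite G] (Q R : Subgroup G) (hQ : Cfsg.IsMinimalCentrallyLarge Q)
    (hR : Cfsg.IsMinimalCentrallyLarge R) :
    Nat.card Q = Nat.card R ∧ Nat.card ↥(zOf Q) = Nat.card ↥(zOf R) := by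
  obtain ⟨-, hQset⟩ := mcl_decomp Q R hQ hR.1
  obtain ⟨-, hRset⟩ := mcl_decomp R Q hR hQ.1
  have h1 := card_mul_set_mul_card_inf (Q ⊓ R) (zOf Q)
  have h2 := card_mul_set_mul_card_inf (R ⊓ Q) (zOf R)
  rw [← hQset] at h1
  rw [← hRset] at h2
  have e1 : (Q ⊓ R) ⊓ zOf Q = zOf Q ⊓ zOf R := by
    rw [← mcl_zOf_inf Q R hQ hR, inf_comm Q R, inf_assoc, inf_eq_right.mpr (zOf_le Q)]
  have e2 : (R ⊓ Q) ⊓ zOf R = zOf Q ⊓ zOf R := by
    rw [inf_comm (zOf Q) (zOf R), ← mcl_zOf_inf R Q hR hQ, inf_comm R Q, inf_assoc,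
      inf_eq_right.mpr (zOf_le R)]
  rw [e1] at h1
  rw [e2, inf_comm R Q] at h2
  have hM1 : clm Q = Cfsg.maxCentralProduct G := (isCentrallyLarge_iff Q).mp hQ.1
  have hM2 : clm R = Cfsg.maxCentralProduct G := (isCentrallyLarge_iff R).mp hR.1
  unfold clm at hM1 hM2
  have hqcard : Nat.card ↥(Q : Set G) = Nat.card Q := rfl
  have hrcard : Nat.card ↥(R : Set G) = Nat.card R := rfl
  rw [hqcard] at h1
  rw [hrcard] at h2
  set q := Nat.card Q
  set r := Nat.card R
  set zq := Nat.card ↥(zOf Q)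
  set zr := Nat.card ↥(zOf R)
  set i := Nat.card ↥(Q ⊓ R)
  set k := Nat.card ↥(zOf Q ⊓ zOf R)
  have hk : 0 < k := Nat.card_pos
  have hzq : 0 < zq := Nat.card_pos
  have hzr : 0 < zr := Nat.card_pos
  have hq : 0 < q := Nat.card_pos
  have hr : 0 < r := Nat.card_pos
  -- h1 : q * k = i * zq ; h2 : r * k = i * zr ; q * zq = r * zr
  have h3 : q * zq = r * zr := hM1.trans hM2.symm
  have h4 : q * zr = r * zq := by
    have : k * (q * zr) = k * (r * zq) := by
      calc k * (q * zr) = (q * k) * zr := by ring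
        _ = (i * zq) * zr := by rw [h1]
        _ = (i * zr) * zq := by ring
        _ = (r * k) * zq := by rw [h2]
        _ = k * (r * zq) := by ring
    exact Nat.eq_of_mul_eq_mul_left hk this
  have h5 : q * q = r * r := by
    have : (zq * zr) * (q * q) = (zq * zr) * (r * r) := by
      calc (zq * zr) * (q * q) = (q * zq) * (q * zr) := by ring
        _ = (r * zr) * (r * zq) := by rw [h3, h4]
        _ = (zq * zr) * (r * r) := by ring
    exact Nat.eq_of_mul_eq_mul_left (Nat.mul_pos hzq hzr) this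
  have h6 : q = r := Nat.mul_self_inj.mp h5
  refine ⟨h6, ?_⟩
  rw [h6] at h3
  exact Nat.eq_of_mul_eq_mul_left hr h3

theorem zOf_eq_self_of_abelian {X : Subgroup G} (hX : X ≤ Subgroup.centralizer (X : Set G)) :
    zOf X = X := inf_eq_left.mpr hX

theorem clm_of_abelian {X : Subgroup G} (hX : X ≤ Subgroup.centralizer (X : Set G)) :
    clm X = Nat.card X * Nat.card X := by
  unfold clm; rw [zOf_eq_self_of_abelian hX]

/-- if some minimal centrally large subgroup is abelian, the minimal centrally large subgroups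
are exactly the abelian subgroups of largest order -/
theorem mcl_iff_maxAbelian [Finite G] (Q : Subgroup G) (hQ : Cfsg.IsMinimalCentrallyLarge Q)
    (hQab : IsMulCommutative ↥Q) (X : Subgroup G) :
    Cfsg.IsMinimalCentrallyLarge X ↔ X ∈ Cfsg.maxAbelianSubgroups G := by
  have hQc : Q ≤ Subgroup.centralizer (Q : Set G) := (isMulCommutative_iff_le_centralizer Q).mp hQab
  have hF : Nat.card Q * Nat.card Q = Cfsg.maxCentralProduct G := by
    rw [← clm_of_abelian hQc]; exact (isCentrallyLarge_iff Q).mp hQ.1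
  constructor
  · intro hX
    have hcomm : ⁅X, X⁆ = ⊥ := by
      rw [mcl_commutator X Q hX hQ.1, inf_comm, ← mcl_commutator Q X hQ hX.1]
      exact Subgroup.commutator_eq_bot_iff_le_centralizer.mpr hQc
    have hXc : X ≤ Subgroup.centralizer (X : Set G) :=
      Subgroup.commutator_eq_bot_iff_le_centralizer.mp hcomm
    have hcard : Nat.card X = Nat.card Q := (mcl_card X Q hX hQ).1
    refine ⟨(isMulCommutative_iff_le_centralizer X).mpr hXc, ?_⟩
    intro B hB
    have hBc := (isMulCommutative_iff_le_centralizer B).mp hB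
    have h1 : Nat.card B * Nat.card B ≤ Nat.card Q * Nat.card Q := by
      rw [hF, ← clm_of_abelian hBc]; exact clm_le_maxCLP B
    rw [hcard]
    exact Nat.mul_self_le_mul_self_iff.mp h1
  · intro hX
    have hXc : X ≤ Subgroup.centralizer (X : Set G) := maxAbelian_le_centralizer hX
    have h1 : Nat.card Q ≤ Nat.card X := hX.2 Q hQab
    have h2 : Nat.card X * Nat.card X ≤ Nat.card Q * Nat.card Q := by
      rw [hF, ← clm_of_abelian hXc]; exact clm_le_maxCLP X
    have h3 : Nat.card X = Nat.card Q := le_antisymm (Nat.mul_self_le_mul_self_iff.mp h2) h1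
    have hXCL : Cfsg.IsCentrallyLarge X := by
      rw [isCentrallyLarge_iff, clm_of_abelian hXc, h3, hF]
    refine ⟨hXCL, ?_⟩
    intro X' hX'X hX'
    have hX'c : X' ≤ Subgroup.centralizer (X' : Set G) :=
      hX'X.trans (hXc.trans (Subgroup.centralizer_le (by exact_mod_cast hX'X)))
    have h4 : Nat.card X' * Nat.card X' = Nat.card X * Nat.card X := by
      rw [← clm_of_abelian hX'c, (isCentrallyLarge_iff X').mp hX', h3, hF]
    have h5 : Nat.card X' = Nat.card X := Nat.mul_self_inj.mp h4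
    exact Subgroup.eq_of_le_of_card_ge hX'X (le_of_eq h5.symm)

end Cfsg.Agent.Lib.Helper57
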