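import Cfsg.Agent.Lib.Helper69.OPbDefs
import Cfsg.Agent.Lib.Helper23.OhD
import Cfsg.Agent.Lib.Helper34.OsT
import Cfsg.Agent.Lib.Helper50.DiagPlus
import Cfsg.Agent.Lib.Helper50.GeoBridge

/-!
# K-OPb-18 (keystone 598918): the concrete semisimple derangement in `Ω⁺_(2d)(q)`

`case_derangement_of` is LEAF 18 of `notes/S5989_keystones.lean.txt` with LEAVES 9, 11, 13 taken as
hypotheses `H9`, `H11`, `H13` (their exact spec statements, for the given field `F`).
-/

set_option autoImplicit false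
set_option linter.unusedVariables false

namespace Cfsg.Agent.Lib.Helper57.OPb

open Module Cfsg.Agent.Lib.Helper98.Elus Cfsg.Agent.Lib.Helper98.Sy Cfsg.Agent.Lib.Helper98.Oh
  Cfsg.Agent.Lib.Helper69.OPb

universe u
variable {F : Type u} [Field F]

/-- a scalar isometry of odd order of a nonzero nondegenerate symmetric space is trivial -/
theorem not_scalar_of_iso {V : Type u} [AddCommGroup V] [Module F V]
    (B : LinearMap.BilinForm F V) (hnd : NonDeg B ⊤) (hV : ∃ v : V, v ≠ 0) (r : ℕ) (hr : Odd r)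
    (u : V →ₗ[F] V) (hiso : Iso B u) (hu : u ^ r = 1) (hu1 : u ≠ 1) : ∀ z : F, u ≠ z • 1 := by
  intro z hz
  obtain ⟨v, hv⟩ := hV
  have hw : ∃ w, B v w ≠ 0 := by
    by_contra hcon
    apply hv
    apply hnd v Submodule.mem_top
    intro w _
    by_contra h
    exact hcon ⟨w, h⟩
  obtain ⟨w, hw⟩ := hw
  have h1 := hiso v w
  rw [hz, LinearMap.smul_apply, LinearMap.smul_apply, Module.End.one_apply,
    Module.End.one_apply] at h1
  simp only [map_smul, LinearMap.smul_apply, smul_eq_mul] at h1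
  have hz2 : z * z = 1 := by
    have h2 : (z * z - 1) * B v w = 0 := by linear_combination h1
    rcases mul_eq_zero.mp h2 with h | h
    · exact sub_eq_zero.mp h
    · exact absurd h hw
  have hzr : z ^ r = 1 := by
    have h3 : (z • (1 : V →ₗ[F] V)) ^ r = (z ^ r) • (1 : V →ₗ[F] V) := by
      rw [smul_pow, one_pow]
    rw [hz, h3] at hu
    have h4 := congrArg (fun g : V →ₗ[F] V => g v) hu
    simp only [LinearMap.smul_apply, Module.End.one_apply] at h4
    have h5 : (z ^ r - 1) • v = 0 := by rw [sub_smul, one_smul, h4, sub_self]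
    rcases smul_eq_zero.mp h5 with h | h
    · exact sub_eq_zero.mp h
    · exact absurd h hv
  obtain ⟨k, hk⟩ := hr
  have hz1 : z = 1 := by
    have : z ^ r = z := by
      rw [hk, pow_succ, pow_mul, sq, hz2, one_pow, one_mul]
    rw [← this, hzr]
  apply hu1
  rw [hz, hz1, one_smul]

/-- the standard maximal totally singular subspace of the plus form -/
theorem exists_ts_QPlus' (d : ℕ) :
    ∃ X : Submodule F (Fin d ⊕ Fin d → F),
      (∀ x ∈ X, QuadraticMap.polarBilin (Cfsg.Agent.Lib.Helper50.QPlus d F) x x = 0) ∧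
        finrank F X = d := by
  classical
  let φ : (Fin d ⊕ Fin d → F) →ₗ[F] (Fin d → F) := LinearMap.funLeft F F Sum.inr
  have hφs : Function.Surjective φ := LinearMap.funLeft_surjective_of_injective F F _ Sum.inr_injective
  refine ⟨LinearMap.ker φ, ?_, ?_⟩
  · intro x hx
    have hx0 : ∀ i : Fin d, x (Sum.inr i) = 0 := by
      intro i
      have := congrFun (LinearMap.mem_ker.mp hx) i
      exact this
    have hQ : Cfsg.Agent.Lib.Helper50.QPlus d F x = 0 := by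
      show Cfsg.quadFormPlus d F x = 0
      unfold Cfsg.quadFormPlus
      apply Finset.sum_eq_zero
      intro i _
      rw [hx0 i, mul_zero]
    rw [QuadraticMap.polarBilin_apply_apply, QuadraticMap.polar_self, hQ, smul_zero]
  · have h1 := LinearMap.finrank_range_add_finrank_ker φ
    rw [LinearMap.range_eq_top.mpr hφs, finrank_top, Module.finrank_fin_fun, Module.finrank_pi,
      Fintype.card_sum, Fintype.card_fin] at h1
    omega

section core

variable [Fintype F]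

/-- the transport step: an isometry `u` of order `r` on a plus space with `dim V0 < m % c` gives the
derangement in `Ω⁺`. -/
theorem core_derangement (h2 : (2 : F) ≠ 0) (p f : ℕ) [Fact p.Prime]
    (hF : Fintype.card F = p ^ f) (r : ℕ) [Fact r.Prime] (hpr : p ≠ r) (hr2 : r ≠ 2)
    (hrF : (r : F) ≠ 0)
    (H13 : ∀ {V : Type u} [AddCommGroup V] [Module F V] (h2 : (2 : F) ≠ 0) [FiniteDimensional F V]
      (B : LinearMap.BilinForm F V) (hS : ∀ a b, B a b = B b a) (hV : NonDeg B ⊤)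
      (p f : ℕ) [Fact p.Prime] (hF : Fintype.card F = p ^ f)
      (r : ℕ) [Fact r.Prime] (hpr : p ≠ r) (hr2 : r ≠ 2) (hrF : (r : F) ≠ 0) (y : V →ₗ[F] V)
      (hy : y ^ r = 1) (hiso : Iso B y)
      (W : Submodule F V) (hW : Inv y W) (hWnd : NonDeg B W),
      finrank F W % cOf (orderOf ((Fintype.card F : ℕ) : ZMod r)) ≤ finrank F (V0 y))
    (d m : ℕ) (hd : 1 ≤ d)
    {V : Type u} [AddCommGroup V] [Module F V] [FiniteDimensional F V]
    (B : LinearMap.BilinForm F V) (hS : ∀ a b, B a b = B b a) (hnd : NonDeg B ⊤)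
    (hV : finrank F V = 2 * d) (X : Submodule F V) (hX : ∀ x ∈ X, B x x = 0)
    (hXd : finrank F X = d) (y : V →ₗ[F] V) (hiso : Iso B y) (hy : y ^ r = 1) (hy1 : y ≠ 1)
    (hlt : finrank F (V0 y) < m % cOf (orderOf ((Fintype.card F : ℕ) : ZMod r))) :
    ∃ x : GL (Fin d ⊕ Fin d) F, x ∈ Cfsg.Geo.omegaGL (Cfsg.quadFormPlus d F) ∧
      ((x ^ r : GL (Fin d ⊕ Fin d) F) : Matrix (Fin d ⊕ Fin d) (Fin d ⊕ Fin d) F) =
        (1 : F) • (1 : Matrix (Fin d ⊕ Fin d) (Fin d ⊕ Fin d) F) ∧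
      (∀ z : F, (x : Matrix (Fin d ⊕ Fin d) (Fin d ⊕ Fin d) F) ≠
        z • (1 : Matrix (Fin d ⊕ Fin d) (Fin d ⊕ Fin d) F)) ∧
      ∀ W : Submodule F (Fin d ⊕ Fin d → F), Module.finrank F ↥W = m →
        Cfsg.Geo.IsNondegenerateOn (QuadraticMap.polar (Cfsg.quadFormPlus d F)) W →
        ¬ W.map (Matrix.toLin' (x : Matrix (Fin d ⊕ Fin d) (Fin d ⊕ Fin d) F)) ≤ W := by
  classical
  have hr : r.Prime := Fact.out
  have hrodd : Odd r := hr.odd_of_ne_two hr2
  have hVne : ∃ v : V, v ≠ 0 := by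
    have : 0 < finrank F V := by rw [hV]; omega
    obtain ⟨v, hv⟩ := Module.finrank_pos_iff_exists_ne_zero.mp this
    exact ⟨v, hv⟩
  have hns := not_scalar_of_iso B hnd hVne r hrodd y hiso hy hy1
  obtain ⟨x, hxΩ, hxp, hxns, E, hE1, hE2⟩ := Cfsg.Agent.Lib.Helper34.Os.transport_plus h2 r hrodd d B
    hS hnd hV X hX hXd y hiso hy hns
  refine ⟨x, hxΩ, hxp, hxns, ?_⟩
  intro W hWd hWnd hWinv
  have hW'inv : Inv y (W.map (E : (Fin d ⊕ Fin d → F) →ₗ[F] V)) := by
    rintro _ ⟨w, hw, rfl⟩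
    show y (E w) ∈ _
    rw [← hE1]
    exact ⟨_, hWinv ⟨w, hw, rfl⟩, rfl⟩
  have hW'nd : NonDeg B (W.map (E : (Fin d ⊕ Fin d → F) →ₗ[F] V)) := by
    rintro _ ⟨w, hw, rfl⟩ h
    by_contra hne
    have hw0 : w ≠ 0 := by
      rintro rfl
      exact hne (by simp)
    obtain ⟨-, ⟨v, hv, hv'⟩⟩ := hWnd w hw hw0
    apply hv'
    rw [← hE2]
    exact h _ ⟨v, hv, rfl⟩
  have hW'd : finrank F (W.map (E : (Fin d ⊕ Fin d → F) →ₗ[F] V)) = m := by
    rw [LinearEquiv.finrank_map_eq]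
    exact hWd
  have h13 := H13 h2 B hS hnd p f hF r hpr hr2 hrF y hy hiso _ hW'inv hW'nd
  rw [hW'd] at h13
  omega

/-- LEAF 18 with LEAVES 9, 11, 13 as hypotheses. -/
theorem case_derangement_of
    (H9 : ∀ {V : Type u} [AddCommGroup V] [Module F V] (h2 : (2 : F) ≠ 0) [FiniteDimensional F V]
      (B : LinearMap.BilinForm F V) (hS : ∀ a b, B a b = B b a) (hV : NonDeg B ⊤)
      (p f : ℕ) [Fact p.Prime] (hF : Fintype.card F = p ^ f)
      (r : ℕ) [Fact r.Prime] (hpr : p ≠ r) (hr2 : r ≠ 2) (hrF : (r : F) ≠ 0) (y : V →ₗ[F] V)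
      (hy : y ^ r = 1) (hiso : Iso B y)
      (U : Submodule F V) (hUV1 : U ≤ V1 r y) (hU : Inv y U) (hUnd : NonDeg B U),
      ∃ T : ℕ, finrank F U = T * cOf (orderOf ((Fintype.card F : ℕ) : ZMod r)) ∧
        (Plus B U ↔ (Odd (orderOf ((Fintype.card F : ℕ) : ZMod r)) ∨ Even T)) ∧
        ∀ s : ℕ, s ≤ T → ∃ W : Submodule F V, W ≤ U ∧ Inv y W ∧ NonDeg B W ∧
          finrank F W = s * cOf (orderOf ((Fintype.card F : ℕ) : ZMod r)))
    (H11 : ∀ {V : Type u} [AddCommGroup V] [Module F V] (h2 : (2 : F) ≠ 0) [FiniteDimensional F V]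
      (B : LinearMap.BilinForm F V) (hS : ∀ a b, B a b = B b a) (hV : NonDeg B ⊤)
      (p f : ℕ) [Fact p.Prime] (hF : Fintype.card F = p ^ f)
      (r : ℕ) [Fact r.Prime] (hpr : p ≠ r) (hr2 : r ≠ 2) (hrF : (r : F) ≠ 0)
      (N k : ℕ) (hN : 1 ≤ N) (hk : 0 < k)
      (hdim : finrank F V = N * cOf (orderOf ((Fintype.card F : ℕ) : ZMod r)) + k),
      ∃ y : V →ₗ[F] V, Iso B y ∧ y ^ r = 1 ∧ y ≠ 1 ∧ finrank F (V0 y) = k)
    (H13 : ∀ {V : Type u} [AddCommGroup V] [Module F V] (h2 : (2 : F) ≠ 0) [FiniteDimensional F V]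
      (B : LinearMap.BilinForm F V) (hS : ∀ a b, B a b = B b a) (hV : NonDeg B ⊤)
      (p f : ℕ) [Fact p.Prime] (hF : Fintype.card F = p ^ f)
      (r : ℕ) [Fact r.Prime] (hpr : p ≠ r) (hr2 : r ≠ 2) (hrF : (r : F) ≠ 0) (y : V →ₗ[F] V)
      (hy : y ^ r = 1) (hiso : Iso B y)
      (W : Submodule F V) (hW : Inv y W) (hWnd : NonDeg B W),
      finrank F W % cOf (orderOf ((Fintype.card F : ℕ) : ZMod r)) ≤ finrank F (V0 y))
    {p : ℕ} [Fact p.Prime] [CharP F p] (hodd : Odd (Fintype.card F))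
    (d m : ℕ) (hd : 1 ≤ d) (r : ℕ) [Fact r.Prime] (hrp : r ≠ p) (hr2 : 2 < r)
    (hN : cOf (orderOf ((Fintype.card F : ℕ) : ZMod r)) ≤ 2 * d)
    (hreal : 0 < (2 * d) % cOf (orderOf ((Fintype.card F : ℕ) : ZMod r)) ∨
      Odd (orderOf ((Fintype.card F : ℕ) : ZMod r)) ∨
      Even ((2 * d) / cOf (orderOf ((Fintype.card F : ℕ) : ZMod r))))
    (hlt : (2 * d) % cOf (orderOf ((Fintype.card F : ℕ) : ZMod r)) <
      m % cOf (orderOf ((Fintype.card F : ℕ) : ZMod r))) :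
    ∃ x : GL (Fin d ⊕ Fin d) F, x ∈ Cfsg.Geo.omegaGL (Cfsg.quadFormPlus d F) ∧
      ((x ^ r : GL (Fin d ⊕ Fin d) F) : Matrix (Fin d ⊕ Fin d) (Fin d ⊕ Fin d) F) =
        (1 : F) • (1 : Matrix (Fin d ⊕ Fin d) (Fin d ⊕ Fin d) F) ∧
      (∀ z : F, (x : Matrix (Fin d ⊕ Fin d) (Fin d ⊕ Fin d) F) ≠
        z • (1 : Matrix (Fin d ⊕ Fin d) (Fin d ⊕ Fin d) F)) ∧
      ∀ W : Submodule F (Fin d ⊕ Fin d → F), Module.finrank F ↥W = m →
        Cfsg.Geo.IsNondegenerateOn (QuadraticMap.polar (Cfsg.quadFormPlus d F)) W →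
        ¬ W.map (Matrix.toLin' (x : Matrix (Fin d ⊕ Fin d) (Fin d ⊕ Fin d) F)) ≤ W := by
  classical
  have hr : r.Prime := Fact.out
  have hp : p.Prime := Fact.out
  have hr2' : r ≠ 2 := by omega
  have h2 : (2 : F) ≠ 0 := Cfsg.Agent.Lib.Helper50.two_ne_zero_of_odd_card rfl hodd
  obtain ⟨f', _, hqf⟩ := FiniteField.card F p
  have hF : Fintype.card F = p ^ (f' : ℕ) := hqf
  have hpr : p ≠ r := fun h => hrp h.symm
  have hrF : (r : F) ≠ 0 := by
    intro h0
    rw [CharP.cast_eq_zero_iff F p] at h0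
    exact hrp ((Nat.prime_dvd_prime_iff_eq hp hr).mp h0).symm
  set c := cOf (orderOf ((Fintype.card F : ℕ) : ZMod r)) with hc
  have hcpos : 0 < c := by
    have h1 : 0 < orderOf ((Fintype.card F : ℕ) : ZMod r) := by
      apply orderOf_pos_iff.mpr
      apply isOfFinOrder_iff_pow_eq_one.mpr
      have hq0 : ((Fintype.card F : ℕ) : ZMod r) ≠ 0 := by
        intro h
        rw [ZMod.natCast_eq_zero_iff, hF] at h
        exact hrp ((Nat.prime_dvd_prime_iff_eq hr hp).mp (hr.dvd_of_dvd_pow h))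
      exact ⟨r - 1, by have := hr.two_le; omega, ZMod.pow_card_sub_one_eq_one hq0⟩
    rw [hc]
    unfold cOf
    split_ifs <;> omega
  have hdecomp : 2 * d = (2 * d) / c * c + (2 * d) % c := (Nat.div_add_mod' (2 * d) c).symm
  have hN1 : 1 ≤ (2 * d) / c := Nat.div_pos hN hcpos
  rcases Nat.eq_zero_or_pos ((2 * d) % c) with hk0 | hkpos
  · -- `k = 0`: the model
    obtain ⟨V, iV1, iV2, iV3, B, y, hS, hnd, hiso, hy, hy1, hdim, hV0⟩ :=
      Cfsg.Agent.Lib.Helper23.Oh.exists_model_symm (F := F) h2 p (f' : ℕ) hF r hpr hr2' hrF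
        ((2 * d) / c) 0 hN1
    rw [add_zero] at hdim
    have hV : finrank F V = 2 * d := by
      rw [hdim]
      rw [hk0, add_zero] at hdecomp
      exact hdecomp.symm
    have hV0bot : V0 y = ⊥ := Submodule.finrank_eq_zero.mp hV0
    have hV1top : V1 r y = ⊤ := by
      have := V0_sup_V1 r hrF y hy
      rwa [hV0bot, bot_sup_eq] at this
    obtain ⟨T, hT1, hT2, -⟩ := H9 h2 B hS hnd p (f' : ℕ) hF r hpr hr2' hrF y hy hiso ⊤
      (by rw [hV1top]) (fun v _ => Submodule.mem_top) hnd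
    have hTN : T = (2 * d) / c := by
      rw [finrank_top, hdim] at hT1
      exact (Nat.eq_of_mul_eq_mul_right hcpos hT1).symm
    have hplus : Plus B ⊤ := by
      apply hT2.mpr
      rcases hreal with h | h | h
      · omega
      · exact Or.inl h
      · right; rw [hTN]; exact h
    obtain ⟨X, -, hX, hXd⟩ := hplus
    rw [finrank_top, hV] at hXd
    have hXd' : finrank F X = d := by omega
    exact core_derangement h2 p (f' : ℕ) hF r hpr hr2' hrF H13 d m hd B hS hnd hV X hX hXd' y hiso hy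
      hy1 (by rw [hV0, ← hk0]; exact hlt)
  · -- `k > 0`: LEAF 11 on the standard space
    have hS : ∀ a b, QuadraticMap.polarBilin (Cfsg.Agent.Lib.Helper50.QPlus d F) a b =
        QuadraticMap.polarBilin (Cfsg.Agent.Lib.Helper50.QPlus d F) b a := by
      intro a b
      rw [QuadraticMap.polarBilin_apply_apply, QuadraticMap.polarBilin_apply_apply,
        QuadraticMap.polar_comm]
    have hnd : NonDeg (QuadraticMap.polarBilin (Cfsg.Agent.Lib.Helper50.QPlus d F)) ⊤ := by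
      intro v _ hv
      exact (Cfsg.Agent.Lib.Helper50.QPlus_nondegenerate (m := d) (F := F)).1 v
        (fun w => hv w Submodule.mem_top)
    have hV : finrank F (Fin d ⊕ Fin d → F) = 2 * d := by
      rw [Module.finrank_pi, Fintype.card_sum, Fintype.card_fin]
      omega
    obtain ⟨y, hiso, hy, hy1, hV0⟩ := H11 h2
      (QuadraticMap.polarBilin (Cfsg.Agent.Lib.Helper50.QPlus d F)) hS hnd p (f' : ℕ) hF r hpr hr2' hrF
      ((2 * d) / c) ((2 * d) % c) hN1 hkpos (by rw [hV]; exact hdecomp)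
    obtain ⟨X, hX, hXd⟩ := exists_ts_QPlus' (F := F) d
    exact core_derangement h2 p (f' : ℕ) hF r hpr hr2' hrF H13 d m hd _ hS hnd hV X hX hXd y hiso hy
      hy1 (by rw [hV0]; exact hlt)

end core

end Cfsg.Agent.Lib.Helper57.OPb
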