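import Mathlib
import Cfsg.Agent.Lib.Helper29.PCompUnique
import Cfsg.Agent.Lib.Helper29.Quasisimple

/-!
# K-S1305-K1: a quasisimple group of even order has no proper normal subgroup of odd index
-/

set_option autoImplicit false

namespace Cfsg.Agent.Lib.Helper57.S1305K

open Cfsg

/-- **K1**. -/
theorem nci_of_quasisimple {K : Type*} [Group K] [Finite K] (hq : IsQuasisimple K) (heven : 2 ∣ Nat.card K) :
    Cfsg.Agent.Lib.Helper29.NoCoprimeIndexNormal 2 K := by
  intro N hN hidx
  have hfact : Fact (Nat.Prime 2) := ⟨Nat.prime_two⟩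
  rcases Cfsg.Agent.Lib.Helper29.qs_normal_le_center_or_eq_top hq N with hNZ | h
  swap
  · exact h
  exfalso
  have hZidx : (Subgroup.center K).index.Coprime 2 :=
    Nat.Coprime.coprime_dvd_left (Subgroup.index_dvd_of_le hNZ) hidx
  obtain ⟨S⟩ : Nonempty (Sylow 2 K) := inferInstance
  have hSZ : (S : Subgroup K) ≤ Subgroup.center K := by
    intro x hx
    obtain ⟨k, hk⟩ := S.2 ⟨x, hx⟩
    have hxk : x ^ 2 ^ k = 1 := by
      have := congrArg Subtype.val hk
      simpa using this
    have h1 : orderOf (QuotientGroup.mk' (Subgroup.center K) x) ∣ 2 ^ k := by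
      apply orderOf_dvd_of_pow_eq_one
      rw [← map_pow, hxk, map_one]
    have h2 : orderOf (QuotientGroup.mk' (Subgroup.center K) x) ∣ (Subgroup.center K).index := by
      rw [Subgroup.index_eq_card]
      exact orderOf_dvd_natCard _
    have h3 : orderOf (QuotientGroup.mk' (Subgroup.center K) x) = 1 :=
      Nat.eq_one_of_dvd_coprimes (Nat.Coprime.pow_left k hZidx.symm) h1 h2
    rw [orderOf_eq_one_iff] at h3
    exact (QuotientGroup.eq_one_iff x).mp h3
  have hP : Subgroup.normalizer ((S : Subgroup K) : Set K) ≤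
      Subgroup.centralizer ((S : Subgroup K) : Set K) := by
    intro g _
    rw [Subgroup.mem_centralizer_iff]
    intro s hs
    exact (Subgroup.mem_center_iff.mp (hSZ hs) g).symm
  have hker : (MonoidHom.transferSylow S hP).ker = ⊤ := by
    rw [eq_top_iff, ← Cfsg.Agent.Lib.Helper29.qs_perfect hq, commutator_def, Subgroup.commutator_le]
    intro a _ b _
    rw [MonoidHom.mem_ker, commutatorElement_def, map_mul, map_mul, map_mul, map_inv, map_inv]
    have hc : ∀ u v : ↥(S : Subgroup K), u * v = v * u := by
      intro u v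
      apply Subtype.ext
      exact (Subgroup.mem_center_iff.mp (hSZ u.2) v).symm
    rw [hc (MonoidHom.transferSylow S hP a) (MonoidHom.transferSylow S hP b)]
    group
  have hcompl := MonoidHom.ker_transferSylow_isComplement' S hP
  have hcard := hcompl.card_mul_card
  rw [hker, Subgroup.card_top] at hcard
  have hpos : 0 < Nat.card K := Nat.card_pos
  have hS1 : Nat.card (S : Subgroup K) = 1 := by
    have : Nat.card K * Nat.card (S : Subgroup K) = Nat.card K * 1 := by rw [hcard, mul_one]
    exact Nat.eq_of_mul_eq_mul_left hpos this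
  have h2S : 2 ∣ Nat.card (S : Subgroup K) := S.dvd_card_of_dvd_card heven
  rw [hS1] at h2S
  norm_num at h2S

end Cfsg.Agent.Lib.Helper57.S1305K
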