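import Mathlib
import Cfsg.Prelude.Def_JordanBlocks
import Cfsg.Agent.Lib.Helper73.UCDefs
import Cfsg.Agent.Lib.Helper73.SPCDefs

set_option autoImplicit false

/-!
# K-SPC LEAF C3b (keystone 267612, architect helper73): `topC` is block diagonal for the block sizes
-/

namespace Cfsg.Agent.Lib.Helper57.SPC

open Matrix Cfsg.Agent.Lib.Helper73.UC Cfsg.Agent.Lib.Helper73.SPC

variable {F : Type*} [Field F]

/-- LEAF C3b. `topC` is block diagonal for the block sizes. -/
theorem isUnit_det_topC_iff {t : ℕ} (d : Fin t → ℕ) (hd : ∀ k, 1 ≤ d k) (c : CIdx d → F) :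
    IsUnit (topC d hd c).det ↔ ∀ i : ℕ, IsUnit (topBlock d hd c i).det := by
  classical
  have hBT : (topC d hd c).BlockTriangular d := by
    intro l k hlk
    simp only [topC, Matrix.of_apply]
    rw [dif_neg]
    intro h
    omega
  have hblock : ∀ i : ℕ, (topC d hd c).toSquareBlock d i = topBlock d hd c i := fun i => rfl
  rw [hBT.det, IsUnit.prod_iff]
  constructor
  · intro h i
    by_cases hi : i ∈ Finset.univ.image d
    · rw [← hblock]
      exact h i hi
    · have hemp : IsEmpty {k : Fin t // d k = i} :=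
        ⟨fun k => hi (Finset.mem_image.mpr ⟨k.1, Finset.mem_univ _, k.2⟩)⟩
      rw [Matrix.det_isEmpty]
      exact isUnit_one
  · intro h i _
    rw [hblock]
    exact h i

end Cfsg.Agent.Lib.Helper57.SPC
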