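import Mathlib
import Cfsg.Prelude.Def_GeometricClasses
import Cfsg.Agent.Lib.Helper84.AschUA2a
import Cfsg.Agent.Lib.Helper99.FieldSub

/-!
# K-SU6-K1a: an isotropic vector for the `K`-hermitian form (`|F| = 4`, `K = F_64` inside `M_6(F)`)
-/

set_option autoImplicit false

namespace Cfsg.Agent.Lib.Helper57.SU6K

open Cfsg Cfsg.Geo
open Cfsg.Agent.Lib.Helper84.AschU (adj)
open scoped Matrix MatrixGroups

section RealForm

/-- real forms: a semilinear involution on a finite `F_4`-space has `|W| = |Fix|^2` -/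
theorem card_sq_fixed {F : Type*} [Field F] {W : Type*} [AddCommGroup W] [Module F W] [Finite W]
    (ω : F) (hω : ω ^ 2 + ω + 1 = 0) (h2 : (2 : F) = 0) (τ : W → W)
    (hτadd : ∀ a b, τ (a + b) = τ a + τ b) (hτsmul : ∀ (c : F) (a : W), τ (c • a) = c ^ 2 • τ a)
    (hττ : ∀ a, τ (τ a) = a) :
    Nat.card W = Nat.card {w : W // τ w = w} ^ 2 := by
  have hω3 : ω ^ 4 = ω := by linear_combination (ω ^ 2 - ω) * hω
  have hne : ω - ω ^ 2 ≠ 0 := by
    intro h
    have : (1 : F) = 0 := by linear_combination hω + h - ω * h2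
    exact one_ne_zero this
  have hsub : ∀ a b : W, τ (a - b) = τ a - τ b := by
    intro a b
    have := hτadd (a - b) b
    rw [sub_add_cancel] at this
    rw [this, add_sub_cancel_right]
  have hbij : Function.Bijective
      (fun p : {w : W // τ w = w} × {w : W // τ w = w} => (p.1 : W) + ω • (p.2 : W)) := by
    constructor
    · rintro ⟨⟨a, ha⟩, ⟨b, hb⟩⟩ ⟨⟨a', ha'⟩, ⟨b', hb'⟩⟩ h
      simp only at h
      have h1 : a - a' = ω • (b' - b) := by
        rw [smul_sub, sub_eq_sub_iff_add_eq_add]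
        rw [h, add_comm]
      have h2' : a - a' = ω ^ 2 • (b' - b) := by
        have := congrArg τ h1
        rw [hsub, hτsmul, hsub, ha, ha', hb, hb'] at this
        exact this
      have h3 : (ω - ω ^ 2) • (b' - b) = 0 := by
        rw [sub_smul, ← h1, ← h2', sub_self]
      have h4 : b' - b = 0 := by
        rcases smul_eq_zero.mp h3 with h | h
        · exact absurd h hne
        · exact h
      have h5 : b' = b := sub_eq_zero.mp h4
      have h6 : a = a' := by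
        rw [h4, smul_zero] at h1
        exact sub_eq_zero.mp h1
      subst h5; subst h6
      rfl
    · intro w
      have hb : τ (w + τ w) = w + τ w := by
        rw [hτadd, hττ, add_comm]
      have ha : τ (ω ^ 2 • w + ω • τ w) = ω ^ 2 • w + ω • τ w := by
        rw [hτadd, hτsmul, hτsmul, hττ, ← pow_mul, hω3, add_comm]
      refine ⟨(⟨ω ^ 2 • w + ω • τ w, ha⟩, ⟨w + τ w, hb⟩), ?_⟩
      simp only
      have e1 : ω ^ 2 + ω = 1 := by linear_combination hω - h2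
      have e2 : ω + ω = 0 := by linear_combination ω * h2
      calc ω ^ 2 • w + ω • τ w + ω • (w + τ w)
          = (ω ^ 2 + ω) • w + (ω + ω) • τ w := by
            rw [smul_add, add_smul, add_smul]; abel
        _ = w := by rw [e1, e2, one_smul, zero_smul, add_zero]
  rw [← Nat.card_congr (Equiv.ofBijective _ hbij), Nat.card_prod, sq]

end RealForm

section Main

open Cfsg.Agent.Lib.Helper84.AschU Cfsg.Agent.Lib.Helper19

variable {F : Type*} [Field F] [Fintype F]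

/-- K-SU6-K1a -/
theorem exists_isotropic (hF : Fintype.card F = 2 ^ 2) (K : Subalgebra F (Matrix (Fin 6) (Fin 6) F))
    (hK : IsFieldSubalgebra 3 K) (hadj : IsAdjointClosedFor (hermForm 6 F 2) K) :
    ∃ u : Fin 6 → F, u ≠ 0 ∧ ∀ k ∈ K, hermForm 6 F 2 (k *ᵥ u) u = 0 := by
  classical
  -- field facts
  have hF4 : Fintype.card F = 4 := by rw [hF]; norm_num
  have h2 : (2 : F) = 0 := by
    have e2 := FiniteField.pow_card (2 : F)
    have e3 := FiniteField.pow_card (3 : F)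
    rw [hF4] at e2 e3
    linear_combination (-11 : F) * e2 + 2 * e3
  have hpow4 : ∀ x : F, x ^ 4 = x := fun x => by
    have := FiniteField.pow_card x
    rwa [hF4] at this
  have hsq_add : ∀ x y : F, (x + y) ^ 2 = x ^ 2 + y ^ 2 := fun x y => by
    linear_combination x * y * h2
  have hvadd : ∀ v : Fin 6 → F, v + v = 0 := by
    intro v
    funext i
    show v i + v i = 0
    linear_combination v i * h2
  obtain ⟨ω, hω⟩ : ∃ ω : F, ω ^ 2 + ω + 1 = 0 := by
    have hlt : ({0, 1} : Finset F).card < (Finset.univ : Finset F).card := by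
      rw [Finset.card_univ, hF4]
      exact lt_of_le_of_lt (Finset.card_le_two) (by norm_num)
    obtain ⟨x, _, hx⟩ := Finset.exists_mem_notMem_of_card_lt_card hlt
    simp only [Finset.mem_insert, Finset.mem_singleton, not_or] at hx
    refine ⟨x, ?_⟩
    have h4 := hpow4 x
    have h5 : x * ((x - 1) * (x ^ 2 + x + 1)) = 0 := by linear_combination h4
    rcases mul_eq_zero.mp h5 with h | h
    · exact absurd h hx.1
    · rcases mul_eq_zero.mp h with h | h
      · exact absurd (sub_eq_zero.mp h) hx.2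
      · exact h
  -- adjoint facts
  have hadjK : ∀ k ∈ K, adj hF k ∈ K := fun k hk => adj_mem_of_isAdjointClosedFor hF K hadj k hk
  have hadj_add : ∀ M N : Matrix (Fin 6) (Fin 6) F, adj hF (M + N) = adj hF M + adj hF N := by
    intro M N
    ext i j
    rw [Matrix.add_apply, adj_apply, adj_apply, adj_apply, Matrix.add_apply, hsq_add]
  have hadj_smul : ∀ (c : F) (M : Matrix (Fin 6) (Fin 6) F), adj hF (c • M) = c ^ 2 • adj hF M := by
    intro c M
    ext i j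
    rw [Matrix.smul_apply, adj_apply, adj_apply, Matrix.smul_apply, smul_eq_mul, smul_eq_mul, mul_pow]
  -- argue by contradiction
  by_contra hno
  have hani : ∀ u : Fin 6 → F, u ≠ 0 → ∃ k ∈ K, hermForm 6 F 2 (k *ᵥ u) u ≠ 0 := by
    intro u hu
    by_contra hcon
    apply hno
    refine ⟨u, hu, ?_⟩
    intro k hk
    by_contra hne
    exact hcon ⟨k, hk, hne⟩
  -- first vector
  obtain ⟨x₁, hx₁⟩ : ∃ x₁ : Fin 6 → F, x₁ ≠ 0 := by
    refine ⟨Pi.single 0 1, ?_⟩
    intro h0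
    have := congrFun h0 0
    simp at this
  -- second vector, orthogonal to `K x₁`
  obtain ⟨x₂, hx₂, horth⟩ : ∃ x₂ : Fin 6 → F, x₂ ≠ 0 ∧
      ∀ k ∈ K, hermForm 6 F 2 x₂ (k *ᵥ x₁) = 0 := by
    let T : (Fin 6 → F) →ₗ[F] (↥K →ₗ[F] F) :=
      { toFun := fun y =>
          { toFun := fun k => hermForm 6 F 2 y (adj hF (k : Matrix (Fin 6) (Fin 6) F) *ᵥ x₁)
            map_add' := fun k k' => by
              show hermForm 6 F 2 y (adj hF ((k + k' : ↥K) : Matrix (Fin 6) (Fin 6) F) *ᵥ x₁) = _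
              rw [Subalgebra.coe_add, hadj_add, Matrix.add_mulVec, hermForm_add_right hF]
            map_smul' := fun c k => by
              show hermForm 6 F 2 y (adj hF ((c • k : ↥K) : Matrix (Fin 6) (Fin 6) F) *ᵥ x₁) = _
              rw [Subalgebra.coe_smul, hadj_smul, Matrix.smul_mulVec, hermForm_smul_right,
                ← pow_mul, hpow4]
              rfl }
        map_add' := fun y y' => by
          ext k
          show hermForm 6 F 2 (y + y') _ = hermForm 6 F 2 y _ + hermForm 6 F 2 y' _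
          rw [hermForm_add_left]
        map_smul' := fun c y => by
          ext k
          show hermForm 6 F 2 (c • y) _ = c • hermForm 6 F 2 y _
          rw [hermForm_smul_left]
          rfl }
    have hfr : Module.finrank F (↥K →ₗ[F] F) < Module.finrank F (Fin 6 → F) := by
      have h1 : Module.finrank F (↥K →ₗ[F] F) = 3 := by
        have := Subspace.dual_finrank_eq (K := F) (V := ↥K)
        rw [hK.finrank_eq] at this
        exact this
      rw [h1, Module.finrank_fin_fun]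
      norm_num
    have hfd : FiniteDimensional F ↥K := Module.finite_of_finrank_pos (by rw [hK.finrank_eq]; norm_num)
    have hker := LinearMap.ker_ne_bot_of_finrank_lt (f := T) hfr
    obtain ⟨y, hy, hy0⟩ := Submodule.exists_mem_ne_zero_of_ne_bot hker
    refine ⟨y, hy0, ?_⟩
    intro k hk
    have h1 : T y ⟨adj hF k, hadjK k hk⟩ = 0 := by
      rw [LinearMap.mem_ker.mp hy]; rfl
    have h3 : hermForm 6 F 2 y (adj hF (adj hF k) *ᵥ x₁) = 0 := h1
    rwa [adj_adj] at h3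
  -- cross terms
  have hcross1 : ∀ k ∈ K, ∀ m ∈ K, hermForm 6 F 2 (m *ᵥ x₂) (k *ᵥ x₁) = 0 := by
    intro k hk m hm
    rw [herm_mulVec_left hF, Matrix.mulVec_mulVec]
    exact horth _ (K.mul_mem (hadjK m hm) hk)
  have hcross2 : ∀ k ∈ K, ∀ m ∈ K, hermForm 6 F 2 (k *ᵥ x₁) (m *ᵥ x₂) = 0 := by
    intro k hk m hm
    exact herm_eq_zero_symm hF _ _ (hcross1 k hk m hm)
  have hxx : ∀ x : F, x + x = 0 := fun x => by linear_combination x * h2
  have hcomm : ∀ a ∈ K, ∀ b ∈ K, a * b = b * a := hK.comm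
  -- the involution on `K`
  obtain ⟨τK, hτK⟩ : ∃ τK : ↥K → ↥K, ∀ k : ↥K, ((τK k : ↥K) : Matrix (Fin 6) (Fin 6) F) = adj hF k :=
    ⟨fun k => ⟨adj hF k, hadjK k k.2⟩, fun k => rfl⟩
  have hτK_add : ∀ a b : ↥K, τK (a + b) = τK a + τK b := by
    intro a b
    apply Subtype.ext
    rw [Subalgebra.coe_add, hτK, hτK, hτK, Subalgebra.coe_add, hadj_add]
  have hτK_smul : ∀ (c : F) (a : ↥K), τK (c • a) = c ^ 2 • τK a := by
    intro c a
    apply Subtype.ext
    rw [Subalgebra.coe_smul, hτK, hτK, Subalgebra.coe_smul, hadj_smul]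
  have hτK_inv : ∀ a : ↥K, τK (τK a) = a := by
    intro a
    apply Subtype.ext
    rw [hτK, hτK, adj_adj]
  -- the involution on the dual of `K`
  obtain ⟨τΦ, hτΦ⟩ : ∃ τΦ : (↥K →ₗ[F] F) → (↥K →ₗ[F] F), ∀ (φ : ↥K →ₗ[F] F) (k : ↥K),
      τΦ φ k = (φ (τK k)) ^ 2 := by
    refine ⟨fun φ =>
      { toFun := fun k => (φ (τK k)) ^ 2
        map_add' := fun k k' => by rw [hτK_add, map_add, hsq_add]
        map_smul' := fun c k => by
          rw [hτK_smul, map_smul, smul_eq_mul, mul_pow, ← pow_mul, hpow4]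
          rfl }, fun φ k => rfl⟩
  have hτΦ_add : ∀ a b : ↥K →ₗ[F] F, τΦ (a + b) = τΦ a + τΦ b := by
    intro a b
    ext k
    rw [LinearMap.add_apply, hτΦ, hτΦ, hτΦ, LinearMap.add_apply, hsq_add]
  have hτΦ_smul : ∀ (c : F) (a : ↥K →ₗ[F] F), τΦ (c • a) = c ^ 2 • τΦ a := by
    intro c a
    ext k
    rw [LinearMap.smul_apply, hτΦ, hτΦ, LinearMap.smul_apply, smul_eq_mul, smul_eq_mul, mul_pow]
  have hτΦ_inv : ∀ a : ↥K →ₗ[F] F, τΦ (τΦ a) = a := by
    intro a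
    ext k
    rw [hτΦ, hτΦ, hτK_inv, ← pow_mul, hpow4]
  have hfd : FiniteDimensional F ↥K := Module.finite_of_finrank_pos (by rw [hK.finrank_eq]; norm_num)
  have hfinK : Finite ↥K := inferInstance
  have hfinW : Finite (↥K →ₗ[F] F) := Module.finite_of_finite F
  have hcK := card_sq_fixed ω hω h2 τK hτK_add hτK_smul hτK_inv
  have hcW := card_sq_fixed ω hω h2 τΦ hτΦ_add hτΦ_smul hτΦ_inv
  have hcard : Nat.card {φ : ↥K →ₗ[F] F // τΦ φ = φ} ≤ Nat.card {k : ↥K // τK k = k} := by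
    have h1 : Nat.card (↥K →ₗ[F] F) = Nat.card ↥K := by
      rw [Module.natCard_eq_pow_finrank (K := F) (V := ↥K →ₗ[F] F),
        Module.natCard_eq_pow_finrank (K := F) (V := ↥K)]
      congr 1
      exact Subspace.dual_finrank_eq
    rw [hcK, hcW] at h1
    exact le_of_eq (Nat.pow_left_injective (by norm_num : 2 ≠ 0) h1)
  -- `Ψ`
  have hΨwd : ∀ ν : {k : ↥K // τK k = k}, ∃ φ : {φ : ↥K →ₗ[F] F // τΦ φ = φ},
      ∀ k : ↥K, φ.1 k = hermForm 6 F 2
        (((k : Matrix (Fin 6) (Fin 6) F) * ((ν.1 : ↥K) : Matrix (Fin 6) (Fin 6) F)) *ᵥ x₂) x₂ := by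
    intro ν
    have hν : adj hF ((ν.1 : ↥K) : Matrix (Fin 6) (Fin 6) F) = ((ν.1 : ↥K) : Matrix (Fin 6) (Fin 6) F) := by
      rw [← hτK, ν.2]
    let φ : ↥K →ₗ[F] F :=
      { toFun := fun k => hermForm 6 F 2
          (((k : Matrix (Fin 6) (Fin 6) F) * ((ν.1 : ↥K) : Matrix (Fin 6) (Fin 6) F)) *ᵥ x₂) x₂
        map_add' := fun k k' => by
          rw [Subalgebra.coe_add, add_mul, Matrix.add_mulVec, hermForm_add_left]
        map_smul' := fun c k => by
          rw [Subalgebra.coe_smul, smul_mul_assoc, Matrix.smul_mulVec, hermForm_smul_left]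
          rfl }
    refine ⟨⟨φ, ?_⟩, fun k => rfl⟩
    ext k
    rw [hτΦ]
    show (hermForm 6 F 2 ((((τK k : ↥K) : Matrix (Fin 6) (Fin 6) F) *
      ((ν.1 : ↥K) : Matrix (Fin 6) (Fin 6) F)) *ᵥ x₂) x₂) ^ 2 = _
    rw [hermForm_conj hF, hτK, ← herm_mulVec_right hF, adj_mul, adj_adj, hν,
      hcomm _ ν.1.2 _ k.2]
    rfl
  choose Ψ hΨ using hΨwd
  have hΨinj : Function.Injective Ψ := by
    intro ν ν' hνν'
    by_contra hne
    have hδ : ((ν.1 : ↥K) : Matrix (Fin 6) (Fin 6) F) - ((ν'.1 : ↥K) : Matrix (Fin 6) (Fin 6) F) ≠ 0 := by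
      intro h0
      apply hne
      apply Subtype.ext
      apply Subtype.ext
      exact sub_eq_zero.mp h0
    have hδK : ((ν.1 : ↥K) : Matrix (Fin 6) (Fin 6) F) - ((ν'.1 : ↥K) : Matrix (Fin 6) (Fin 6) F) ∈ K :=
      K.sub_mem ν.1.2 ν'.1.2
    obtain ⟨δ', hδ'K, hδ'1, hδ'2⟩ := Cfsg.Agent.Lib.Helper99.FieldSub.exists_inv K hK hδK hδ
    obtain ⟨k, hk, hk0⟩ := hani x₂ hx₂
    apply hk0
    have h1 := hΨ ν ⟨k * δ', K.mul_mem hk hδ'K⟩
    have h2 := hΨ ν' ⟨k * δ', K.mul_mem hk hδ'K⟩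
    rw [hνν'] at h1
    rw [h1] at h2
    have h3 : k = k * δ' * ((ν.1 : ↥K) : Matrix (Fin 6) (Fin 6) F) -
        k * δ' * ((ν'.1 : ↥K) : Matrix (Fin 6) (Fin 6) F) := by
      rw [← mul_sub, mul_assoc, hδ'2, mul_one]
    rw [h3, Matrix.sub_mulVec, herm_sub_left]
    exact sub_eq_zero.mpr h2
  have hΨbij : Function.Bijective Ψ := hΨinj.bijective_of_nat_card_le hcard
  -- the functional of `x₁`
  have hφ₁ : ∃ φ : {φ : ↥K →ₗ[F] F // τΦ φ = φ}, ∀ k : ↥K, φ.1 k =
      hermForm 6 F 2 ((k : Matrix (Fin 6) (Fin 6) F) *ᵥ x₁) x₁ := by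
    let φ : ↥K →ₗ[F] F :=
      { toFun := fun k => hermForm 6 F 2 ((k : Matrix (Fin 6) (Fin 6) F) *ᵥ x₁) x₁
        map_add' := fun k k' => by
          rw [Subalgebra.coe_add, Matrix.add_mulVec, hermForm_add_left]
        map_smul' := fun c k => by
          rw [Subalgebra.coe_smul, Matrix.smul_mulVec, hermForm_smul_left]
          rfl }
    refine ⟨⟨φ, ?_⟩, fun k => rfl⟩
    ext k
    rw [hτΦ]
    show (hermForm 6 F 2 (((τK k : ↥K) : Matrix (Fin 6) (Fin 6) F) *ᵥ x₁) x₁) ^ 2 = _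
    rw [hermForm_conj hF, hτK, ← herm_mulVec_left hF]
    rfl
  obtain ⟨φ₁, hφ₁⟩ := hφ₁
  obtain ⟨ν, hν⟩ := hΨbij.2 φ₁
  -- a square root of `ν` in `K₀`
  have hsqinj : Function.Injective (fun a : {k : ↥K // τK k = k} =>
      (⟨a.1 * a.1, by
        apply Subtype.ext
        rw [hτK, Subalgebra.coe_mul, adj_mul, ← hτK, a.2]⟩ : {k : ↥K // τK k = k})) := by
    intro a b hab
    have h1 : ((a.1 : ↥K) : Matrix (Fin 6) (Fin 6) F) * (a.1 : ↥K) =
        ((b.1 : ↥K) : Matrix (Fin 6) (Fin 6) F) * (b.1 : ↥K) := by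
      have := congrArg (fun z : {k : ↥K // τK k = k} => ((z.1 : ↥K) : Matrix (Fin 6) (Fin 6) F)) hab
      simpa using this
    have hMM : ∀ M : Matrix (Fin 6) (Fin 6) F, M + M = 0 := by
      intro M
      ext i j
      exact hxx _
    have h2 : (((a.1 : ↥K) : Matrix (Fin 6) (Fin 6) F) + (b.1 : ↥K)) *
        (((a.1 : ↥K) : Matrix (Fin 6) (Fin 6) F) + (b.1 : ↥K)) = 0 := by
      rw [add_mul, mul_add, mul_add, hcomm _ b.1.2 _ a.1.2, h1]
      calc ((b.1 : ↥K) : Matrix (Fin 6) (Fin 6) F) * (b.1 : ↥K) +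
            ((a.1 : ↥K) : Matrix (Fin 6) (Fin 6) F) * (b.1 : ↥K) +
            (((a.1 : ↥K) : Matrix (Fin 6) (Fin 6) F) * (b.1 : ↥K) +
              ((b.1 : ↥K) : Matrix (Fin 6) (Fin 6) F) * (b.1 : ↥K))
          = (((b.1 : ↥K) : Matrix (Fin 6) (Fin 6) F) * (b.1 : ↥K) +
              ((b.1 : ↥K) : Matrix (Fin 6) (Fin 6) F) * (b.1 : ↥K)) +
            (((a.1 : ↥K) : Matrix (Fin 6) (Fin 6) F) * (b.1 : ↥K) +
              ((a.1 : ↥K) : Matrix (Fin 6) (Fin 6) F) * (b.1 : ↥K)) := by abel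
        _ = 0 := by rw [hMM, hMM, add_zero]
    have h3 : ((a.1 : ↥K) : Matrix (Fin 6) (Fin 6) F) + (b.1 : ↥K) = 0 := by
      rcases Cfsg.Agent.Lib.Helper99.FieldSub.eq_zero_or_eq_zero_of_mul_eq_zero K hK
        (K.add_mem a.1.2 b.1.2) h2 with h | h <;> exact h
    apply Subtype.ext
    apply Subtype.ext
    calc ((a.1 : ↥K) : Matrix (Fin 6) (Fin 6) F)
        = (((a.1 : ↥K) : Matrix (Fin 6) (Fin 6) F) + (b.1 : ↥K)) + (b.1 : ↥K) := by
          rw [add_assoc, hMM, add_zero]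
      _ = (b.1 : ↥K) := by rw [h3, zero_add]
  have hfinK0 : Finite {k : ↥K // τK k = k} := inferInstance
  obtain ⟨μ, hμ⟩ := (Finite.injective_iff_surjective.mp hsqinj) ν
  have hμν : ((μ.1 : ↥K) : Matrix (Fin 6) (Fin 6) F) * (μ.1 : ↥K) = (ν.1 : ↥K) := by
    have := congrArg (fun z : {k : ↥K // τK k = k} => ((z.1 : ↥K) : Matrix (Fin 6) (Fin 6) F)) hμ
    simpa using this
  have hμadj : adj hF ((μ.1 : ↥K) : Matrix (Fin 6) (Fin 6) F) = (μ.1 : ↥K) := by
    rw [← hτK, μ.2]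
  have hμK : ((μ.1 : ↥K) : Matrix (Fin 6) (Fin 6) F) ∈ K := μ.1.2
  -- the isotropic vector
  apply hno
  refine ⟨x₁ + ((μ.1 : ↥K) : Matrix (Fin 6) (Fin 6) F) *ᵥ x₂, ?_, ?_⟩
  · intro h0
    have hx : x₁ = ((μ.1 : ↥K) : Matrix (Fin 6) (Fin 6) F) *ᵥ x₂ := by
      calc x₁ = (x₁ + ((μ.1 : ↥K) : Matrix (Fin 6) (Fin 6) F) *ᵥ x₂) +
            ((μ.1 : ↥K) : Matrix (Fin 6) (Fin 6) F) *ᵥ x₂ := by
            rw [add_assoc, hvadd, add_zero]
        _ = ((μ.1 : ↥K) : Matrix (Fin 6) (Fin 6) F) *ᵥ x₂ := by rw [h0, zero_add]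
    obtain ⟨k, hk, hk0⟩ := hani x₁ hx₁
    apply hk0
    have e1 : hermForm 6 F 2 (k *ᵥ x₁) x₁ =
        hermForm 6 F 2 (k *ᵥ x₁) (((μ.1 : ↥K) : Matrix (Fin 6) (Fin 6) F) *ᵥ x₂) :=
      congrArg (fun z => hermForm 6 F 2 (k *ᵥ x₁) z) hx
    rw [e1]
    exact hcross2 k hk _ hμK
  · intro k hk
    rw [Matrix.mulVec_add, hermForm_add_left, hermForm_add_right hF, hermForm_add_right hF,
      Matrix.mulVec_mulVec, hcross2 k hk _ hμK]
    have e2 : hermForm 6 F 2 ((k * ((μ.1 : ↥K) : Matrix (Fin 6) (Fin 6) F)) *ᵥ x₂) x₁ = 0 := by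
      have := hcross1 (1 : Matrix (Fin 6) (Fin 6) F) K.one_mem _ (K.mul_mem hk hμK)
      rwa [Matrix.one_mulVec] at this
    have e3 : hermForm 6 F 2 ((k * ((μ.1 : ↥K) : Matrix (Fin 6) (Fin 6) F)) *ᵥ x₂)
        (((μ.1 : ↥K) : Matrix (Fin 6) (Fin 6) F) *ᵥ x₂) =
        hermForm 6 F 2 (k *ᵥ x₁) x₁ := by
      have h1 := hΨ ν ⟨k, hk⟩
      rw [hν, hφ₁] at h1
      rw [h1]
      have h4 := herm_mulVec_right hF ((μ.1 : ↥K) : Matrix (Fin 6) (Fin 6) F)
        ((k * ((μ.1 : ↥K) : Matrix (Fin 6) (Fin 6) F)) *ᵥ x₂) x₂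
      rw [← h4, Matrix.mulVec_mulVec, hμadj, ← hμν]
      have h5 : ((μ.1 : ↥K) : Matrix (Fin 6) (Fin 6) F) *
          (k * ((μ.1 : ↥K) : Matrix (Fin 6) (Fin 6) F)) =
          k * (((μ.1 : ↥K) : Matrix (Fin 6) (Fin 6) F) * ((μ.1 : ↥K) : Matrix (Fin 6) (Fin 6) F)) := by
        rw [← mul_assoc, hcomm _ hμK _ hk, mul_assoc]
      rw [h5]
    rw [e2, e3, add_zero, zero_add]
    exact hxx _

end Main

end Cfsg.Agent.Lib.Helper57.SU6K
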