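import Mathlib.GroupTheory.Sylow
import Mathlib.GroupTheory.Index

set_option autoImplicit false

namespace Cfsg.Agent.Lib.Helper57

open scoped Pointwise

/-- `|H : H ∩ N| = |HN : N|`-style index identity: `[H ⊔ N : H] = [N : H ⊓ N]` for `N` normal. -/
theorem relIndex_sup_of_normal {G : Type*} [Group G] [Finite G] (H N : Subgroup G) [N.Normal] :
    H.relIndex (H ⊔ N) = H.relIndex N := by
  have h1 : Nat.card H * H.relIndex (H ⊔ N) = Nat.card ↥(H ⊔ N) := by
    rw [← Subgroup.relIndex_bot_left, Subgroup.relIndex_mul_relIndex _ _ _ bot_le le_sup_left,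
      Subgroup.relIndex_bot_left]
  have h2 : Nat.card N * N.relIndex H = Nat.card ↥(H ⊔ N) := by
    rw [← Subgroup.relIndex_sup_right H N, ← Subgroup.relIndex_bot_left,
      Subgroup.relIndex_mul_relIndex _ _ _ bot_le le_sup_right, Subgroup.relIndex_bot_left]
  have h3 : Nat.card ↥(H ⊓ N) * N.relIndex H = Nat.card H := by
    have := Subgroup.relIndex_mul_relIndex ⊥ (H ⊓ N) H bot_le inf_le_left
    rwa [Subgroup.relIndex_bot_left, Subgroup.relIndex_bot_left, Subgroup.inf_relIndex_left] at this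
  have h4 : Nat.card ↥(H ⊓ N) * H.relIndex N = Nat.card N := by
    have := Subgroup.relIndex_mul_relIndex ⊥ (H ⊓ N) N bot_le inf_le_right
    rwa [Subgroup.relIndex_bot_left, Subgroup.relIndex_bot_left, Subgroup.inf_relIndex_right] at this
  have hpos : 0 < Nat.card ↥(H ⊓ N) * N.relIndex H := by
    rw [h3]; exact Nat.card_pos
  have : (Nat.card ↥(H ⊓ N) * N.relIndex H) * H.relIndex (H ⊔ N) =
      (Nat.card ↥(H ⊓ N) * N.relIndex H) * H.relIndex N := by
    calc (Nat.card ↥(H ⊓ N) * N.relIndex H) * H.relIndex (H ⊔ N)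
        = Nat.card ↥(H ⊔ N) := by rw [h3, h1]
      _ = (Nat.card ↥(H ⊓ N) * H.relIndex N) * N.relIndex H := by rw [h4, h2]
      _ = (Nat.card ↥(H ⊓ N) * N.relIndex H) * H.relIndex N := by ring
  exact Nat.eq_of_mul_eq_mul_left hpos this

/-- A Sylow subgroup meets a normal subgroup in a subgroup of index prime to `p`. -/
theorem Sylow_not_dvd_relIndex_normal {G : Type*} [Group G] [Finite G] {p : ℕ} [Fact p.Prime]
    (P : Sylow p G) (N : Subgroup G) [N.Normal] : ¬ p ∣ (P : Subgroup G).relIndex N := by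
  rw [← relIndex_sup_of_normal]
  intro h
  exact P.not_dvd_index (h.trans (Subgroup.relIndex_dvd_index_of_le le_sup_left))

/-- If `P ⊓ N ≤ R ≤ P` with `P` Sylow and `N` normal then `R` has index prime to `p` in `R ⊔ N`. -/
theorem not_dvd_relIndex_sup_normal {G : Type*} [Group G] [Finite G] {p : ℕ} [Fact p.Prime]
    (P : Sylow p G) (N : Subgroup G) [N.Normal] (R : Subgroup G) (hRP : R ≤ (P : Subgroup G))
    (hPN : (P : Subgroup G) ⊓ N ≤ R) : ¬ p ∣ R.relIndex (R ⊔ N) := by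
  rw [relIndex_sup_of_normal, ← Subgroup.inf_relIndex_right]
  have : R ⊓ N = (P : Subgroup G) ⊓ N :=
    le_antisymm (inf_le_inf_right N hRP) (le_inf hPN inf_le_right)
  rw [this, Subgroup.inf_relIndex_right]
  exact Sylow_not_dvd_relIndex_normal P N

/-- Frattini-type argument: if `R` is a `p`-subgroup of `L` of index prime to `p` and `g`
normalizes `L`, then `l * g` normalizes `R` for some `l ∈ L`. -/
theorem exists_mul_mem_normalizer {G : Type*} [Group G] [Finite G] {p : ℕ} [Fact p.Prime]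
    (L R : Subgroup G) (hRL : R ≤ L) (hR : IsPGroup p R) (hidx : ¬ p ∣ R.relIndex L)
    (g : G) (hg : g ∈ Subgroup.normalizer (L : Set G)) :
    ∃ l ∈ L, l * g ∈ Subgroup.normalizer (R : Set G) := by
  have hR' : IsPGroup p (R.subgroupOf L) :=
    hR.comap_of_injective L.subtype L.subtype_injective
  let S : Sylow p ↥L := hR'.toSylow hidx
  -- the conjugate of R by g, inside L
  let R2 : Subgroup G := R.map (MulAut.conj g).toMonoidHom
  have hR2L : R2 ≤ L := by
    rintro _ ⟨r, hr, rfl⟩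
    exact (hg r).mp (hRL hr)
  have hR2 : IsPGroup p (R2.subgroupOf L) :=
    (hR.map _).comap_of_injective L.subtype L.subtype_injective
  obtain ⟨Q, hQ⟩ := hR2.exists_le_sylow
  obtain ⟨l, hl⟩ := MulAction.exists_smul_eq ↥L Q S
  refine ⟨l, l.2, ?_⟩
  apply Subgroup.mem_normalizer_fintype
  intro r hr
  have h1 : g * r * g⁻¹ ∈ R2 := ⟨r, hr, by simp⟩
  have h2 : (⟨g * r * g⁻¹, hR2L h1⟩ : ↥L) ∈ (Q : Subgroup ↥L) := hQ (by
    rw [Subgroup.mem_subgroupOf]; exact h1)
  have h3 : l * ⟨g * r * g⁻¹, hR2L h1⟩ * l⁻¹ ∈ (S : Subgroup ↥L) := by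
    rw [← hl, Sylow.smul_def]
    show _ ∈ MulAut.conj l • (Q : Subgroup ↥L)
    rw [Subgroup.mem_pointwise_smul_iff_inv_smul_mem]
    have : (MulAut.conj l)⁻¹ • (l * ⟨g * r * g⁻¹, hR2L h1⟩ * l⁻¹) =
        (⟨g * r * g⁻¹, hR2L h1⟩ : ↥L) := by
      simp [MulAut.smul_def, mul_assoc]
    rw [this]
    exact h2
  have h4 : l * ⟨g * r * g⁻¹, hR2L h1⟩ * l⁻¹ ∈ R.subgroupOf L := by
    have : (S : Subgroup ↥L) = R.subgroupOf L := IsPGroup.toSylow_coe hR' hidx
    rw [← this]; exact h3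
  rw [Subgroup.mem_subgroupOf] at h4
  have e : ((l * ⟨g * r * g⁻¹, hR2L h1⟩ * l⁻¹ : ↥L) : G) = (l : G) * g * r * ((l : G) * g)⁻¹ := by
    simp [mul_assoc]
  rw [e] at h4
  exact h4

/-- Two Sylow subgroups of `G` contained in a subgroup `C` are conjugate under `C`. -/
theorem sylow_conj_in_subgroup {G : Type*} [Group G] [Finite G] {p : ℕ} [Fact p.Prime]
    (P : Sylow p G) (C : Subgroup G) (g : G) (h1 : (P : Subgroup G) ≤ C)
    (h2 : ((g • P : Sylow p G) : Subgroup G) ≤ C) :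
    ∃ c ∈ C, c * g ∈ Subgroup.normalizer ((P : Subgroup G) : Set G) := by
  obtain ⟨h, hh⟩ := MulAction.exists_smul_eq ↥C ((g • P).subtype h2) (P.subtype h1)
  simp_rw [Sylow.smul_subtype, Subgroup.smul_def, smul_smul] at hh
  exact ⟨h, h.2, Sylow.smul_eq_iff_mem_normalizer.mp (Sylow.subtype_injective hh)⟩

end Cfsg.Agent.Lib.Helper57
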