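import Cfsg.Agent.Lib.Helper57.T1904C2b

/-!
# S1904 keystone K16 (`beta_c2`): exponent four

Case β of helper40's blueprint for S1904, `B` of exponent four: `X / Z(X)` is elementary abelian
and `Z(X)` is a four-group.
-/

set_option autoImplicit false

namespace Cfsg.Agent.Lib.Helper57.T1904

open Cfsg.Agent.Lib.Helper40.T1904
open scoped commutatorElement

universe u_1

variable {X : Type u_1} [Group X]

/-- the norm `x ↦ x * g x * g (g x)` is trivial modulo `B` when `X / B` is abelian -/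
theorem norm_mem {A : Subgroup (MulAut X)} (h : Ctx X A) {g : MulAut X}
    (hg3 : ∀ x : X, g (g (g x)) = x) (hA : ∀ φ ∈ A, φ = 1 ∨ φ = g ∨ φ = g * g)
    (B : Subgroup X) (hBn : B.Normal) (hcomm : ∀ x y : X, ⁅x, y⁆ ∈ B) (x : X) :
    x * g x * g (g x) ∈ B := by
  have hBn' : B.Normal := hBn
  have hc : ∀ u v : X ⧸ B, u * v = v * u := by
    intro u v
    induction u using QuotientGroup.induction_on with
    | _ a =>
      induction v using QuotientGroup.induction_on with
      | _ b =>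
        rw [← QuotientGroup.mk_mul, ← QuotientGroup.mk_mul, QuotientGroup.eq]
        have h1 := hcomm b⁻¹ a⁻¹
        rw [commutatorElement_def] at h1
        have h2 : (a * b)⁻¹ * (b * a) = b⁻¹ * a⁻¹ * b⁻¹⁻¹ * a⁻¹⁻¹ := by group
        rw [h2]; exact h1
  let π : X →* X ⧸ B := QuotientGroup.mk' B
  let ν : X →* X ⧸ B :=
    { toFun := fun x => π x * π (g x) * π (g (g x))
      map_one' := by simp
      map_mul' := by
        intro a b
        simp only [map_mul]
        calc π a * π b * (π (g a) * π (g b)) * (π (g (g a)) * π (g (g b)))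
            = π a * (π b * π (g a)) * π (g b) * (π (g (g a)) * π (g (g b))) := by group
          _ = π a * (π (g a) * π b) * π (g b) * (π (g (g a)) * π (g (g b))) := by
              rw [hc (π b) (π (g a))]
          _ = π a * π (g a) * ((π b * π (g b)) * π (g (g a))) * π (g (g b)) := by group
          _ = π a * π (g a) * (π (g (g a)) * (π b * π (g b))) * π (g (g b)) := by
              rw [hc (π b * π (g b)) (π (g (g a)))]
          _ = π a * π (g a) * π (g (g a)) * (π b * π (g b) * π (g (g b))) := by group }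
  have hν : ∀ y : X, ν y = π y * π (g y) * π (g (g y)) := fun _ => rfl
  have hνg : ∀ y : X, ν (g y) = ν y := by
    intro y
    rw [hν, hν, hg3]
    rw [hc (π (g y) * π (g (g y))) (π y)]
    group
  have hker : Subgroup.closure {t : X | ∃ φ ∈ A, ∃ y : X, t = y⁻¹ * φ y} ≤ ν.ker := by
    rw [Subgroup.closure_le]
    rintro t ⟨φ, hφ, y, rfl⟩
    show ν (y⁻¹ * φ y) = 1
    rw [map_mul, map_inv]
    have : ν (φ y) = ν y := by
      rcases hA φ hφ with h1 | h1 | h1
      · rw [h1]; rfl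
      · rw [h1]; exact hνg y
      · rw [h1, MulAut.mul_apply, hνg, hνg]
    rw [this, inv_mul_cancel]
  rw [h.hgen] at hker
  have hx : ν x = 1 := hker (Subgroup.mem_top x)
  rw [hν] at hx
  have hx' : π (x * g x * g (g x)) = 1 := by
    rw [map_mul, map_mul]; exact hx
  exact (QuotientGroup.eq_one_iff _).mp hx'

/-- K16 of helper40's blueprint for S1904.  Exponent 4: `X/Z` is elementary abelian and
`|Z| = 4`. -/
theorem beta_c2 [Finite X] {A : Subgroup (MulAut X)} (h : Ctx X A) (hA3 : Nat.card A = 3)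
    (hna : ¬ IsMulCommutative X)
    (B : Subgroup X) (hBn : B.Normal) (hBa : Ab B) (hBi : Inv A B) (hfpf : Fpf A B)
    (hsc : ∀ x : X, (∀ b ∈ B, x * b = b * x) → x ∈ B)
    (hexp : ∃ b ∈ B, b * b ≠ 1) (h4 : ∀ b ∈ B, b ^ 4 = 1)
    (hmod : ∀ x : X, ∀ b ∈ B, ∃ d ∈ B, x * b * x⁻¹ = b * (d * d)) :
    EAmodZ X ∧ (∀ z ∈ Subgroup.center X, z * z = 1) ∧ Nat.card (Subgroup.center X) = 4 := by
  obtain ⟨g, hgA, hg3, hA⟩ := exists_gen_three hA3
  have hR4 : Nat.card {t : X // t ∈ B ∧ t * t = 1} ≤ 4 := h.hR B hBn hBa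
  have hsq : ∀ b ∈ B, (b * b) * (b * b) = 1 := by
    intro b hb
    have h1 := h4 b hb
    calc (b * b) * (b * b) = b ^ 4 := by
          rw [show (4 : ℕ) = 2 + 2 by rfl, pow_add, pow_two]
      _ = 1 := h1
  obtain ⟨b0, hb0, hb0ne⟩ := hexp
  have hsB : b0 * b0 ∈ B := B.mul_mem hb0 hb0
  have hs2 : (b0 * b0) * (b0 * b0) = 1 := hsq b0 hb0
  have FC : ∀ t ∈ B, t * t = 1 → t ≠ 1 → ∀ v ∈ B, v * v = 1 →
      v = 1 ∨ v = t ∨ v = g t ∨ v = t * g t :=
    fun t htB ht2 ht1 v hvB hv2 => four_cases hgA hA B hBa hBi hfpf hR4 t htB ht2 ht1 v hvB hv2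
  -- V is normal, so meets the centre
  have hVn : (omegaOne B hBa).Normal := ⟨fun b hb x => ⟨hBn.conj_mem b hb.1 x, by
    calc x * b * x⁻¹ * (x * b * x⁻¹) = x * (b * b) * x⁻¹ := by group
      _ = 1 := by rw [hb.2]; group⟩⟩
  have hVne : omegaOne B hBa ≠ ⊥ := by
    intro hV
    have h1 : b0 * b0 ∈ omegaOne B hBa := ⟨hsB, hs2⟩
    rw [hV, Subgroup.mem_bot] at h1
    exact hb0ne h1
  have hp2 : Fact (Nat.Prime 2) := ⟨Nat.prime_two⟩
  obtain ⟨z, hzV, hzZ, hz1⟩ :=
    Cfsg.Agent.Lib.Helper38.normal_inf_center_ne_bot 2 h.h2 (omegaOne B hBa) hVne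
  have hgzZ : g z ∈ Subgroup.center X := by
    rw [Subgroup.mem_center_iff]
    intro y
    have h1 := (Subgroup.mem_center_iff.mp hzZ) (g.symm y)
    have h2 := congrArg g h1
    simpa using h2
  have hVZ : ∀ v ∈ B, v * v = 1 → v ∈ Subgroup.center X := by
    intro v hvB hv2
    rcases FC z hzV.1 hzV.2 hz1 v hvB hv2 with h | h | h | h
    · rw [h]; exact Subgroup.one_mem _
    · rw [h]; exact hzZ
    · rw [h]; exact hgzZ
    · rw [h]; exact Subgroup.mul_mem _ hzZ hgzZ
  have hVc : ∀ v ∈ B, v * v = 1 → ∀ u : X, u * v = v * u := fun v hvB hv2 u =>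
    (Subgroup.mem_center_iff.mp (hVZ v hvB hv2)) u
  -- displacements
  have hdlV : ∀ x : X, ∀ b ∈ B, dl x b ∈ B ∧ dl x b * dl x b = 1 := by
    intro x b hb
    obtain ⟨d, hd, hxd⟩ := hmod x b hb
    have h1 : dl x b = d * d := by unfold dl; rw [hxd]; group
    rw [h1]
    exact ⟨B.mul_mem hd hd, hsq d hd⟩
  have hdlc : ∀ x : X, ∀ b ∈ B, ∀ u : X, u * dl x b = dl x b * u := fun x b hb u =>
    hVc _ (hdlV x b hb).1 (hdlV x b hb).2 u
  have hdl_inv_self : ∀ x : X, ∀ b ∈ B, (dl x b)⁻¹ = dl x b := fun x b hb =>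
    inv_eq_of_mul_eq_one_left (hdlV x b hb).2
  have hdlL : ∀ x y : X, ∀ b ∈ B, dl (x * y) b = dl x b * dl y b := fun x y b hb =>
    dl_mul_left x y b (hdlc y b hb)
  have hdlR : ∀ x : X, ∀ b ∈ B, ∀ c : X, dl x (b * c) = dl x b * dl x c := fun x b hb c =>
    dl_mul_right x b c (hdlc x b hb)
  have hdlB : ∀ x ∈ B, ∀ b ∈ B, dl x b = 1 := fun x hx b hb =>
    (dl_eq_one_iff x b).mpr (hBa x hx b hb)
  have hmemB : ∀ x : X, (∀ b ∈ B, dl x b = 1) → x ∈ B := fun x hx =>
    hsc x (fun b hb => (dl_eq_one_iff x b).mp (hx b hb))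
  have hdl_inv : ∀ x : X, ∀ b ∈ B, dl x⁻¹ b = dl x b := by
    intro x b hb
    have h1 : dl (x * x⁻¹) b = dl x b * dl x⁻¹ b := hdlL x x⁻¹ b hb
    rw [mul_inv_cancel, dl_one_left] at h1
    have h2 : dl x⁻¹ b = (dl x b)⁻¹ := (inv_eq_of_mul_eq_one_right h1.symm).symm
    rw [h2, hdl_inv_self x b hb]
  have hsqB : ∀ x : X, x * x ∈ B := by
    intro x
    apply hmemB
    intro b hb
    rw [hdlL x x b hb]
    exact (hdlV x b hb).2
  have hcommB : ∀ x y : X, ⁅x, y⁆ ∈ B := by
    intro x y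
    apply hmemB
    intro b hb
    rw [commutatorElement_def, hdlL (x * y * x⁻¹) y⁻¹ b hb, hdlL (x * y) x⁻¹ b hb,
      hdlL x y b hb, hdl_inv x b hb, hdl_inv y b hb]
    have hc := hdlc y b hb (dl x b)
    calc dl x b * dl y b * dl x b * dl y b = dl x b * (dl y b * dl x b) * dl y b := by group
      _ = dl x b * (dl x b * dl y b) * dl y b := by rw [← hc]
      _ = (dl x b * dl x b) * (dl y b * dl y b) := by group
      _ = 1 := by rw [(hdlV x b hb).2, (hdlV y b hb).2, one_mul]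
  have hnorm : ∀ x : X, x * g x * g (g x) ∈ B := fun x => norm_mem h hg3 hA B hBn hcommB x
  have htrace : ∀ x : X, ∀ b ∈ B,
      dl x b * g (dl x (g (g b))) * g (g (dl x (g b))) = 1 := by
    intro x b hb
    have h1 : dl (x * g x * g (g x)) b = 1 := hdlB _ (hnorm x) b hb
    rw [hdlL (x * g x) (g (g x)) b hb, hdlL x (g x) b hb] at h1
    have h2 : dl (g x) b = g (dl x (g (g b))) := by
      rw [← dl_aut g x (g (g b)), hg3]
    have h3 : dl (g (g x)) b = g (g (dl x (g b))) := by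
      rw [← dl_aut g x (g b), ← dl_aut g (g x) (g (g b)), hg3]
    rw [h2, h3] at h1
    exact h1
  have htriple : ∀ b ∈ B, b * g b * g (g b) = 1 := by
    intro b hb
    have hgb := hBi g hgA b hb
    have hggb := hBi g hgA _ hgb
    apply hfpf _ (B.mul_mem (B.mul_mem hb hgb) hggb)
    apply fixed_of_gen hA
    simp only [map_mul, hg3]
    have h1 := hBa (g b * g (g b)) (B.mul_mem hgb hggb) b hb
    rw [h1]; group
  -- the key: an element outside `B` centralizes only `V` in `B`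
  have hstar : ∀ x : X, x ∉ B → ∀ b ∈ B, x * b = b * x → b * b = 1 := by
    intro x hxB b hb hxb
    by_contra hbb
    apply hxB
    have hgb := hBi g hgA b hb
    have hggb := hBi g hgA _ hgb
    have hd0 : dl x b = 1 := (dl_eq_one_iff x b).mpr hxb
    have hpV := hdlV x (g b) hgb
    have hpq : dl x (g b) * dl x (g (g b)) = 1 := by
      have h1 : dl x (b * g b * g (g b)) = 1 := by rw [htriple b hb, dl_one_right]
      rw [hdlR x _ (B.mul_mem hb hgb) _, hdlR x b hb _, hd0, one_mul] at h1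
      exact h1
    have hqp : dl x (g (g b)) = dl x (g b) := by
      have h1 : dl x (g (g b)) = (dl x (g b))⁻¹ := (inv_eq_of_mul_eq_one_right hpq).symm
      rw [h1, hdl_inv_self x (g b) hgb]
    have ht := htrace x b hb
    rw [hd0, one_mul, hqp] at ht
    have hgp : g (dl x (g b)) = dl x (g b) := by
      have h1 : g (dl x (g b) * g (dl x (g b))) = 1 := by rw [map_mul]; exact ht
      have h2 : dl x (g b) * g (dl x (g b)) = 1 := (MulEquiv.map_eq_one_iff g).mp h1
      have h3 : g (dl x (g b)) = (dl x (g b))⁻¹ := (inv_eq_of_mul_eq_one_right h2).symm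
      rw [h3, hdl_inv_self x (g b) hgb]
    have hp1 : dl x (g b) = 1 := hfpf _ hpV.1 (fixed_of_gen hA hgp)
    have hxgb : x * g b = g b * x := (dl_eq_one_iff x (g b)).mp hp1
    apply hsc
    intro b' hb'
    have hb'2 := hsq b' hb'
    have key : ∀ e ∈ B, x * e = e * x → b' * b' = e * e → x * b' = b' * x := by
      intro e he hxe hee
      have hw2 : (b' * e⁻¹) * (b' * e⁻¹) = 1 := by
        have hc : e⁻¹ * b' = b' * e⁻¹ := hBa e⁻¹ (B.inv_mem he) b' hb'
        calc (b' * e⁻¹) * (b' * e⁻¹) = b' * (e⁻¹ * b') * e⁻¹ := by group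
          _ = b' * (b' * e⁻¹) * e⁻¹ := by rw [hc]
          _ = (b' * b') * (e * e)⁻¹ := by group
          _ = 1 := by rw [hee, mul_inv_cancel]
      have hwc := hVc (b' * e⁻¹) (B.mul_mem hb' (B.inv_mem he)) hw2 x
      calc x * b' = x * (b' * e⁻¹) * e := by group
        _ = (b' * e⁻¹) * x * e := by rw [hwc]
        _ = (b' * e⁻¹) * (x * e) := by group
        _ = (b' * e⁻¹) * (e * x) := by rw [hxe]
        _ = b' * x := by group
    rcases FC (b * b) (B.mul_mem hb hb) (hsq b hb) hbb (b' * b') (B.mul_mem hb' hb') hb'2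
      with h1 | h1 | h1 | h1
    · exact key 1 B.one_mem (by simp) (by simpa using h1)
    · exact key b hb hxb h1
    · exact key (g b) hgb hxgb (by rw [h1, map_mul])
    · refine key (b * g b) (B.mul_mem hb hgb) ?_ ?_
      · calc x * (b * g b) = (x * b) * g b := by group
          _ = (b * x) * g b := by rw [hxb]
          _ = b * (x * g b) := by group
          _ = b * (g b * x) := by rw [hxgb]
          _ = b * g b * x := by group
      · rw [h1, map_mul]
        have hc : g b * b = b * g b := hBa (g b) hgb b hb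
        calc b * b * (g b * g b) = b * (b * g b) * g b := by group
          _ = b * (g b * b) * g b := by rw [hc]
          _ = b * g b * (b * g b) := by group
  have hsqV : ∀ x : X, (x * x) ∈ B ∧ (x * x) * (x * x) = 1 := by
    intro x
    by_cases hx : x ∈ B
    · exact ⟨B.mul_mem hx hx, hsq x hx⟩
    · exact ⟨hsqB x, hstar x hx (x * x) (hsqB x) (by group)⟩
  have hsqZ : ∀ x : X, x * x ∈ Subgroup.center X := fun x => hVZ _ (hsqV x).1 (hsqV x).2
  have hcommZ : ∀ x y : X, ⁅x, y⁆ ∈ Subgroup.center X := by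
    intro x y
    have ha := hsqZ x
    have hb := hsqZ y
    have hc := hsqZ (x * y)
    have hxc := (Subgroup.mem_center_iff.mp (Subgroup.inv_mem _ ha)) (x * y)
    have h1 : ⁅x, y⁆ = (x * x)⁻¹ * ((x * y) * (x * y)) * (y * y)⁻¹ := by
      rw [commutatorElement_def]
      calc x * y * x⁻¹ * y⁻¹ = (x * y) * (x * x)⁻¹ * (x * y) * (y * y)⁻¹ := by group
        _ = (x * x)⁻¹ * (x * y) * (x * y) * (y * y)⁻¹ := by rw [hxc]
        _ = (x * x)⁻¹ * ((x * y) * (x * y)) * (y * y)⁻¹ := by group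
    rw [h1]
    exact Subgroup.mul_mem _ (Subgroup.mul_mem _ (Subgroup.inv_mem _ ha) hc)
      (Subgroup.inv_mem _ hb)
  obtain ⟨x0, hx0⟩ : ∃ x0 : X, x0 ∉ B := by
    by_contra hall
    apply hna
    have hall' : ∀ x : X, x ∈ B := fun x => by
      by_contra hx; exact hall ⟨x, hx⟩
    exact ⟨⟨fun a b => hBa a (hall' a) b (hall' b)⟩⟩
  have hZB : ∀ z ∈ Subgroup.center X, z ∈ B ∧ z * z = 1 := by
    intro z hz
    have hzB : z ∈ B := hsc z (fun b _ => ((Subgroup.mem_center_iff.mp hz) b).symm)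
    exact ⟨hzB, hstar x0 hx0 z hzB ((Subgroup.mem_center_iff.mp hz) x0)⟩
  refine ⟨⟨hsqZ, hcommZ⟩, fun z hz => (hZB z hz).2, ?_⟩
  have hcard := card_four hgA hA B hBa hBi hfpf hR4 (b0 * b0) hsB hs2 hb0ne
  rw [← hcard]
  exact Nat.card_congr (Equiv.subtypeEquivRight
    (fun t => ⟨fun ht => hZB t ht, fun ht => hVZ t ht.1 ht.2⟩))

end Cfsg.Agent.Lib.Helper57.T1904
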