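import Mathlib
import Cfsg.Agent.Lib.Helper40.T1904Defs
import Cfsg.Agent.Lib.Helper38.PGroup

/-!
# S1904 keystone K16 (`beta_c2`), part a: generalities

Generator of a group of automorphisms of order three, the subgroup of elements of square one of
an abelian subgroup, the displacement `dl x b = b⁻¹ * (x * b * x⁻¹)`.
-/

set_option autoImplicit false

namespace Cfsg.Agent.Lib.Helper57.T1904

open Cfsg.Agent.Lib.Helper40.T1904
open scoped commutatorElement

universe u_1

variable {X : Type u_1} [Group X]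

/-- a group of automorphisms of order three is `{1, g, g^2}` -/
theorem exists_gen_three {A : Subgroup (MulAut X)} (hA3 : Nat.card A = 3) :
    ∃ g : MulAut X, g ∈ A ∧ (∀ x : X, g (g (g x)) = x) ∧
      ∀ φ ∈ A, φ = 1 ∨ φ = g ∨ φ = g * g := by
  have hp : Fact (Nat.Prime 3) := ⟨Nat.prime_three⟩
  have hfin : Finite ↥A := Nat.finite_of_card_ne_zero (by rw [hA3]; norm_num)
  have hnt : Nontrivial ↥A := by
    rw [← Finite.one_lt_card_iff_nontrivial, hA3]; norm_num
  obtain ⟨g', hg'⟩ := exists_ne (1 : ↥A)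
  have htop : Subgroup.zpowers g' = ⊤ := zpowers_eq_top_of_prime_card hA3 hg'
  have hg3' : g' ^ 3 = 1 := by
    have := pow_card_eq_one' (G := ↥A) (x := g')
    rwa [hA3] at this
  have hg3 : (g' : MulAut X) ^ 3 = 1 := by
    have := congrArg (Subtype.val) hg3'
    simpa using this
  refine ⟨g', g'.2, ?_, ?_⟩
  · intro x
    have h1 : ((g' : MulAut X) ^ 3) x = x := by rw [hg3]; rfl
    have h2 : ((g' : MulAut X) ^ 3) x = (g' : MulAut X) ((g' : MulAut X) ((g' : MulAut X) x)) := by
      simp [pow_succ, MulAut.mul_apply]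
    rw [← h2]; exact h1
  · intro φ hφ
    have hmem : (⟨φ, hφ⟩ : ↥A) ∈ Subgroup.zpowers g' := by rw [htop]; trivial
    obtain ⟨k, hk⟩ := Subgroup.mem_zpowers_iff.mp hmem
    have hk' : (g' : MulAut X) ^ k = φ := by
      have := congrArg (Subtype.val) hk
      simpa using this
    have ho : orderOf (g' : MulAut X) ∣ 3 := orderOf_dvd_of_pow_eq_one hg3
    have hmod : (g' : MulAut X) ^ k = (g' : MulAut X) ^ (k % 3) := by
      have h3 : (g' : MulAut X) ^ (3 : ℤ) = 1 := by exact_mod_cast hg3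
      conv_lhs => rw [← Int.emod_add_mul_ediv k 3]
      rw [zpow_add, zpow_mul, h3, one_zpow, mul_one]
    have hr0 : 0 ≤ k % 3 := Int.emod_nonneg k (by norm_num)
    have hr3 : k % 3 < 3 := Int.emod_lt_of_pos k (by norm_num)
    rw [hmod] at hk'
    have hcases : k % 3 = 0 ∨ k % 3 = 1 ∨ k % 3 = 2 := by omega
    rcases hcases with h | h | h
    · left; rw [h] at hk'; rw [← hk']; simp
    · right; left; rw [h] at hk'; rw [← hk']; simp
    · right; right; rw [h] at hk'; rw [← hk']
      show (g' : MulAut X) ^ (2 : ℤ) = _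
      rw [show (2 : ℤ) = ((2 : ℕ) : ℤ) by norm_num, zpow_natCast, pow_two]

/-- the elements of square one of an abelian subgroup -/
def omegaOne (B : Subgroup X) (hBa : Ab B) : Subgroup X where
  carrier := {b | b ∈ B ∧ b * b = 1}
  one_mem' := ⟨B.one_mem, by simp⟩
  mul_mem' := by
    rintro a b ⟨ha, ha2⟩ ⟨hb, hb2⟩
    refine ⟨B.mul_mem ha hb, ?_⟩
    have hc : b * a = a * b := hBa b hb a ha
    calc a * b * (a * b) = a * (b * a) * b := by group
      _ = a * (a * b) * b := by rw [hc]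
      _ = (a * a) * (b * b) := by group
      _ = 1 := by rw [ha2, hb2, one_mul]
  inv_mem' := by
    rintro a ⟨ha, ha2⟩
    refine ⟨B.inv_mem ha, ?_⟩
    rw [← mul_inv_rev, ha2, inv_one]

theorem mem_omegaOne {B : Subgroup X} {hBa : Ab B} {b : X} :
    b ∈ omegaOne B hBa ↔ b ∈ B ∧ b * b = 1 := Iff.rfl

/-- the displacement of `b` under conjugation by `x` -/
def dl (x b : X) : X := b⁻¹ * (x * b * x⁻¹)

theorem dl_eq_one_iff (x b : X) : dl x b = 1 ↔ x * b = b * x := by
  unfold dl
  constructor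
  · intro h
    have h1 : x * b * x⁻¹ = b := by
      have := congrArg (b * ·) h
      simpa using this
    calc x * b = x * b * x⁻¹ * x := by group
      _ = b * x := by rw [h1]
  · intro h
    calc b⁻¹ * (x * b * x⁻¹) = b⁻¹ * (b * x * x⁻¹) := by rw [h]
      _ = 1 := by group

theorem dl_aut (φ : MulAut X) (x b : X) : dl (φ x) (φ b) = φ (dl x b) := by
  unfold dl
  simp only [map_mul, map_inv]

theorem conj_eq_mul_dl (x b : X) : x * b * x⁻¹ = b * dl x b := by
  unfold dl; group

/-- multiplicativity in the conjugating element, when the displacements are central -/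
theorem dl_mul_left (x y b : X) (hc : ∀ u : X, u * dl y b = dl y b * u) :
    dl (x * y) b = dl x b * dl y b := by
  have h1 : y * b * y⁻¹ = b * dl y b := conj_eq_mul_dl y b
  have h2 : x * y * b * (x * y)⁻¹ = x * (y * b * y⁻¹) * x⁻¹ := by group
  unfold dl at *
  rw [h2, h1]
  have h3 : x * (b * (b⁻¹ * (y * b * y⁻¹))) * x⁻¹ = x * b * x⁻¹ * (b⁻¹ * (y * b * y⁻¹)) := by
    have := hc x⁻¹
    calc x * (b * (b⁻¹ * (y * b * y⁻¹))) * x⁻¹
        = x * b * ((b⁻¹ * (y * b * y⁻¹)) * x⁻¹) := by group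
      _ = x * b * (x⁻¹ * (b⁻¹ * (y * b * y⁻¹))) := by rw [← this]
      _ = x * b * x⁻¹ * (b⁻¹ * (y * b * y⁻¹)) := by group
  rw [h3]; group

/-- multiplicativity in the conjugated element, when the displacements are central -/
theorem dl_mul_right (x b c : X) (hc : ∀ u : X, u * dl x b = dl x b * u) :
    dl x (b * c) = dl x b * dl x c := by
  have h1 : x * (b * c) * x⁻¹ = (x * b * x⁻¹) * (x * c * x⁻¹) := by group
  have h2 : x * b * x⁻¹ = b * dl x b := conj_eq_mul_dl x b
  have h3 := hc c⁻¹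
  unfold dl at *
  rw [h1]
  calc (b * c)⁻¹ * (x * b * x⁻¹ * (x * c * x⁻¹))
      = c⁻¹ * (b⁻¹ * (x * b * x⁻¹)) * (x * c * x⁻¹) := by group
    _ = (b⁻¹ * (x * b * x⁻¹)) * c⁻¹ * (x * c * x⁻¹) := by rw [h3]
    _ = b⁻¹ * (x * b * x⁻¹) * (c⁻¹ * (x * c * x⁻¹)) := by group

theorem dl_one_left (b : X) : dl 1 b = 1 := by unfold dl; group

theorem dl_one_right (x : X) : dl x 1 = 1 := by unfold dl; group

end Cfsg.Agent.Lib.Helper57.T1904
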