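import Cfsg.Agent.Lib.Helper57.T1904C2a

/-!
# S1904 keystone K16 (`beta_c2`), part b: the four-group `V = Ω₁(B)` and the norm
-/

set_option autoImplicit false

namespace Cfsg.Agent.Lib.Helper57.T1904

open Cfsg.Agent.Lib.Helper40.T1904
open scoped commutatorElement

universe u_1

variable {X : Type u_1} [Group X]

/-- fixed by `g` implies fixed by `A = {1, g, g*g}` -/
theorem fixed_of_gen {A : Subgroup (MulAut X)} {g : MulAut X}
    (hA : ∀ φ ∈ A, φ = 1 ∨ φ = g ∨ φ = g * g) {n : X} (hn : g n = n) : ∀ φ ∈ A, φ n = n := by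
  intro φ hφ
  rcases hA φ hφ with h | h | h
  · rw [h]; rfl
  · rw [h]; exact hn
  · rw [h, MulAut.mul_apply, hn, hn]

/-- the four listed elements are pairwise different -/
theorem four_inj {A : Subgroup (MulAut X)} {g : MulAut X} (hgA : g ∈ A)
    (hA : ∀ φ ∈ A, φ = 1 ∨ φ = g ∨ φ = g * g)
    (B : Subgroup X) (hBa : Ab B) (hBi : Inv A B) (hfpf : Fpf A B)
    (t : X) (htB : t ∈ B) (ht2 : t * t = 1) (ht1 : t ≠ 1) :
    ∃ f : Fin 4 → {t : X // t ∈ B ∧ t * t = 1}, Function.Injective f ∧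
      ∀ i, (f i : X) = 1 ∨ (f i : X) = t ∨ (f i : X) = g t ∨ (f i : X) = t * g t := by
  have hgtB : g t ∈ B := hBi g hgA t htB
  have hgt2 : g t * g t = 1 := by rw [← map_mul, ht2, map_one]
  have hgt1 : g t ≠ 1 := by
    intro h; exact ht1 ((MulEquiv.map_eq_one_iff g).mp h)
  have hgt : g t ≠ t := by
    intro h
    exact ht1 (hfpf t htB (fixed_of_gen hA h))
  have htinv : t⁻¹ = t := inv_eq_of_mul_eq_one_left ht2
  have hprod : (t * g t) * (t * g t) = 1 := by
    have hc : g t * t = t * g t := hBa (g t) hgtB t htB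
    calc (t * g t) * (t * g t) = t * (g t * t) * g t := by group
      _ = t * (t * g t) * g t := by rw [hc]
      _ = (t * t) * (g t * g t) := by group
      _ = 1 := by rw [ht2, hgt2, one_mul]
  have hp1 : t * g t ≠ 1 := by
    intro h
    have : g t = t⁻¹ := (inv_eq_of_mul_eq_one_right h).symm
    rw [htinv] at this
    exact hgt this
  have hpt : t * g t ≠ t := by
    intro h
    exact hgt1 (by simpa using h)
  have hpg : t * g t ≠ g t := by
    intro h
    exact ht1 (by simpa using h)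
  refine ⟨![⟨1, B.one_mem, by simp⟩, ⟨t, htB, ht2⟩, ⟨g t, hgtB, hgt2⟩,
    ⟨t * g t, B.mul_mem htB hgtB, hprod⟩], ?_, ?_⟩
  · intro i j hij
    have hv := congrArg Subtype.val hij
    fin_cases i <;> fin_cases j <;> simp at hv ⊢
    all_goals first
      | exact absurd hv ht1 | exact absurd hv.symm ht1
      | exact absurd hv hgt1 | exact absurd hv.symm hgt1
      | exact absurd hv hgt | exact absurd hv.symm hgt
      | exact absurd hv hp1 | exact absurd hv.symm hp1
      | exact absurd hv hpt | exact absurd hv.symm hpt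
      | exact absurd hv hpg | exact absurd hv.symm hpg
  · intro i
    fin_cases i <;> simp

/-- In a set of at most four elements of square one in `B`, stable under `g` without fixed
points: everything is `1, t, g t` or `t * g t`. -/
theorem four_cases [Finite X] {A : Subgroup (MulAut X)} {g : MulAut X} (hgA : g ∈ A)
    (hA : ∀ φ ∈ A, φ = 1 ∨ φ = g ∨ φ = g * g)
    (B : Subgroup X) (hBa : Ab B) (hBi : Inv A B) (hfpf : Fpf A B)
    (h4 : Nat.card {t : X // t ∈ B ∧ t * t = 1} ≤ 4)
    (t : X) (htB : t ∈ B) (ht2 : t * t = 1) (ht1 : t ≠ 1)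
    (v : X) (hvB : v ∈ B) (hv2 : v * v = 1) :
    v = 1 ∨ v = t ∨ v = g t ∨ v = t * g t := by
  obtain ⟨f, hf, hfv⟩ := four_inj hgA hA B hBa hBi hfpf t htB ht2 ht1
  have hbij : Function.Bijective f :=
    hf.bijective_of_nat_card_le (by rw [Nat.card_fin]; exact h4)
  obtain ⟨i, hi⟩ := hbij.2 ⟨v, hvB, hv2⟩
  have := hfv i
  rw [hi] at this
  exact this

/-- the set of elements of square one has exactly four elements -/
theorem card_four [Finite X] {A : Subgroup (MulAut X)} {g : MulAut X} (hgA : g ∈ A)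
    (hA : ∀ φ ∈ A, φ = 1 ∨ φ = g ∨ φ = g * g)
    (B : Subgroup X) (hBa : Ab B) (hBi : Inv A B) (hfpf : Fpf A B)
    (h4 : Nat.card {t : X // t ∈ B ∧ t * t = 1} ≤ 4)
    (t : X) (htB : t ∈ B) (ht2 : t * t = 1) (ht1 : t ≠ 1) :
    Nat.card {t : X // t ∈ B ∧ t * t = 1} = 4 := by
  obtain ⟨f, hf, -⟩ := four_inj hgA hA B hBa hBi hfpf t htB ht2 ht1
  have hbij : Function.Bijective f :=
    hf.bijective_of_nat_card_le (by rw [Nat.card_fin]; exact h4)
  rw [← Nat.card_eq_of_bijective f hbij, Nat.card_fin]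

end Cfsg.Agent.Lib.Helper57.T1904
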