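import Mathlib
import Cfsg.Agent.Lib.Helper40.T1904Defs
import Cfsg.Agent.Lib.Helper04.MaxAbelBound

/-!
# S1904 keystone K17 (`conj_mod_sq`): `X` acts trivially on `B / B²`
-/

set_option autoImplicit false

namespace Cfsg.Agent.Lib.Helper57.T1904

open Cfsg.Agent.Lib.Helper40.T1904
open scoped commutatorElement

universe u_1

variable {X : Type u_1} [Group X]

/-- squaring on an abelian subgroup -/
def sqHom (B : Subgroup X) (hBa : Ab B) : ↥B →* ↥B where
  toFun b := b * b
  map_one' := by simp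
  map_mul' := by
    intro a b
    have hc : (b : X) * a = a * b := hBa b b.2 a a.2
    apply Subtype.ext
    show (a : X) * b * (a * b) = a * a * (b * b)
    calc (a : X) * b * (a * b) = a * (b * a) * b := by group
      _ = a * (a * b) * b := by rw [hc]
      _ = a * a * (b * b) := by group

/-- the subgroup of squares of an abelian subgroup -/
def sqSub (B : Subgroup X) (hBa : Ab B) : Subgroup X := (sqHom B hBa).range.map B.subtype

theorem mem_sqSub {B : Subgroup X} {hBa : Ab B} {y : X} :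
    y ∈ sqSub B hBa ↔ ∃ d ∈ B, y = d * d := by
  unfold sqSub
  constructor
  · rintro ⟨b, ⟨d, rfl⟩, rfl⟩
    exact ⟨d, d.2, rfl⟩
  · rintro ⟨d, hd, rfl⟩
    exact ⟨⟨d, hd⟩ * ⟨d, hd⟩, ⟨⟨d, hd⟩, rfl⟩, rfl⟩

theorem sqSub_normal {B : Subgroup X} {hBa : Ab B} (hBn : B.Normal) : (sqSub B hBa).Normal := by
  constructor
  intro y hy x
  obtain ⟨d, hd, rfl⟩ := mem_sqSub.mp hy
  exact mem_sqSub.mpr ⟨x * d * x⁻¹, hBn.conj_mem d hd x, by group⟩

theorem card_map_le [Finite X] (B : Subgroup X) (hBa : Ab B) [hSn : (sqSub B hBa).Normal]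
    (h4 : Nat.card {t : X // t ∈ B ∧ t * t = 1} ≤ 4) :
    Nat.card ↥(B.map (QuotientGroup.mk' (sqSub B hBa))) ≤ 4 := by
  let π := QuotientGroup.mk' (sqSub B hBa)
  let π' : ↥B →* X ⧸ sqSub B hBa := π.comp B.subtype
  have hr : π'.range = B.map π := by
    rw [MonoidHom.range_comp, Subgroup.range_subtype]
  have hk : π'.ker = (sqHom B hBa).range := by
    ext b
    rw [MonoidHom.mem_ker]
    show π (b : X) = 1 ↔ _
    rw [QuotientGroup.mk'_apply, QuotientGroup.eq_one_iff]
    exact Subgroup.mem_map_iff_mem B.subtype_injective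
  have e1 : Nat.card π'.ker * Nat.card π'.range = Nat.card ↥B := by
    rw [← Subgroup.index_ker, Subgroup.card_mul_index]
  have e2 : Nat.card (sqHom B hBa).ker * Nat.card (sqHom B hBa).range = Nat.card ↥B := by
    rw [← Subgroup.index_ker, Subgroup.card_mul_index]
  have e3 : Nat.card (sqHom B hBa).ker = Nat.card {t : X // t ∈ B ∧ t * t = 1} := by
    refine Nat.card_congr
      { toFun := fun k => ⟨(k : ↥B), (k : ↥B).2, ?_⟩
        invFun := fun t => ⟨⟨t, t.2.1⟩, ?_⟩
        left_inv := fun k => rfl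
        right_inv := fun t => rfl }
    · have h1 : sqHom B hBa (k : ↥B) = 1 := k.2
      exact congrArg Subtype.val h1
    · show sqHom B hBa ⟨t, t.2.1⟩ = 1
      apply Subtype.ext
      exact t.2.2
  rw [hk, hr] at e1
  have hpos : 0 < Nat.card (sqHom B hBa).range := Nat.card_pos
  have e4 : Nat.card ↥(B.map π) = Nat.card (sqHom B hBa).ker := by
    have : Nat.card (sqHom B hBa).range * Nat.card ↥(B.map π)
        = Nat.card (sqHom B hBa).range * Nat.card (sqHom B hBa).ker := by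
      rw [e1, mul_comm, e2]
    exact Nat.eq_of_mul_eq_mul_left hpos this
  rw [e4, e3]; exact h4

/-- K17 of helper40's blueprint for S1904.  `X` acts trivially on `B/B²`. -/
theorem conj_mod_sq [Finite X] {A : Subgroup (MulAut X)} (h : Ctx X A) (B : Subgroup X)
    (hBn : B.Normal) (hBa : Ab B) (hBi : Inv A B) :
    ∀ x : X, ∀ b ∈ B, ∃ d ∈ B, x * b * x⁻¹ = b * (d * d) := by
  have hSn : (sqSub B hBa).Normal := sqSub_normal hBn
  have hp2 : Fact (Nat.Prime 2) := ⟨Nat.prime_two⟩
  let π := QuotientGroup.mk' (sqSub B hBa)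
  have hπs : Function.Surjective π := QuotientGroup.mk'_surjective _
  have hNn : (B.map π).Normal := Subgroup.Normal.map hBn π hπs
  have hNab : IsMulCommutative ↥(B.map π) := by
    refine ⟨⟨?_⟩⟩
    rintro ⟨n, b, hb, rfl⟩ ⟨m, c, hc, rfl⟩
    apply Subtype.ext
    show π b * π c = π c * π b
    rw [← map_mul, ← map_mul, hBa b hb c hc]
  have hQ2 : IsPGroup 2 (X ⧸ sqSub B hBa) := h.h2.to_quotient _
  obtain ⟨a, ha⟩ := IsPGroup.exists_card_eq (hQ2.to_subgroup (B.map π))
  have hN4 : Nat.card ↥(B.map π) ≤ 4 := card_map_le B hBa (h.hR B hBn hBa)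
  have ha2 : a ≤ 2 := by
    by_contra hlt
    have h3 : 3 ≤ a := by omega
    have : 2 ^ 3 ≤ 2 ^ a := Nat.pow_le_pow_right (by norm_num) h3
    rw [ha] at hN4
    omega
  have hidx := Cfsg.Agent.Lib.Helper04.index_centralizer_le hQ2 a (B.map π) hNn hNab ha
  have hidx2 : (Subgroup.centralizer ((B.map π : Subgroup (X ⧸ sqSub B hBa)) : Set (X ⧸ sqSub B hBa))).index ≤ 2 := by
    have hle : 2 ^ (a * (a - 1) / 2) ≤ 2 := by
      interval_cases a <;> norm_num
    exact hidx.trans hle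
  set C := (Subgroup.centralizer ((B.map π : Subgroup (X ⧸ sqSub B hBa)) : Set (X ⧸ sqSub B hBa))).comap π with hC
  have hCidx : C.index ≤ 2 := by
    rw [hC, Subgroup.index_comap_of_surjective _ hπs]; exact hidx2
  have hCmem : ∀ x : X, x ∈ C ↔ ∀ b ∈ B, b⁻¹ * (x * b * x⁻¹) ∈ sqSub B hBa := by
    intro x
    rw [hC, Subgroup.mem_comap, Subgroup.mem_centralizer_iff]
    constructor
    · intro hx b hb
      have h1 : π b * π x = π x * π b := hx (π b) ⟨b, hb, rfl⟩
      rw [← QuotientGroup.eq_one_iff, ← QuotientGroup.mk'_apply]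
      show π (b⁻¹ * (x * b * x⁻¹)) = 1
      rw [map_mul, map_mul, map_mul, map_inv, map_inv, ← h1]
      group
    · rintro hx n ⟨b, hb, rfl⟩
      have h1 : π (b⁻¹ * (x * b * x⁻¹)) = 1 := by
        rw [QuotientGroup.mk'_apply, QuotientGroup.eq_one_iff]; exact hx b hb
      rw [map_mul, map_mul, map_mul, map_inv, map_inv] at h1
      have h2 : π x * π b * (π x)⁻¹ = π b := by
        have := congrArg (π b * ·) h1
        simpa [mul_assoc] using this
      calc π b * π x = (π x * π b * (π x)⁻¹) * π x := by rw [h2]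
        _ = π x * π b := by group
  have hCinv : ∀ φ ∈ A, ∀ x ∈ C, φ x ∈ C := by
    intro φ hφ x hx
    rw [hCmem] at hx ⊢
    intro b hb
    have hφi : φ⁻¹ ∈ A := A.inv_mem hφ
    have hb1 : φ⁻¹ b ∈ B := hBi φ⁻¹ hφi b hb
    obtain ⟨d, hd, hdd⟩ := mem_sqSub.mp (hx (φ⁻¹ b) hb1)
    refine mem_sqSub.mpr ⟨φ d, hBi φ hφ d hd, ?_⟩
    have h1 := congrArg φ hdd
    simp only [map_mul, map_inv] at h1
    have h2 : φ (φ⁻¹ b) = b := by
      rw [← MulAut.mul_apply, mul_inv_cancel]; rfl
    rw [h2] at h1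
    exact h1
  have hgens : ∀ φ ∈ A, ∀ x : X, x⁻¹ * φ x ∈ C := by
    intro φ hφ x
    have hne : C.index ≠ 0 := Subgroup.index_ne_zero_of_finite
    have hcases : C.index = 1 ∨ C.index = 2 := by omega
    rcases hcases with h1 | h2
    · rw [Subgroup.index_eq_one] at h1
      rw [h1]; trivial
    · rw [Subgroup.mul_mem_iff_of_index_two h2, inv_mem_iff]
      constructor
      · exact hCinv φ hφ x
      · intro hφx
        have := hCinv φ⁻¹ (A.inv_mem hφ) (φ x) hφx
        have h3 : φ⁻¹ (φ x) = x := by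
          rw [← MulAut.mul_apply, inv_mul_cancel]; rfl
        rwa [h3] at this
  have htop : C = ⊤ := by
    rw [eq_top_iff, ← h.hgen, Subgroup.closure_le]
    rintro t ⟨φ, hφ, x, rfl⟩
    exact hgens φ hφ x
  intro x b hb
  have hx : x ∈ C := by rw [htop]; trivial
  obtain ⟨d, hd, hdd⟩ := mem_sqSub.mp ((hCmem x).mp hx b hb)
  refine ⟨d, hd, ?_⟩
  rw [← hdd]; group

end Cfsg.Agent.Lib.Helper57.T1904
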