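import Cfsg.Agent.Lib.Helper41.SecFusionMain
import Cfsg.Agent.Lib.Helper54.Subnormal
import Cfsg.Agent.Lib.Helper20.SylowNormal

/-!
# Base lemmas for the triple factorization theorem (S1997)

`cc H Y`: the subgroup generated by the `H`-conjugates of `Y`; a splitting lemma for a subgroup whose
Sylow `p`-subgroups are central; a Frattini factorization inside a subgroup.
-/

set_option autoImplicit false
universe u

namespace Cfsg.Agent.Lib.Helper57.TripleFac

open Cfsg Cfsg.Agent.Lib.Helper41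

variable {G : Type u} [Group G]

/-- the subgroup generated by the conjugates `n Y n⁻¹`, `n ∈ H` -/
def cc (H Y : Subgroup G) : Subgroup G := ⨆ n : H, lc (n : G) Y

theorem lc_le_cc {H Y : Subgroup G} {n : G} (hn : n ∈ H) : lc n Y ≤ cc H Y :=
  le_iSup (fun n : H => lc (n : G) Y) ⟨n, hn⟩

theorem cc_le_iff {H Y K : Subgroup G} : cc H Y ≤ K ↔ ∀ n ∈ H, lc n Y ≤ K := by
  unfold cc
  rw [iSup_le_iff]
  exact ⟨fun h n hn => h ⟨n, hn⟩, fun h n => h n n.2⟩

theorem cc_mono {H H' Y : Subgroup G} (h : H ≤ H') : cc H Y ≤ cc H' Y :=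
  cc_le_iff.mpr (fun _ hn => lc_le_cc (h hn))

theorem lc_one (Y : Subgroup G) : lc (1 : G) Y = Y := by
  ext x
  rw [mem_lc]
  simp

theorem le_cc (H Y : Subgroup G) : Y ≤ cc H Y := by
  have h := lc_le_cc (H := H) (Y := Y) (n := 1) H.one_mem
  rwa [lc_one] at h

/-- `cc H Y` is normalized by `H` -/
theorem lc_cc_le {H Y : Subgroup G} {h : G} (hh : h ∈ H) : lc h (cc H Y) ≤ cc H Y := by
  rw [lc_le_iff]
  apply cc_le_iff.mpr
  intro n hn
  rw [← lc_le_iff, ← lc_mul]
  exact lc_le_cc (H.mul_mem hh hn)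

theorem le_normalizer_cc [Finite G] (H Y : Subgroup G) :
    H ≤ Subgroup.normalizer ((cc H Y : Subgroup G) : Set G) :=
  fun _ hh => mem_normalizer_of_lc_le (lc_cc_le hh)

/-- if `E ⊇ Y` is normalized by `H` then `cc H Y ≤ E` -/
theorem cc_le_of_le_normalizer {H Y E : Subgroup G} (hY : Y ≤ E)
    (hE : H ≤ Subgroup.normalizer (E : Set G)) : cc H Y ≤ E := by
  apply cc_le_iff.mpr
  intro n hn
  calc lc n Y ≤ lc n E := lc_mono hY
    _ = E := mem_normalizer_iff_lc.mp (hE hn)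

theorem lc_eq_of_mem_centralizer {Y : Subgroup G} {c : G}
    (hc : c ∈ Subgroup.centralizer (Y : Set G)) : lc c Y = Y := by
  ext x
  rw [mem_lc]
  rw [Subgroup.mem_centralizer_iff] at hc
  constructor
  · intro h
    have h1 := hc _ h
    -- (c⁻¹ x c) * c = c * (c⁻¹ x c)
    have h2 : x = c⁻¹ * x * c := by
      have : c⁻¹ * x * c * c = c * (c⁻¹ * x * c) := h1
      have h3 : c⁻¹ * x * c * c * c⁻¹ = c * (c⁻¹ * x * c) * c⁻¹ := by rw [this]
      have h4 : c⁻¹ * x * c * c * c⁻¹ = c⁻¹ * x * c := by group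
      have h5 : c * (c⁻¹ * x * c) * c⁻¹ = x := by group
      rw [h4, h5] at h3
      exact h3.symm
    rw [h2]; exact h
  · intro h
    have h1 := hc _ h
    have h2 : c⁻¹ * x * c = x := by
      have : c⁻¹ * x * c = c⁻¹ * (x * c) := by group
      rw [this, h1]; group
    rw [h2]; exact h

/-- A finite subgroup `K` whose Sylow `p`-subgroups are central splits: there is a subgroup `D ≤ K` of order
prime to `p` containing every element of `K` of order prime to `p`, and a Sylow `p`-subgroup `P` of `K` with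
`K = P D`. -/
theorem exists_pprime_part [Finite G] {p : ℕ} [Fact p.Prime] (K : Subgroup G)
    (hc : ∀ P : Sylow p ↥K, ∀ x ∈ P, ∀ k : ↥K, k * x = x * k) :
    ∃ D : Subgroup G, D ≤ K ∧ (Nat.card D).Coprime p ∧
      (∀ x ∈ K, (orderOf x).Coprime p → x ∈ D) ∧
      ∃ P : Sylow p ↥K, ∀ x ∈ K, ∃ z : ↥K, z ∈ P ∧ ∃ d ∈ D, x = (z : G) * d := by
  have hp : p.Prime := Fact.out
  obtain ⟨P⟩ : Nonempty (Sylow p ↥K) := inferInstance
  have hP : Subgroup.normalizer ((P : Subgroup ↥K) : Set ↥K) ≤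
      Subgroup.centralizer ((P : Subgroup ↥K) : Set ↥K) := by
    intro k _
    rw [Subgroup.mem_centralizer_iff]
    intro x hx
    exact (hc P x hx k).symm
  have hcompl := MonoidHom.ker_transferSylow_isComplement' P hP
  set DK : Subgroup ↥K := (MonoidHom.transferSylow P hP).ker with hDK
  have hcardDK : (Nat.card DK).Coprime p := by
    have h1 : (P : Subgroup ↥K).index = Nat.card DK := hcompl.index_eq_card
    rw [← h1]
    exact ((Nat.Prime.coprime_iff_not_dvd hp).mpr P.not_dvd_index).symm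
  refine ⟨DK.map K.subtype, Subgroup.map_subtype_le _, ?_, ?_, P, ?_⟩
  · have : Nat.card (DK.map K.subtype) = Nat.card DK :=
      Nat.card_congr (DK.equivMapOfInjective K.subtype K.subtype_injective).symm.toEquiv
    rw [this]; exact hcardDK
  · intro x hx hxo
    refine ⟨⟨x, hx⟩, ?_, rfl⟩
    rw [hDK]
    show (⟨x, hx⟩ : ↥K) ∈ (MonoidHom.transferSylow P hP).ker
    rw [MonoidHom.mem_ker]
    set y := MonoidHom.transferSylow P hP ⟨x, hx⟩ with hy
    obtain ⟨k, hk⟩ := (IsPGroup.iff_orderOf.mp P.2) y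
    have h1 : orderOf y ∣ orderOf (⟨x, hx⟩ : ↥K) := orderOf_map_dvd _ _
    have h2 : orderOf (⟨x, hx⟩ : ↥K) = orderOf x := Subgroup.orderOf_mk x hx
    rw [h2, hk] at h1
    have h3 : (p ^ k).Coprime p := Nat.Coprime.coprime_dvd_left h1 hxo
    have hk0 : k = 0 := by
      by_contra hne
      have : p ∣ p ^ k := dvd_pow_self p hne
      have h4 := Nat.Coprime.eq_one_of_dvd h3.symm this
      exact hp.one_lt.ne' h4
    rw [hk0, pow_zero, orderOf_eq_one_iff] at hk
    exact hk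
  · intro x hx
    have hsymm := hcompl.symm
    obtain ⟨⟨z, d⟩, hzd⟩ := hsymm.2 (⟨x, hx⟩ : ↥K)
    refine ⟨z.1, z.2, (d.1 : G), ⟨d.1, d.2, rfl⟩, ?_⟩
    have := congrArg Subtype.val hzd
    simpa using this.symm

/-- Frattini factorization inside a subgroup `H ≥ S`: if `M ≤ H` is normalized by `H` then
`H = N_H(S ∩ M) M`. -/
theorem frattini_sub [Finite G] {p : ℕ} [Fact p.Prime] (S : Sylow p G) (H M : Subgroup G)
    (hSH : (S : Subgroup G) ≤ H) (hMH : M ≤ H) (hn : H ≤ Subgroup.normalizer (M : Set G)) :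
    ∀ x ∈ H, ∃ n ∈ H ⊓ Subgroup.normalizer ((((S : Subgroup G) ⊓ M : Subgroup G)) : Set G),
      ∃ m ∈ M, x = n * m := by
  intro x hx
  set R := (S : Subgroup G) ⊓ M with hR
  have hidx : ¬ p ∣ R.relIndex M :=
    Cfsg.Agent.Lib.Helper20.not_dvd_relIndex_inf_of_le_normalizer S M H hSH hMH hn
  have hRp : IsPGroup p R := S.2.to_le inf_le_left
  have h1 : lc x⁻¹ R ≤ M := by
    calc lc x⁻¹ R ≤ lc x⁻¹ M := lc_mono inf_le_right
      _ = M := mem_normalizer_iff_lc.mp (hn (H.inv_mem hx))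
  obtain ⟨m, hm, hmR⟩ := exists_lc_le_of_relIndex (p := p) (H := M) (P := R) inf_le_right hRp hidx
    (isPGroup_lc (g := x⁻¹) hRp) h1
  rw [← lc_mul] at hmR
  have h2 : m * x⁻¹ ∈ Subgroup.normalizer (R : Set G) := mem_normalizer_of_lc_le hmR
  refine ⟨x * m⁻¹, ⟨H.mul_mem hx (H.inv_mem (hMH hm)), ?_⟩, m, hm, by group⟩
  have : x * m⁻¹ = (m * x⁻¹)⁻¹ := by group
  rw [this]
  exact Subgroup.inv_mem _ h2

end Cfsg.Agent.Lib.Helper57.TripleFac
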