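import Cfsg.Agent.Lib.Helper57.TFMain

/-!
# The triple factorization theorem (S1997): induction and final assembly
-/

set_option autoImplicit false
universe u

namespace Cfsg.Agent.Lib.Helper57.TripleFac

open Cfsg Cfsg.Agent.Lib.Helper41 Cfsg.Agent.Lib.Helper54

variable {G : Type u} [Group G]

theorem main_eq [Finite G] {p : ℕ} [Fact p.Prime] (S : Sylow p G)
    (W₁ W₂ : ∀ (Q : Type u) [Group Q], Subgroup Q) (hW₁ : IsCharPFunctor.{u} p W₁)
    (hW₂ : IsCharPFunctor.{u} p W₂) (hfac₁ : SecFac p W₁ G) (hfac₂ : SecFac p W₂ G)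
    (hZ₁ : omegaOne p ((S : Subgroup G) ⊓ Subgroup.centralizer ((S : Subgroup G) : Set G)) ≤
      inducedFunctor W₁ (S : Subgroup G))
    (hZ₂ : omegaOne p ((S : Subgroup G) ⊓ Subgroup.centralizer ((S : Subgroup G) : Set G)) ≤
      inducedFunctor W₂ (S : Subgroup G)) :
    ∀ (n : ℕ) (H : Subgroup G), Nat.card H ≤ n → (S : Subgroup G) ≤ H →
      cc (H ⊓ Subgroup.normalizer ((inducedFunctor W₁ (S : Subgroup G) : Subgroup G) : Set G))
          (omegaOne p ((S : Subgroup G) ⊓ Subgroup.centralizer ((S : Subgroup G) : Set G))) =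
        cc (H ⊓ Subgroup.normalizer ((inducedFunctor W₂ (S : Subgroup G) : Subgroup G) : Set G))
          (omegaOne p ((S : Subgroup G) ⊓ Subgroup.centralizer ((S : Subgroup G) : Set G))) := by
  set Z := omegaOne p ((S : Subgroup G) ⊓ Subgroup.centralizer ((S : Subgroup G) : Set G)) with hZdef
  set N₁ := Subgroup.normalizer ((inducedFunctor W₁ (S : Subgroup G) : Subgroup G) : Set G) with hN₁
  set N₂ := Subgroup.normalizer ((inducedFunctor W₂ (S : Subgroup G) : Subgroup G) : Set G) with hN₂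
  have hSN₁ : (S : Subgroup G) ≤ N₁ :=
    Subgroup.le_normalizer.trans (le_normalizer_inducedFunctor W₁ hW₁ _ S.2)
  have hSN₂ : (S : Subgroup G) ≤ N₂ :=
    Subgroup.le_normalizer.trans (le_normalizer_inducedFunctor W₂ hW₂ _ S.2)
  intro n
  induction n with
  | zero =>
    intro H hH _
    exact absurd hH (by have := Nat.card_pos (α := H); omega)
  | succ n ih =>
    intro H hH hSH
    have IH' : ∀ L : Subgroup G, L < H → (S : Subgroup G) ≤ L → cc (L ⊓ N₁) Z = cc (L ⊓ N₂) Z := by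
      intro L hL hSL
      apply ih L _ hSL
      have := card_lt_card_of_lt' hL
      omega
    by_cases h1 : H ≤ N₁
    · have e1 : H ⊓ N₁ = H := inf_eq_left.mpr h1
      rw [e1]
      apply le_antisymm
      · exact normal_case S W₁ W₂ hW₂ hfac₂ hZ₁ H hSH h1 IH'
      · exact cc_mono inf_le_left
    by_cases h2 : H ≤ N₂
    · have e2 : H ⊓ N₂ = H := inf_eq_left.mpr h2
      rw [e2]
      apply le_antisymm
      · exact cc_mono inf_le_left
      · exact normal_case S W₂ W₁ hW₁ hfac₁ hZ₂ H hSH h2 (fun L hL hSL => (IH' L hL hSL).symm)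
    · have hL₁ : H ⊓ N₁ < H := lt_of_le_of_ne inf_le_left (fun h => h1 (h ▸ inf_le_right))
      have hL₂ : H ⊓ N₂ < H := lt_of_le_of_ne inf_le_left (fun h => h2 (h ▸ inf_le_right))
      have e1 := IH' (H ⊓ N₁) hL₁ (le_inf hSH hSN₁)
      have e2 := IH' (H ⊓ N₂) hL₂ (le_inf hSH hSN₂)
      have f1 : H ⊓ N₁ ⊓ N₁ = H ⊓ N₁ := by rw [inf_assoc, inf_idem]
      have f2 : H ⊓ N₂ ⊓ N₂ = H ⊓ N₂ := by rw [inf_assoc, inf_idem]
      have f3 : H ⊓ N₂ ⊓ N₁ = H ⊓ N₁ ⊓ N₂ := inf_right_comm _ _ _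
      rw [f1] at e1
      rw [f2, f3] at e2
      rw [e1, e2]

/-- all the members of a chain lie in the set of allowed steps, so the product lies in any subgroup
containing this set -/
theorem fchain_prod_mem {K : Set G} {M X : Subgroup G} (hK : ∀ y ∈ K, y ∈ X) :
    ∀ (L : List G) (B : Set G), FChain K M B L → L.prod ∈ X := by
  intro L
  induction L with
  | nil => intro B _; simp
  | cons y L ih =>
    intro B h
    rw [List.prod_cons]
    exact X.mul_mem (hK y h.2.1) (ih _ h.2.2)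

theorem final [Finite G] {p : ℕ} [Fact p.Prime] (S : Sylow p G)
    (W₁ W₂ : ∀ (Q : Type u) [Group Q], Subgroup Q) (hW₁ : IsCharPFunctor.{u} p W₁)
    (hW₂ : IsCharPFunctor.{u} p W₂) (hfac₁ : SecFac p W₁ G) (hfac₂ : SecFac p W₂ G)
    (hfam : FamilyControlsStrongFusionIn p
      {inducedFunctor (G := G) W₁, inducedFunctor (G := G) W₂} ⊤)
    (hZ₁ : omegaOne p ((S : Subgroup G) ⊓ Subgroup.centralizer ((S : Subgroup G) : Set G)) ≤
      inducedFunctor W₁ (S : Subgroup G))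
    (hZ₂ : omegaOne p ((S : Subgroup G) ⊓ Subgroup.centralizer ((S : Subgroup G) : Set G)) ≤
      inducedFunctor W₂ (S : Subgroup G))
    (A : Subgroup G)
    (hA : A = cc (Subgroup.normalizer ((inducedFunctor W₁ (S : Subgroup G) : Subgroup G) : Set G))
      (omegaOne p ((S : Subgroup G) ⊓ Subgroup.centralizer ((S : Subgroup G) : Set G)))) :
    A ≤ (S : Subgroup G) ∧ IsElementaryAbelian p A ∧ IsStronglyClosed A (S : Subgroup G) ∧
      ControlsStrongFusion p A := by
  set Z := omegaOne p ((S : Subgroup G) ⊓ Subgroup.centralizer ((S : Subgroup G) : Set G)) with hZdef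
  set V₁ := inducedFunctor W₁ (S : Subgroup G) with hV₁
  set N₁ := Subgroup.normalizer ((V₁ : Subgroup G) : Set G) with hN₁
  set N₂ := Subgroup.normalizer ((inducedFunctor W₂ (S : Subgroup G) : Subgroup G) : Set G) with hN₂
  have hV₁S : V₁ ≤ (S : Subgroup G) := inducedFunctor_le W₁ _
  -- `A` is normalized by `N₁` and `N₂`
  have hmain := main_eq S W₁ W₂ hW₁ hW₂ hfac₁ hfac₂ hZ₁ hZ₂ (Nat.card (⊤ : Subgroup G)) ⊤ le_rfl le_top
  rw [top_inf_eq, top_inf_eq] at hmain
  have hAN₁ : N₁ ≤ Subgroup.normalizer ((A : Subgroup G) : Set G) := by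
    rw [hA]; exact le_normalizer_cc N₁ Z
  have hAN₂ : N₂ ≤ Subgroup.normalizer ((A : Subgroup G) : Set G) := by
    rw [hA, hmain]; exact le_normalizer_cc N₂ Z
  -- `A` lies in the `p`-torsion of the centre of `V₁`
  let Ω : Subgroup G :=
    { carrier := {x | x ∈ V₁ ⊓ Subgroup.centralizer ((V₁ : Subgroup G) : Set G) ∧ x ^ p = 1}
      one_mem' := ⟨Subgroup.one_mem _, one_pow p⟩
      mul_mem' := by
        rintro x y ⟨hx, hxp⟩ ⟨hy, hyp⟩
        refine ⟨Subgroup.mul_mem _ hx hy, ?_⟩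
        have hc : Commute x y := ((Subgroup.mem_centralizer_iff.mp hy.2) x hx.1)
        rw [hc.mul_pow, hxp, hyp, one_mul]
      inv_mem' := by
        rintro x ⟨hx, hxp⟩
        exact ⟨Subgroup.inv_mem _ hx, by rw [inv_pow, hxp, inv_one]⟩ }
  have hΩmem : ∀ x, x ∈ Ω ↔ (x ∈ V₁ ⊓ Subgroup.centralizer ((V₁ : Subgroup G) : Set G) ∧ x ^ p = 1) :=
    fun _ => Iff.rfl
  have hZΩ : Z ≤ Ω := by
    rw [hZdef]
    unfold omegaOne
    rw [Subgroup.closure_le]
    rintro z ⟨hz, hzp⟩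
    have hzZ : z ∈ Z := Subgroup.subset_closure ⟨hz, hzp⟩
    exact ⟨⟨hZ₁ hzZ, Subgroup.centralizer_le hV₁S hz.2⟩, hzp⟩
  have hΩn : N₁ ≤ Subgroup.normalizer ((Ω : Subgroup G) : Set G) := by
    intro n hn
    apply mem_normalizer_of_lc_le
    intro x hx
    rw [mem_lc, hΩmem] at hx
    obtain ⟨⟨hx1, hx2⟩, hx3⟩ := hx
    set y := n⁻¹ * x * n with hy
    replace hx1 : y ∈ V₁ := hx1
    replace hx2 : y ∈ Subgroup.centralizer ((V₁ : Subgroup G) : Set G) := hx2
    have hxy : x = n * y * n⁻¹ := by rw [hy]; group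
    have hnV : ∀ v, v ∈ V₁ ↔ n * v * n⁻¹ ∈ V₁ := Subgroup.mem_normalizer_iff.mp hn
    rw [hΩmem]
    refine ⟨⟨?_, ?_⟩, ?_⟩
    · show x ∈ V₁
      rw [hxy]; exact (hnV y).mp hx1
    · show x ∈ Subgroup.centralizer ((V₁ : Subgroup G) : Set G)
      rw [Subgroup.mem_centralizer_iff] at hx2 ⊢
      intro v hv
      have hv' : n⁻¹ * v * n ∈ V₁ := by
        rw [hnV]
        have : n * (n⁻¹ * v * n) * n⁻¹ = v := by group
        rw [this]; exact hv
      have h1 := hx2 _ hv'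
      have e1 : v * x = n * (n⁻¹ * v * n * y) * n⁻¹ := by rw [hxy]; group
      have e2 : x * v = n * (y * (n⁻¹ * v * n)) * n⁻¹ := by rw [hxy]; group
      rw [e1, e2, h1]
    · have : x ^ p = n * y ^ p * n⁻¹ := by
        rw [hxy]
        exact conj_pow
      rw [this, hx3]; group
  have hAΩ : A ≤ Ω := by
    rw [hA]
    exact cc_le_of_le_normalizer hZΩ hΩn
  have hAS : A ≤ (S : Subgroup G) := fun x hx => hV₁S ((hΩmem x).mp (hAΩ hx)).1.1
  refine ⟨hAS, ⟨⟨⟨fun a b => ?_⟩⟩, fun a ha => ((hΩmem a).mp (hAΩ ha)).2⟩, ?_, ?_⟩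
  · apply Subtype.ext
    have ha := ((hΩmem a.1).mp (hAΩ a.2)).1
    have hb := ((hΩmem b.1).mp (hAΩ b.2)).1
    exact ((Subgroup.mem_centralizer_iff.mp hb.2) a.1 ha.1)
  all_goals
    have h𝓦 : ∀ F ∈ ({inducedFunctor (G := G) W₁, inducedFunctor (G := G) W₂} :
        Set (Subgroup G → Subgroup G)), IsConjugacyFunctor p F := by
      intro F hF
      rcases hF with h | h
      · rw [h]; exact isConjugacyFunctor_inducedFunctor W₁ hW₁ G
      · rw [Set.mem_singleton_iff.mp h]; exact isConjugacyFunctor_inducedFunctor W₂ hW₂ G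
    have hctl : FCtrlAt ({inducedFunctor (G := G) W₁, inducedFunctor (G := G) W₂} :
        Set (Subgroup G → Subgroup G)) ⊤ (S : Subgroup G) :=
      fctrlAt_of_controls h𝓦 hfam le_top S.2 (sylow_relIndex_top S)
    have hstep : ∀ y ∈ stepSet ({inducedFunctor (G := G) W₁, inducedFunctor (G := G) W₂} :
        Set (Subgroup G → Subgroup G)) ⊤ (S : Subgroup G),
        y ∈ Subgroup.normalizer ((A : Subgroup G) : Set G) := by
      rintro y ⟨F, hF, hy⟩
      rcases hF with h | h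
      · rw [h] at hy; exact hAN₁ hy.2
      · rw [Set.mem_singleton_iff.mp h] at hy; exact hAN₂ hy.2
  · -- strongly closed
    refine ⟨hAS, fun x hx g hg => ?_⟩
    have h1 : rconj g⁻¹ ({x} : Set G) ⊆ (S : Subgroup G) := by
      rintro _ ⟨a, ha, rfl⟩
      rw [Set.mem_singleton_iff] at ha
      rw [ha]
      show g⁻¹⁻¹ * x * g⁻¹ ∈ (S : Subgroup G)
      rw [inv_inv]
      exact hg
    obtain ⟨L, hL, hLx⟩ := hctl {x} g⁻¹ (Subgroup.mem_top _) (by
      intro a ha; rw [Set.mem_singleton_iff] at ha; rw [ha]; exact hAS hx) h1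
    have h2 := fchain_prod_mem hstep L _ hL
    have h3 := hLx x rfl
    rw [inv_inv] at h3
    rw [← h3]
    have h4 := (Subgroup.mem_normalizer_iff.mp (Subgroup.inv_mem _ h2) x).mp hx
    simpa using h4
  · -- control of strong fusion
    refine ⟨S, hAS, fun B hB => ⟨hB, fun g hg => ?_⟩⟩
    have h1 : rconj g⁻¹ B ⊆ (S : Subgroup G) := by
      rintro _ ⟨a, ha, rfl⟩
      have := hg ⟨a, ha, rfl⟩
      simpa using this
    obtain ⟨L, hL, hLx⟩ := hctl B g⁻¹ (Subgroup.mem_top _) hB h1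
    have h2 := fchain_prod_mem hstep L _ hL
    refine ⟨L.prod⁻¹, Subgroup.inv_mem _ h2, fun a ha => ?_⟩
    have h3 := hLx a ha
    rw [inv_inv] at h3
    rw [inv_inv, h3]

/-- the normal closure of `Z` in a subgroup `N ≥ Z`, viewed in `G`, is generated by the `N`-conjugates of `Z` -/
theorem normalClosure_map_eq_cc (N Z : Subgroup G) (hZN : Z ≤ N) :
    (Subgroup.normalClosure (((Z.subgroupOf N : Subgroup ↥N)) : Set ↥N)).map N.subtype = cc N Z := by
  apply le_antisymm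
  · rw [Subgroup.map_le_iff_le_comap]
    unfold Subgroup.normalClosure
    rw [Subgroup.closure_le]
    intro x hx
    rw [Group.mem_conjugatesOfSet_iff] at hx
    obtain ⟨a, ha, hax⟩ := hx
    rw [isConj_iff] at hax
    obtain ⟨c, hc⟩ := hax
    rw [SetLike.mem_coe, Subgroup.mem_comap]
    have h1 : (N.subtype x : G) = (c : G) * (a : G) * (c : G)⁻¹ := by
      rw [← hc]; rfl
    rw [h1]
    exact lc_le_cc c.2 (conj_mem_lc (Subgroup.mem_subgroupOf.mp ha))
  · apply cc_le_iff.mpr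
    intro n hn x hx
    rw [mem_lc] at hx
    set z := n⁻¹ * x * n with hz
    have hxz : x = n * z * n⁻¹ := by rw [hz]; group
    have hzN : z ∈ N := hZN hx
    refine ⟨(⟨n, hn⟩ : ↥N) * ⟨z, hzN⟩ * (⟨n, hn⟩ : ↥N)⁻¹, ?_, ?_⟩
    · apply Subgroup.normalClosure_normal.conj_mem
      apply Subgroup.subset_normalClosure
      exact Subgroup.mem_subgroupOf.mpr hx
    · rw [hxz]; rfl

end Cfsg.Agent.Lib.Helper57.TripleFac
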