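import Cfsg.Agent.Lib.Helper57.TFSection
import Cfsg.Agent.Lib.Helper54.PReduced

/-!
# The triple factorization theorem (S1997): the main induction

For a Sylow `p`-subgroup `S`, `Z = Ω₁ Z(S) ≤ W₁(S) ∩ W₂(S)` and the factorizations
`Y = C_Y(Ω₁ Z(T)) N_Y(Wᵢ(T))` in the constrained sections of `G`, the subgroups generated by the conjugates of
`Z` under `N_H(W₁(S))` and under `N_H(W₂(S))` coincide, for every subgroup `H ≥ S`.
-/

set_option autoImplicit false
universe u

namespace Cfsg.Agent.Lib.Helper57.TripleFac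

open Cfsg Cfsg.Agent.Lib.Helper41 Cfsg.Agent.Lib.Helper54

variable {G : Type u} [Group G]

theorem inf_eq_bot_of_isPGroup_of_coprime [Finite G] {p : ℕ} [Fact p.Prime] {Q D : Subgroup G}
    (hQ : IsPGroup p Q) (hD : (Nat.card D).Coprime p) : Q ⊓ D = ⊥ := by
  apply disjoint_iff.mp
  apply Subgroup.disjoint_of_coprime_natCard
  obtain ⟨n, hn⟩ := IsPGroup.iff_card.mp hQ
  rw [hn]
  exact Nat.Coprime.pow_left n hD.symm

theorem mem_centralizer_closure_of_forall {s : Set G} {a : G} (h : ∀ z ∈ s, a * z = z * a) :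
    a ∈ Subgroup.centralizer ((Subgroup.closure s : Subgroup G) : Set G) := by
  have h1 : Subgroup.closure s ≤ Subgroup.centralizer ({a} : Set G) := by
    rw [Subgroup.closure_le]
    intro z hz
    rw [SetLike.mem_coe, Subgroup.mem_centralizer_iff]
    intro y hy
    rw [Set.mem_singleton_iff] at hy
    rw [hy]
    exact h z hz
  rw [Subgroup.mem_centralizer_iff]
  intro z hz
  have h2 := h1 hz
  rw [Subgroup.mem_centralizer_iff] at h2
  exact (h2 a rfl).symm

theorem normal_case [Finite G] {p : ℕ} [Fact p.Prime] (S : Sylow p G)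
    (W W' : ∀ (Q : Type u) [Group Q], Subgroup Q) (hW' : IsCharPFunctor.{u} p W')
    (hfac : SecFac p W' G)
    (hZV : omegaOne p ((S : Subgroup G) ⊓ Subgroup.centralizer ((S : Subgroup G) : Set G)) ≤
      inducedFunctor W (S : Subgroup G))
    (H : Subgroup G) (hSH : (S : Subgroup G) ≤ H)
    (hHV : H ≤ Subgroup.normalizer ((inducedFunctor W (S : Subgroup G) : Subgroup G) : Set G))
    (IH : ∀ L : Subgroup G, L < H → (S : Subgroup G) ≤ L →
      cc (L ⊓ Subgroup.normalizer ((inducedFunctor W (S : Subgroup G) : Subgroup G) : Set G))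
          (omegaOne p ((S : Subgroup G) ⊓ Subgroup.centralizer ((S : Subgroup G) : Set G))) =
        cc (L ⊓ Subgroup.normalizer ((inducedFunctor W' (S : Subgroup G) : Subgroup G) : Set G))
          (omegaOne p ((S : Subgroup G) ⊓ Subgroup.centralizer ((S : Subgroup G) : Set G)))) :
    cc H (omegaOne p ((S : Subgroup G) ⊓ Subgroup.centralizer ((S : Subgroup G) : Set G))) ≤
      cc (H ⊓ Subgroup.normalizer ((inducedFunctor W' (S : Subgroup G) : Subgroup G) : Set G))
        (omegaOne p ((S : Subgroup G) ⊓ Subgroup.centralizer ((S : Subgroup G) : Set G))) := by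
  have hp : p.Prime := Fact.out
  set Z := omegaOne p ((S : Subgroup G) ⊓ Subgroup.centralizer ((S : Subgroup G) : Set G)) with hZdef
  set V := inducedFunctor W (S : Subgroup G) with hV
  set N' := Subgroup.normalizer ((inducedFunctor W' (S : Subgroup G) : Subgroup G) : Set G) with hN'
  set Q := pCoreOf p H with hQ
  have hQH : Q ≤ H := pCoreOf_le p H
  have hQp : IsPGroup p Q := isPGroup_pCoreOf p H
  have hQn : H ≤ Subgroup.normalizer (Q : Set G) := le_normalizer_pCoreOf p H
  have hVS : V ≤ (S : Subgroup G) := inducedFunctor_le W _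
  have hVQ : V ≤ Q := le_pCoreOf (hVS.trans hSH) hHV (S.2.to_le hVS)
  have hQS : Q ≤ (S : Subgroup G) := pCoreOf_le_sylow H S hSH
  have hZQ : Z ≤ Q := hZV.trans hVQ
  set K := H ⊓ Subgroup.centralizer (Q : Set G) with hK
  have hKH : K ≤ H := inf_le_left
  have hKn : H ≤ Subgroup.normalizer (K : Set G) := by
    intro h hh
    apply mem_normalizer_of_lc_le
    rw [hK, lc_inf, lc_eq_self_of_mem hh]
    apply inf_le_inf_left
    intro x hx
    rw [mem_lc] at hx
    rw [Subgroup.mem_centralizer_iff] at hx ⊢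
    intro q hq
    -- `h⁻¹ q h ∈ Q`
    have hq' : h⁻¹ * q * h ∈ Q := by
      have := (Subgroup.mem_normalizer_iff.mp (hQn (H.inv_mem hh)) q).mp hq
      simpa using this
    have h1 := hx _ hq'
    -- `(h⁻¹ q h) (h⁻¹ x h) = (h⁻¹ x h) (h⁻¹ q h)`
    have h2 : h⁻¹ * (q * x) * h = h⁻¹ * (x * q) * h := by
      have e1 : h⁻¹ * (q * x) * h = h⁻¹ * q * h * (h⁻¹ * x * h) := by group
      have e2 : h⁻¹ * (x * q) * h = h⁻¹ * x * h * (h⁻¹ * q * h) := by group
      rw [e1, e2, h1]
    have h3 := mul_left_cancel (mul_right_cancel h2)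
    exact h3
  have hKQ : K ≤ Subgroup.normalizer (Q : Set G) := hKH.trans hQn
  set M := Q ⊔ K with hM
  have hMH : M ≤ H := sup_le hQH hKH
  have hMn : H ≤ Subgroup.normalizer (M : Set G) := by
    intro h hh
    apply mem_normalizer_of_lc_le
    rw [hM, lc_sup, mem_normalizer_iff_lc.mp (hQn hh), mem_normalizer_iff_lc.mp (hKn hh)]
  set R := (S : Subgroup G) ⊓ M with hR
  have hfr := frattini_sub S H M hSH hMH hMn
  have hKZ : ∀ c ∈ K, lc c Z = Z := fun c hc =>
    lc_eq_of_mem_centralizer (Subgroup.centralizer_le hZQ hc.2)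
  have hQR : Q ≤ R := le_inf hQS le_sup_left
  have hstep1 : cc H Z ≤ cc (H ⊓ Subgroup.normalizer (R : Set G)) Z := by
    apply cc_le_iff.mpr
    intro x hx
    obtain ⟨n, hn, m, hm, rfl⟩ := hfr x hx
    obtain ⟨q, hq, k, hk, rfl⟩ := (mem_sup_of_le_normalizer (A := Q) (B := K) hKQ).mp hm
    have e : n * (q * k) = (n * q) * k := by group
    rw [e, lc_mul, hKZ k hk]
    apply lc_le_cc
    exact Subgroup.mul_mem _ hn ⟨hQH hq, Subgroup.le_normalizer (hQR hq)⟩
  by_cases hRn : H ≤ Subgroup.normalizer (R : Set G)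
  swap
  · -- the normalizer of `R` is proper: induction
    set L := H ⊓ Subgroup.normalizer (R : Set G) with hL
    have hLH : L < H := by
      refine lt_of_le_of_ne inf_le_left ?_
      intro h
      apply hRn
      rw [← h]
      exact inf_le_right
    have hSL : (S : Subgroup G) ≤ L := by
      refine le_inf hSH ?_
      intro s hs
      apply mem_normalizer_of_lc_le
      rw [hR, lc_inf, lc_eq_self_of_mem hs, mem_normalizer_iff_lc.mp (hMn (hSH hs))]
    have h1 := IH L hLH hSL
    have h2 : L ⊓ Subgroup.normalizer ((V : Subgroup G) : Set G) = L :=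
      inf_eq_left.mpr (inf_le_left.trans hHV)
    rw [h2] at h1
    calc cc H Z ≤ cc L Z := hstep1
      _ = cc (L ⊓ N') Z := h1
      _ ≤ cc (H ⊓ N') Z := cc_mono (inf_le_inf_right _ inf_le_left)
  · -- `R` is normal in `H`, so `R ≤ Q`
    have hRQ : R ≤ Q := le_pCoreOf (inf_le_right.trans hMH) hRn (S.2.to_le inf_le_left)
    have hidxS : ¬ p ∣ (S : Subgroup G).relIndex H := fun h =>
      S.not_dvd_index (h.trans (Subgroup.relIndex_dvd_index_of_le hSH))
    have hPQ : ∀ P : Sylow p ↥K, ∀ x ∈ P, ((x : ↥K) : G) ∈ Q := by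
      intro P x hx
      set PG : Subgroup G := (P : Subgroup ↥K).map K.subtype with hPG
      have hPGp : IsPGroup p PG := P.2.map _
      have hPGK : PG ≤ K := Subgroup.map_subtype_le _
      obtain ⟨y, hy, hyP⟩ := exists_lc_le_of_relIndex (p := p) (H := H) (P := (S : Subgroup G)) hSH S.2
        hidxS hPGp (hPGK.trans hKH)
      have h1 : lc y PG ≤ K := by
        calc lc y PG ≤ lc y K := lc_mono hPGK
          _ = K := mem_normalizer_iff_lc.mp (hKn hy)
      have h2 : lc y PG ≤ Q := (le_inf hyP (h1.trans le_sup_right)).trans hRQ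
      have h3 : PG ≤ lc y⁻¹ Q := lc_le_iff.mp h2
      rw [mem_normalizer_iff_lc.mp (hQn (H.inv_mem hy))] at h3
      exact h3 ⟨x, hx, rfl⟩
    have hc : ∀ P : Sylow p ↥K, ∀ x ∈ P, ∀ k : ↥K, k * x = x * k := by
      intro P x hx k
      have h1 := hPQ P x hx
      have h2 : ((k : ↥K) : G) ∈ Subgroup.centralizer (Q : Set G) := k.2.2
      rw [Subgroup.mem_centralizer_iff] at h2
      exact Subtype.ext (h2 _ h1).symm
    obtain ⟨D, hDK, hDc, hDall, P, hPD⟩ := exists_pprime_part (p := p) K hc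
    have hDH : D ≤ H := hDK.trans hKH
    have hDn : H ≤ Subgroup.normalizer (D : Set G) := by
      intro h hh
      apply mem_normalizer_of_lc_le
      intro x hx
      rw [mem_lc] at hx
      set d := h⁻¹ * x * h with hd
      have hxd : x = h * d * h⁻¹ := by rw [hd]; group
      have hxK : x ∈ K := by
        rw [hxd]
        exact (Subgroup.mem_normalizer_iff.mp (hKn hh) d).mp (hDK hx)
      apply hDall x hxK
      have h1 : orderOf x = orderOf d := by
        rw [hxd]
        exact orderOf_injective (MulAut.conj h).toMonoidHom (MulAut.conj h).injective d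
      rw [h1]
      exact Nat.Coprime.coprime_dvd_left (Subgroup.orderOf_dvd_natCard D hx) hDc
    have hQD : Q ⊓ D = ⊥ := inf_eq_bot_of_isPGroup_of_coprime hQp hDc
    have hcon : ∀ x ∈ H, (∀ q ∈ Q, x * q * x⁻¹ * q⁻¹ ∈ D) → ∃ q ∈ Q, ∃ d ∈ D, x = q * d := by
      intro x hx hxq
      have hxK : x ∈ K := by
        refine ⟨hx, ?_⟩
        show x ∈ Subgroup.centralizer (Q : Set G)
        rw [Subgroup.mem_centralizer_iff]
        intro q hq
        have h1 : x * q * x⁻¹ * q⁻¹ ∈ Q ⊓ D := by
          refine ⟨?_, hxq q hq⟩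
          exact Q.mul_mem ((Subgroup.mem_normalizer_iff.mp (hQn hx) q).mp hq) (Q.inv_mem hq)
        rw [hQD, Subgroup.mem_bot] at h1
        have h2 : x * q = x * q * x⁻¹ * q⁻¹ * (q * x) := by group
        rw [h1, one_mul] at h2
        exact h2.symm
      obtain ⟨z, hz, d, hd, hxzd⟩ := hPD x hxK
      exact ⟨(z : G), hPQ P z hz, d, hd, hxzd⟩
    have hsec := section_factor S W' hW' hfac H D Q hSH hDH hDn hDc hQS hQn hcon
    apply cc_le_iff.mpr
    intro x hx
    obtain ⟨b, hb, hbz⟩ := hsec x hx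
    set a := b⁻¹ * x with ha
    have haH : a ∈ H := H.mul_mem (H.inv_mem hb.1) hx
    have haZ : a ∈ Subgroup.centralizer ((Z : Subgroup G) : Set G) := by
      rw [hZdef]
      unfold omegaOne
      apply mem_centralizer_closure_of_forall
      rintro z ⟨hz, hzp⟩
      have h1 := hbz z hz hzp
      have hzQ : z ∈ Q := hZQ (Subgroup.subset_closure ⟨hz, hzp⟩)
      have h2 : a * z * a⁻¹ * z⁻¹ ∈ Q ⊓ D := by
        refine ⟨?_, h1⟩
        exact Q.mul_mem ((Subgroup.mem_normalizer_iff.mp (hQn haH) z).mp hzQ) (Q.inv_mem hzQ)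
      rw [hQD, Subgroup.mem_bot] at h2
      have h3 : a * z = a * z * a⁻¹ * z⁻¹ * (z * a) := by group
      rw [h2, one_mul] at h3
      exact h3
    have hx' : x = b * a := by rw [ha]; group
    rw [hx', lc_mul, lc_eq_of_mem_centralizer haZ]
    exact lc_le_cc hb

end Cfsg.Agent.Lib.Helper57.TripleFac
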