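import Cfsg.Agent.Lib.Helper57.TFBase

/-!
# The section step for the triple factorization theorem (S1997)

Given a factorization hypothesis `Y = C_Y(Ω₁ Z(T)) N_Y(W'(T))` in the constrained sections `Y = K/R` of `G`, we
derive the corresponding factorization (modulo a normal `p'`-subgroup `D`) in a subgroup `H ≥ S` such that
`H / D` is constrained.
-/

set_option autoImplicit false
universe u

namespace Cfsg.Agent.Lib.Helper57.TripleFac

open Cfsg Cfsg.Agent.Lib.Helper41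

variable {G : Type u} [Group G]

/-- the form of the factorization hypothesis on sections that we use -/
def SecFac (p : ℕ) (W' : ∀ (Q : Type u) [Group Q], Subgroup Q) (G : Type u) [Group G] : Prop :=
  ∀ (K R : Subgroup G) [(R.subgroupOf K).Normal],
    Subgroup.centralizer ((pCore p (↥K ⧸ R.subgroupOf K) : Subgroup (↥K ⧸ R.subgroupOf K)) :
      Set (↥K ⧸ R.subgroupOf K)) ≤ pCore p (↥K ⧸ R.subgroupOf K) →
    ∀ T : Sylow p (↥K ⧸ R.subgroupOf K), ∀ x : (↥K ⧸ R.subgroupOf K),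
      ∃ a ∈ Subgroup.centralizer ((omegaOne p ((T : Subgroup (↥K ⧸ R.subgroupOf K)) ⊓
          Subgroup.centralizer ((T : Subgroup (↥K ⧸ R.subgroupOf K)) : Set (↥K ⧸ R.subgroupOf K))) :
          Subgroup (↥K ⧸ R.subgroupOf K)) : Set (↥K ⧸ R.subgroupOf K)),
      ∃ b ∈ Subgroup.normalizer ((inducedFunctor (G := (↥K ⧸ R.subgroupOf K)) W'
          (T : Subgroup (↥K ⧸ R.subgroupOf K)) : Subgroup (↥K ⧸ R.subgroupOf K)) :
          Set (↥K ⧸ R.subgroupOf K)), x = a * b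

theorem section_factor [Finite G] {p : ℕ} [Fact p.Prime] (S : Sylow p G)
    (W' : ∀ (Q : Type u) [Group Q], Subgroup Q) (hW' : IsCharPFunctor.{u} p W')
    (hfac : SecFac p W' G)
    (H D Q : Subgroup G) (hSH : (S : Subgroup G) ≤ H) (hDH : D ≤ H)
    (hDn : H ≤ Subgroup.normalizer (D : Set G)) (hDc : (Nat.card D).Coprime p)
    (hQS : Q ≤ (S : Subgroup G)) (hQn : H ≤ Subgroup.normalizer (Q : Set G))
    (hcon : ∀ x ∈ H, (∀ q ∈ Q, x * q * x⁻¹ * q⁻¹ ∈ D) → ∃ q ∈ Q, ∃ d ∈ D, x = q * d) :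
    ∀ x ∈ H, ∃ b ∈ H ⊓ Subgroup.normalizer
        ((inducedFunctor W' (S : Subgroup G) : Subgroup G) : Set G),
      ∀ z ∈ (S : Subgroup G) ⊓ Subgroup.centralizer ((S : Subgroup G) : Set G), z ^ p = 1 →
        (b⁻¹ * x) * z * (b⁻¹ * x)⁻¹ * z⁻¹ ∈ D := by
  have hp : p.Prime := Fact.out
  intro x hx
  have hQH : Q ≤ H := hQS.trans hSH
  have hN : (D.subgroupOf H).Normal := (Subgroup.normal_subgroupOf_iff_le_normalizer hDH).2 hDn
  set N : Subgroup ↥H := D.subgroupOf H with hNdef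
  set π : ↥H →* (↥H ⧸ N) := QuotientGroup.mk' N with hπ
  have hπs : Function.Surjective π := QuotientGroup.mk'_surjective N
  have hπker : ∀ y : ↥H, π y = 1 ↔ (y : G) ∈ D := by
    intro y
    rw [hπ, QuotientGroup.mk'_apply, QuotientGroup.eq_one_iff, hNdef, Subgroup.mem_subgroupOf]
  -- the Sylow subgroup of `H`
  set TH : Subgroup ↥H := (S : Subgroup G).subgroupOf H with hTH
  have hTHp : IsPGroup p TH := S.2.comap_subtype
  have hTHidx : ¬ p ∣ TH.index := by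
    intro h
    have h1 : TH.index = (S : Subgroup G).relIndex H := rfl
    rw [h1] at h
    exact S.not_dvd_index (h.trans (Subgroup.relIndex_dvd_index_of_le hSH))
  have hTbp : IsPGroup p (TH.map π) := hTHp.map π
  have hTbidx : ¬ p ∣ (TH.map π).index := fun h => hTHidx (h.trans (TH.index_map_dvd hπs))
  set T : Sylow p (↥H ⧸ N) := hTbp.toSylow hTbidx with hT
  have hTcoe : (T : Subgroup (↥H ⧸ N)) = TH.map π := IsPGroup.toSylow_coe hTbp hTbidx
  -- `S ∩ D = 1`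
  have hSD : (S : Subgroup G) ⊓ D = ⊥ := by
    apply disjoint_iff.mp
    apply Subgroup.disjoint_of_coprime_natCard
    obtain ⟨n, hn⟩ := IsPGroup.iff_card.mp S.2
    rw [hn]
    exact Nat.Coprime.pow_left n hDc.symm
  have hinj : ∀ t ∈ TH, π t = 1 → t = 1 := by
    intro t ht h1
    have h2 : (t : G) ∈ (S : Subgroup G) ⊓ D := ⟨Subgroup.mem_subgroupOf.mp ht, (hπker t).mp h1⟩
    rw [hSD, Subgroup.mem_bot] at h2
    exact Subtype.ext h2
  -- the section is constrained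
  have hQp : IsPGroup p Q := S.2.to_le hQS
  set Qb : Subgroup (↥H ⧸ N) := (Q.subgroupOf H).map π with hQb
  have hQbn : Qb.Normal := by
    have h1 : (Q.subgroupOf H).Normal := (Subgroup.normal_subgroupOf_iff_le_normalizer hQH).2 hQn
    exact Subgroup.Normal.map h1 π hπs
  have hQbp : IsPGroup p Qb := (hQp.comap_subtype).map π
  have hQbc : Qb ≤ pCore p (↥H ⧸ N) := Cfsg.Agent.Lib.Helper54.le_pCore hQbn hQbp
  have hcY : Subgroup.centralizer ((pCore p (↥H ⧸ N) : Subgroup (↥H ⧸ N)) : Set (↥H ⧸ N)) ≤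
      pCore p (↥H ⧸ N) := by
    intro ybar hy
    apply hQbc
    have hy' : ybar ∈ Subgroup.centralizer ((Qb : Subgroup (↥H ⧸ N)) : Set (↥H ⧸ N)) :=
      Subgroup.centralizer_le hQbc hy
    obtain ⟨y, rfl⟩ := hπs ybar
    rw [Subgroup.mem_centralizer_iff] at hy'
    have hyq : ∀ q ∈ Q, (y : G) * q * (y : G)⁻¹ * q⁻¹ ∈ D := by
      intro q hq
      have hqb : π ⟨q, hQH hq⟩ ∈ Qb := ⟨⟨q, hQH hq⟩, Subgroup.mem_subgroupOf.mpr hq, rfl⟩
      have h1 := hy' _ hqb
      have h2 : π (y * ⟨q, hQH hq⟩ * y⁻¹ * (⟨q, hQH hq⟩ : ↥H)⁻¹) = 1 := by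
        rw [map_mul, map_mul, map_mul, map_inv, map_inv, ← h1]
        group
      exact (hπker _).mp h2
    obtain ⟨q, hq, d, hd, hyqd⟩ := hcon (y : G) y.2 hyq
    have h3 : y = (⟨q, hQH hq⟩ : ↥H) * ⟨d, hDH hd⟩ := Subtype.ext hyqd
    rw [h3, map_mul]
    have h4 : π ⟨d, hDH hd⟩ = 1 := (hπker _).mpr hd
    rw [h4, mul_one]
    exact ⟨⟨q, hQH hq⟩, Subgroup.mem_subgroupOf.mpr hq, rfl⟩
  -- apply the hypothesis to the image of `x⁻¹`
  obtain ⟨a, ha, b, hb, hab⟩ := @hfac H D hN hcY T (π ⟨x⁻¹, H.inv_mem hx⟩)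
  -- `π x = b⁻¹ a⁻¹`
  have hπx : π ⟨x, hx⟩ = b⁻¹ * a⁻¹ := by
    have h1 : π ⟨x, hx⟩ = (π ⟨x⁻¹, H.inv_mem hx⟩)⁻¹ := by
      have h0 : (⟨x⁻¹, H.inv_mem hx⟩ : ↥H) = (⟨x, hx⟩ : ↥H)⁻¹ := rfl
      rw [h0, map_inv, inv_inv]
    rw [h1, hab, mul_inv_rev]
  -- the functor on the image Sylow subgroup
  have hWT : inducedFunctor W' (T : Subgroup (↥H ⧸ N)) = (inducedFunctor W' TH).map π := by
    rw [hTcoe]
    exact inducedFunctor_map_injOn W' hW' π TH hTHp hinj
  have hNc : (Nat.card N).Coprime p := by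
    have : Nat.card N = Nat.card D := Nat.card_congr (Subgroup.subgroupOfEquivOfLe hDH).toEquiv
    rw [this]; exact hDc
  have hE : IsPGroup p (inducedFunctor W' TH) := hTHp.to_le (inducedFunctor_le W' TH)
  have hb' : b⁻¹ ∈ Subgroup.normalizer (((inducedFunctor W' TH).map (QuotientGroup.mk' N) :
      Subgroup (↥H ⧸ N)) : Set (↥H ⧸ N)) := by
    have := Subgroup.inv_mem _ hb
    rw [hWT] at this
    exact this
  obtain ⟨bH, hbH, hbHπ⟩ := exists_lift_normalizer_of_coprime N hNc hE b⁻¹ hb'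
  -- transport to `G`
  have hTHmap : TH.map H.subtype = (S : Subgroup G) := Subgroup.map_subgroupOf_eq_of_le hSH
  have hWS : inducedFunctor W' (S : Subgroup G) = (inducedFunctor W' TH).map H.subtype := by
    rw [← hTHmap]
    exact inducedFunctor_map_injective W' hW' H.subtype H.subtype_injective TH hTHp
  refine ⟨(bH : G), ⟨bH.2, ?_⟩, ?_⟩
  · rw [hWS]
    exact (mem_normalizer_map_iff_of_injective H.subtype H.subtype_injective _ bH).mpr hbH
  · intro z hz hzp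
    have hzS : z ∈ (S : Subgroup G) := hz.1
    set zH : ↥H := ⟨z, hSH hzS⟩ with hzH
    -- `π zH ∈ Ω₁ Z(T)`
    have hzΩ : π zH ∈ omegaOne p ((T : Subgroup (↥H ⧸ N)) ⊓
        Subgroup.centralizer ((T : Subgroup (↥H ⧸ N)) : Set (↥H ⧸ N))) := by
      apply Subgroup.subset_closure
      refine ⟨⟨?_, ?_⟩, ?_⟩
      · show π zH ∈ (T : Subgroup (↥H ⧸ N))
        rw [hTcoe]
        exact ⟨zH, Subgroup.mem_subgroupOf.mpr hzS, rfl⟩
      · show π zH ∈ Subgroup.centralizer ((T : Subgroup (↥H ⧸ N)) : Set (↥H ⧸ N))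
        rw [Subgroup.mem_centralizer_iff]
        intro t ht
        rw [SetLike.mem_coe, hTcoe] at ht
        obtain ⟨t₀, ht₀, rfl⟩ := ht
        have h1 : (t₀ : G) * z = z * (t₀ : G) :=
          (Subgroup.mem_centralizer_iff.mp hz.2) _ (Subgroup.mem_subgroupOf.mp ht₀)
        have h2 : t₀ * zH = zH * t₀ := Subtype.ext h1
        rw [← map_mul, ← map_mul, h2]
      · rw [← map_pow]
        have : zH ^ p = 1 := Subtype.ext (by simpa using hzp)
        rw [this, map_one]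
    -- `a⁻¹` commutes with `π zH`
    have ha' : a⁻¹ ∈ Subgroup.centralizer ((omegaOne p ((T : Subgroup (↥H ⧸ N)) ⊓
        Subgroup.centralizer ((T : Subgroup (↥H ⧸ N)) : Set (↥H ⧸ N))) : Subgroup (↥H ⧸ N)) :
        Set (↥H ⧸ N)) := Subgroup.inv_mem _ ha
    have hcomm := (Subgroup.mem_centralizer_iff.mp ha') _ hzΩ
    set aH : ↥H := bH⁻¹ * ⟨x, hx⟩ with haH
    have haHπ : π aH = a⁻¹ := by
      rw [haH, map_mul, map_inv, hbHπ, hπx]
      group
    have h5 : π (aH * zH * aH⁻¹ * zH⁻¹) = 1 := by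
      rw [map_mul, map_mul, map_mul, map_inv, map_inv, haHπ, ← hcomm]
      group
    have h6 := (hπker _).mp h5
    simpa [haH, hzH] using h6

end Cfsg.Agent.Lib.Helper57.TripleFac
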