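import Mathlib.GroupTheory.Transfer

set_option autoImplicit false

namespace Cfsg.Agent.Lib.Helper57

open MulAction Subgroup

variable {G : Type*} [Group G]

/-- If `φ : M →* A` kills every element of `M` of the form `a⁻¹ y a` with `y ∈ M`, `a ∉ M`
(i.e. `φ` kills `M ∩ a⁻¹ M a` for `a ∉ M`), then the transfer `G → A` restricts to `φ` on `M`. -/
theorem transfer_eq_of_forall {A : Type*} [CommGroup A] (M : Subgroup G) [M.FiniteIndex]
    (φ : M →* A)
    (hφ : ∀ a : G, a ∉ M → ∀ y : G, y ∈ M → ∀ h : a⁻¹ * y * a ∈ M, φ ⟨a⁻¹ * y * a, h⟩ = 1)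
    (m : G) (hm : m ∈ M) : MonoidHom.transfer φ m = φ ⟨m, hm⟩ := by
  classical
  have : Finite (G ⧸ M) := M.finite_quotient_of_finiteIndex
  have : Fintype (Quotient (orbitRel (zpowers m) (G ⧸ M))) := Fintype.ofFinite _
  rw [MonoidHom.transfer_eq_prod_quotient_orbitRel_zpowers_quot φ m]
  set q₀ : Quotient (orbitRel (zpowers m) (G ⧸ M)) := Quotient.mk'' ((1 : G) : G ⧸ M) with hq₀
  -- the base coset is fixed by m
  have hfix : ∀ z : zpowers m, z • ((1 : G) : G ⧸ M) = ((1 : G) : G ⧸ M) := by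
    rintro ⟨z, hz⟩
    obtain ⟨i, rfl⟩ := Subgroup.mem_zpowers_iff.mp hz
    show ((m ^ i * 1 : G) : G ⧸ M) = ((1 : G) : G ⧸ M)
    rw [QuotientGroup.eq]
    simpa using M.zpow_mem hm i
  have hout : ∀ q : Quotient (orbitRel (zpowers m) (G ⧸ M)),
      q.out.out ∈ M → q = q₀ := by
    intro q hq
    have h1 : q.out = ((1 : G) : G ⧸ M) := by
      rw [← QuotientGroup.out_eq' q.out, QuotientGroup.eq]
      simpa using hq
    rw [← Quotient.out_eq q, h1]
  rw [Finset.prod_eq_single q₀]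
  · -- the term at q₀
    have h1 : q₀.out = ((1 : G) : G ⧸ M) := by
      have h2 : Quotient.mk'' q₀.out = q₀ := Quotient.out_eq q₀
      rw [hq₀] at h2
      have h3 : (orbitRel (zpowers m) (G ⧸ M)) q₀.out ((1 : G) : G ⧸ M) := Quotient.exact h2
      rw [orbitRel_apply] at h3
      obtain ⟨z, hz⟩ := h3
      rw [← hz]
      exact hfix z
    have ha : q₀.out.out ∈ M := by
      have : ((q₀.out.out : G) : G ⧸ M) = ((1 : G) : G ⧸ M) := by
        rw [QuotientGroup.out_eq', h1]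
      rw [QuotientGroup.eq] at this
      simpa using this
    have hper : Function.minimalPeriod (m • ·) q₀.out = 1 := by
      rw [Function.minimalPeriod_eq_one_iff_isFixedPt, h1]
      exact hfix ⟨m, Subgroup.mem_zpowers m⟩
    have e : (⟨q₀.out.out⁻¹ * m ^ Function.minimalPeriod (m • ·) q₀.out * q₀.out.out,
        QuotientGroup.out_conj_pow_minimalPeriod_mem M m q₀.out⟩ : ↥M) =
        (⟨q₀.out.out, ha⟩ : ↥M)⁻¹ * ⟨m, hm⟩ * ⟨q₀.out.out, ha⟩ := by
      apply Subtype.ext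
      simp [hper]
    rw [e, map_mul, map_mul, map_inv]
    rw [mul_comm (φ ⟨q₀.out.out, ha⟩)⁻¹, mul_assoc, inv_mul_cancel, mul_one]
  · intro q _ hq
    have ha : q.out.out ∉ M := fun h => hq (hout q h)
    exact hφ _ ha _ (M.pow_mem hm _) _
  · intro h
    exact absurd (Finset.mem_univ q₀) h

end Cfsg.Agent.Lib.Helper57
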