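import Cfsg.Agent.Lib.Helper73.UNdDefs

/-!
# K-UNd S-F (keystone 595429, architect helper73): the semisimple model

`V' = (Fin j → (Fin c → F)) × (Fin e → F)` with the sum of the standard hermitian forms and the
isometry acting as `y0` on every block and trivially on the last factor
(hermitian twin of the model `VS/BS/yS` of `Helper98.Sy6`).
-/

set_option autoImplicit false

namespace Cfsg.Agent.Lib.Helper57.UNd

open Module Cfsg.Agent.Lib.Helper99.HermONB Cfsg.Agent.Lib.Helper98.Elus Cfsg.Agent.Lib.Helper73.UNd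

universe u
variable {F : Type u} [Field F]
variable {q : ℕ}

section Model

variable (c e j : ℕ)

/-- the model space: `j` blocks and a trivial part -/
abbrev VM (F : Type u) [Field F] : Type u := (Fin j → (Fin c → F)) × (Fin e → F)

/-- the form on the model space -/
def hM (q : ℕ) (u v : VM c e j F) : F :=
  ∑ s : Fin j, Cfsg.hermForm c F q (u.1 s) (v.1 s) + Cfsg.hermForm e F q u.2 v.2

variable {c e j}

/-- the model isometry -/
def yM (y0 : (Fin c → F) →ₗ[F] (Fin c → F)) : VM c e j F →ₗ[F] VM c e j F :=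
  LinearMap.prodMap (LinearMap.pi (fun s => y0.comp (LinearMap.proj s))) LinearMap.id

theorem yM_apply (y0 : (Fin c → F) →ₗ[F] (Fin c → F)) (v : VM c e j F) :
    yM y0 v = (fun s => y0 (v.1 s), v.2) := rfl

theorem yM_pow (y0 : (Fin c → F) →ₗ[F] (Fin c → F)) (k : ℕ) (v : VM c e j F) :
    (yM y0 ^ k) v = (fun s => (y0 ^ k) (v.1 s), v.2) := by
  induction k generalizing v with
  | zero => simp
  | succ k ih =>
    rw [pow_succ, Module.End.mul_apply, ih, yM_apply]
    ext s
    · simp [pow_succ, Module.End.mul_apply]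
    · rfl

theorem hM_hform [Fintype F] (hF : Fintype.card F = q ^ 2) :
    HForm q (hM c e j q : VM c e j F → VM c e j F → F) := by
  classical
  have hc := stdH_hform (F := F) hF c
  have he := stdH_hform (F := F) hF e
  refine ⟨?_, ?_, ?_, ?_⟩
  · intro x x' y
    simp only [hM, Prod.fst_add, Prod.snd_add, Pi.add_apply, hc.add_left, he.add_left,
      Finset.sum_add_distrib]
    ring
  · intro a x y
    simp only [hM, Prod.smul_fst, Prod.smul_snd, Pi.smul_apply, hc.smul_left, he.smul_left,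
      ← Finset.mul_sum]
    ring
  · intro x y
    simp only [hM]
    rw [Cfsg.Agent.Lib.Helper19.add_pow_q hF, Cfsg.Agent.Lib.Helper19.sum_pow_q hF,
      ← he.conj]
    congr 1
    apply Finset.sum_congr rfl
    intro s _
    exact hc.conj _ _
  · intro u hu
    have h1 : ∀ s, u.1 s = 0 := by
      intro s
      apply hc.nondeg
      intro w
      have := hu (Pi.single s w, 0)
      simp only [hM] at this
      rw [he.zero_right hF, add_zero, Finset.sum_eq_single s] at this
      · simpa using this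
      · intro s' _ hs'
        rw [Pi.single_eq_of_ne hs', hc.zero_right hF]
      · intro hs
        exact absurd (Finset.mem_univ s) hs
    have h2 : u.2 = 0 := by
      apply he.nondeg
      intro w
      have := hu (0, w)
      simp only [hM] at this
      rw [Finset.sum_eq_zero (fun s _ => by
        rw [Pi.zero_apply]; exact hc.zero_right hF _), zero_add] at this
      exact this
    ext
    · rw [h1]; rfl
    · rw [h2]; rfl

theorem yM_isom (y0 : (Fin c → F) →ₗ[F] (Fin c → F)) (h0 : Isom (Cfsg.hermForm c F q) y0) :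
    Isom (hM c e j q) (yM (e := e) (j := j) y0) := by
  intro u v
  simp only [hM, yM_apply, h0 _ _]

theorem yM_pow_eq_one (r : ℕ) (y0 : (Fin c → F) →ₗ[F] (Fin c → F)) (h0 : y0 ^ r = 1) :
    (yM (e := e) (j := j) y0) ^ r = 1 := by
  apply LinearMap.ext
  intro v
  rw [yM_pow, h0]
  rfl

theorem finrank_VM : finrank F (VM c e j F) = j * c + e := by
  rw [Module.finrank_prod, Module.finrank_pi_fintype, Module.finrank_pi, Module.finrank_pi]
  simp

theorem V0_yM (r : ℕ) (hrF : (r : F) ≠ 0) (y0 : (Fin c → F) →ₗ[F] (Fin c → F))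
    (hG0 : ∀ w, gsum r y0 w = 0) :
    V0 (yM (e := e) (j := j) y0) =
      LinearMap.range (LinearMap.inr F (Fin j → (Fin c → F)) (Fin e → F)) := by
  apply le_antisymm
  · intro v hv
    rw [mem_V0, yM_apply] at hv
    have h1 : ∀ s, v.1 s = 0 := by
      intro s
      have hs : y0 (v.1 s) = v.1 s := congrFun (congrArg Prod.fst hv) s
      have hs0 : v.1 s ∈ V0 y0 := (mem_V0 y0 _).mpr hs
      have h2 := gsum_apply_of_mem_V0 r y0 _ hs0
      rw [hG0] at h2
      rcases smul_eq_zero.mp h2.symm with h3 | h3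
      · exact absurd h3 hrF
      · exact h3
    refine ⟨v.2, ?_⟩
    ext
    · simp [h1]
    · simp
  · rintro _ ⟨w, rfl⟩
    rw [mem_V0, yM_apply]
    ext
    · simp
    · simp

theorem finrank_V0_yM (r : ℕ) (hrF : (r : F) ≠ 0) (y0 : (Fin c → F) →ₗ[F] (Fin c → F))
    (hG0 : ∀ w, gsum r y0 w = 0) : finrank F (V0 (yM (e := e) (j := j) y0)) = e := by
  rw [V0_yM r hrF y0 hG0, LinearMap.finrank_range_of_inj LinearMap.inr_injective,
    Module.finrank_pi, Fintype.card_fin]

theorem yM_not_scalar [Fintype F] (hF : Fintype.card F = q ^ 2) (r : ℕ)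
    (hcop : Nat.Coprime r (q + 1)) (hj : 1 ≤ j) (hc1 : 1 ≤ c)
    (y0 : (Fin c → F) →ₗ[F] (Fin c → F)) (h0 : Isom (Cfsg.hermForm c F q) y0)
    (hy0 : y0 ^ r = 1) (hne : y0 ≠ 1) : ∀ z : F, yM (e := e) (j := j) y0 ≠ z • 1 := by
  classical
  have hcF := stdH_hform (F := F) hF c
  intro z hz
  have h1 : ∀ w, y0 w = z • w := by
    intro w
    have := congrArg (fun g => (g (Pi.single ⟨0, hj⟩ w, 0)).1 ⟨0, hj⟩) hz
    simpa [yM_apply] using this
  obtain ⟨u, hu0⟩ : ∃ u : Fin c → F, u ≠ 0 := by
    refine ⟨Pi.single ⟨0, hc1⟩ 1, ?_⟩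
    intro h
    have := congrFun h ⟨0, hc1⟩
    simp at this
  have : ∃ v, Cfsg.hermForm c F q u v ≠ 0 := by
    by_contra h
    apply hu0
    apply hcF.nondeg
    intro v
    by_contra hv
    exact h ⟨v, hv⟩
  obtain ⟨v, huv⟩ := this
  have h2 := h0 u v
  rw [h1, h1, hcF.smul_left, hcF.smul_right, ← mul_assoc] at h2
  have hz2 : z ^ (q + 1) = 1 := by
    have : (z * z ^ q - 1) * Cfsg.hermForm c F q u v = 0 := by rw [sub_mul, h2, one_mul, sub_self]
    rcases mul_eq_zero.mp this with h | h
    · rw [pow_succ']; exact sub_eq_zero.mp h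
    · exact absurd h huv
  have hk : ∀ k : ℕ, ∀ w, (y0 ^ k) w = z ^ k • w := by
    intro k
    induction k with
    | zero => intro w; simp
    | succ k ih =>
      intro w
      rw [pow_succ', Module.End.mul_apply, ih, map_smul, h1, smul_smul, pow_succ]
  have hzr : z ^ r = 1 := by
    have h3 := hk r u
    rw [hy0, Module.End.one_apply] at h3
    have : (z ^ r - 1) • u = 0 := by rw [sub_smul, ← h3, one_smul, sub_self]
    rcases smul_eq_zero.mp this with h | h
    · exact sub_eq_zero.mp h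
    · exact absurd h hu0
  have hz1 : z = 1 := by
    have hd1 : orderOf z ∣ r := orderOf_dvd_of_pow_eq_one hzr
    have hd2 : orderOf z ∣ q + 1 := orderOf_dvd_of_pow_eq_one hz2
    have hd : orderOf z ∣ 1 := by
      have := Nat.dvd_gcd hd1 hd2
      rwa [Nat.Coprime.gcd_eq_one hcop] at this
    exact orderOf_eq_one_iff.mp (Nat.dvd_one.mp hd)
  apply hne
  apply LinearMap.ext
  intro w
  rw [h1, hz1, one_smul]
  rfl

end Model

/-- S-F (595429): the semisimple model. -/
theorem exists_ss_model [Fintype F] (hF : Fintype.card F = q ^ 2) (r : ℕ) [Fact r.Prime]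
    (hrF : (r : F) ≠ 0) (hcop : Nat.Coprime r (q + 1)) (c j e : ℕ) (hc : 1 ≤ c) (hj : 1 ≤ j)
    (y0 : (Fin c → F) →ₗ[F] (Fin c → F)) (h0 : Isom (Cfsg.hermForm c F q) y0) (hy0 : y0 ^ r = 1)
    (hne : y0 ≠ 1) (hG0 : ∀ w, gsum r y0 w = 0) :
    ∃ (V' : Type u) (_ : AddCommGroup V') (_ : Module F V') (_ : FiniteDimensional F V')
      (h' : V' → V' → F) (y' : V' →ₗ[F] V'),
      HForm q h' ∧ finrank F V' = j * c + e ∧ Isom h' y' ∧ y' ^ r = 1 ∧ (∀ z : F, y' ≠ z • 1) ∧
      finrank F (V0 y') = e :=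
  ⟨VM c e j F, inferInstance, inferInstance, inferInstance, hM c e j q, yM y0,
    hM_hform hF, finrank_VM, yM_isom y0 h0, yM_pow_eq_one r y0 hy0,
    yM_not_scalar hF r hcop hj hc y0 h0 hy0 hne, finrank_V0_yM r hrF y0 hG0⟩

end Cfsg.Agent.Lib.Helper57.UNd
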